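import Mathlib
import Cfsg.Prelude.Def_PLocal
import Cfsg.Agent.Lib.Cores
import Cfsg.Agent.Helper10.Thompson

/-!
# Invariance of best offenders and of `O_{p'}(H)` under automorphisms (helper1)
-/

set_option autoImplicit false

namespace Cfsg.Agent.Helper1.AutInv

open Subgroup

variable {G : Type*} [Group G]

/-- image of a centralizer under an automorphism -/
theorem map_centralizer (φ : G ≃* G) (A : Subgroup G) :
    (centralizer (A : Set G)).map φ.toMonoidHom = centralizer ((A.map φ.toMonoidHom : Subgroup G) : Set G) := by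
  ext y
  constructor
  · rintro ⟨c, hc, rfl⟩
    rw [mem_centralizer_iff]
    rintro _ ⟨a, ha, rfl⟩
    have := mem_centralizer_iff.1 hc a ha
    show φ a * φ c = φ c * φ a
    rw [← map_mul, ← map_mul, this]
  · intro hy
    refine ⟨φ.symm y, ?_, by simp⟩
    rw [SetLike.mem_coe, mem_centralizer_iff]
    intro a ha
    have := mem_centralizer_iff.1 hy (φ a) ⟨a, ha, rfl⟩
    apply φ.injective
    rw [map_mul, map_mul, MulEquiv.apply_symm_apply]
    exact this

theorem map_symm_of_map_eq (φ : G ≃* G) {V : Subgroup G} (h : V.map φ.toMonoidHom = V) :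
    V.map φ.symm.toMonoidHom = V := by
  conv_lhs => rw [← h]
  rw [Subgroup.map_map]
  have : φ.symm.toMonoidHom.comp φ.toMonoidHom = MonoidHom.id G := by
    ext x; simp
  rw [this, Subgroup.map_id]

theorem map_map_symm (φ : G ≃* G) (B : Subgroup G) :
    (B.map φ.symm.toMonoidHom).map φ.toMonoidHom = B := by
  rw [Subgroup.map_map]
  have : φ.toMonoidHom.comp φ.symm.toMonoidHom = MonoidHom.id G := by
    ext x; simp
  rw [this, Subgroup.map_id]

theorem card_map_equiv (φ : G ≃* G) (B : Subgroup G) :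
    Nat.card (B.map φ.toMonoidHom) = Nat.card B :=
  Cfsg.Agent.Helper10.card_map_of_injective B φ.toMonoidHom φ.injective

theorem card_inf_centralizer_map (φ : G ≃* G) {V : Subgroup G} (hV : V.map φ.toMonoidHom = V)
    (B : Subgroup G) :
    Nat.card ↥(V ⊓ centralizer ((B.map φ.toMonoidHom : Subgroup G) : Set G)) =
      Nat.card ↥(V ⊓ centralizer (B : Set G)) := by
  rw [← map_centralizer]
  conv_lhs => rw [← hV]
  rw [← Subgroup.map_inf _ _ _ φ.injective, card_map_equiv]

/-- best offenders are mapped to best offenders by automorphisms fixing `V` -/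
theorem bestOffender_map {p : ℕ} (φ : G ≃* G) {V A : Subgroup G} (hV : V.map φ.toMonoidHom = V)
    (hA : Cfsg.IsBestOffenderOn p V A) : Cfsg.IsBestOffenderOn p V (A.map φ.toMonoidHom) := by
  have hcV : (centralizer (V : Set G)).map φ.toMonoidHom = centralizer (V : Set G) := by
    rw [map_centralizer, hV]
  refine ⟨?_, ?_, ?_⟩
  · intro B hB
    have hB' : B.map φ.symm.toMonoidHom ≤ A := by
      have := Subgroup.map_mono (f := φ.symm.toMonoidHom) hB
      rwa [Subgroup.map_map, show φ.symm.toMonoidHom.comp φ.toMonoidHom = MonoidHom.id G from by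
        ext x; simp, Subgroup.map_id] at this
    have h1 := hA.1 _ hB'
    rw [← card_map_equiv φ (B.map φ.symm.toMonoidHom),
      ← card_inf_centralizer_map φ hV (B.map φ.symm.toMonoidHom), map_map_symm,
      ← card_map_equiv φ A, ← card_inf_centralizer_map φ hV A] at h1
    exact h1
  · rw [← Subgroup.map_commutator, ← hcV]
    exact Subgroup.map_mono hA.2.1
  · rintro _ ⟨a, ha, rfl⟩
    rw [← hcV]
    exact ⟨a ^ p, hA.2.2 a ha, by simp⟩

/-- internal description of `O_{p'}(H)` -/
def Qint (p : ℕ) (H : Subgroup G) : Subgroup G :=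
  sSup {N : Subgroup G | N ≤ H ∧ H ≤ normalizer (N : Set G) ∧ (Nat.card N).Coprime p}

theorem Qc_eq_Qint [Finite G] (p : ℕ) (H : Subgroup G) :
    (Cfsg.pPrimeCore p ↥H).map H.subtype = Qint p H := by
  apply le_antisymm
  · unfold Cfsg.pPrimeCore
    rw [Subgroup.map_le_iff_le_comap]
    apply sSup_le
    rintro N' ⟨hN'n, hN'c⟩
    rw [← Subgroup.map_le_iff_le_comap]
    apply le_sSup
    refine ⟨Subgroup.map_subtype_le _, ?_, ?_⟩
    · intro h hh
      have key : ∀ h : G, ∀ hh : h ∈ H, ∀ x ∈ N'.map H.subtype, h * x * h⁻¹ ∈ N'.map H.subtype := by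
        rintro h hh _ ⟨n, hn, rfl⟩
        exact ⟨⟨h, hh⟩ * n * ⟨h, hh⟩⁻¹, hN'n.conj_mem n hn _, by simp⟩
      rw [mem_normalizer_iff]
      intro x
      constructor
      · exact key h hh x
      · intro hx
        have := key h⁻¹ (H.inv_mem hh) _ hx
        simpa [mul_assoc] using this
    · rwa [Cfsg.Agent.Helper10.card_map_of_injective _ _ H.subtype_injective]
  · apply sSup_le
    rintro N ⟨hNH, hHN, hNc⟩
    have h1 : (N.subgroupOf H).Normal := Subgroup.normal_subgroupOf_of_le_normalizer hHN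
    have h2 : (Nat.card (N.subgroupOf H)).Coprime p := by
      rwa [Nat.card_congr (Subgroup.subgroupOfEquivOfLe hNH).toEquiv]
    have h3 := Cfsg.Agent.Lib.le_pPrimeCore h1 h2
    have h4 := Subgroup.map_mono (f := H.subtype) h3
    rwa [Subgroup.subgroupOf_map_subtype, inf_eq_left.mpr hNH] at h4

theorem Qint_map_le {p : ℕ} (φ : G ≃* G) {H : Subgroup G} (hH : H.map φ.toMonoidHom = H) :
    (Qint p H).map φ.toMonoidHom ≤ Qint p H := by
  unfold Qint
  rw [Subgroup.map_le_iff_le_comap]
  apply sSup_le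
  rintro N ⟨hNH, hHN, hNc⟩
  rw [← Subgroup.map_le_iff_le_comap]
  apply le_sSup
  refine ⟨?_, ?_, ?_⟩
  · rw [← hH]; exact Subgroup.map_mono hNH
  · rw [← Subgroup.map_equiv_normalizer_eq N φ]
    conv_lhs => rw [← hH]
    exact Subgroup.map_mono hHN
  · rwa [card_map_equiv]

theorem Qint_map {p : ℕ} (φ : G ≃* G) {H : Subgroup G} (hH : H.map φ.toMonoidHom = H) :
    (Qint p H).map φ.toMonoidHom = Qint p H := by
  apply le_antisymm (Qint_map_le φ hH)
  have h1 := Qint_map_le (p := p) φ.symm (map_symm_of_map_eq φ hH)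
  have h2 := Subgroup.map_mono (f := φ.toMonoidHom) h1
  rwa [map_map_symm] at h2

theorem Qc_map [Finite G] {p : ℕ} (φ : G ≃* G) {H : Subgroup G} (hH : H.map φ.toMonoidHom = H) :
    ((Cfsg.pPrimeCore p ↥H).map H.subtype).map φ.toMonoidHom =
      (Cfsg.pPrimeCore p ↥H).map H.subtype := by
  rw [Qc_eq_Qint, Qint_map φ hH]

/-- minimal nontrivially acting best offenders in `H` -/
def IsMinOff (p : ℕ) (V H A : Subgroup G) : Prop :=
  A ≤ H ∧ Cfsg.IsBestOffenderOn p V A ∧ ⁅V, A⁆ ≠ ⊥ ∧
    ∀ B : Subgroup G, B ≤ A → Cfsg.IsBestOffenderOn p V B → ⁅V, B⁆ ≠ ⊥ → B = A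

theorem isMinOff_map {p : ℕ} (φ : G ≃* G) {V H A : Subgroup G} (hV : V.map φ.toMonoidHom = V)
    (hH : H.map φ.toMonoidHom = H) (hA : IsMinOff p V H A) :
    IsMinOff p V H (A.map φ.toMonoidHom) := by
  obtain ⟨hAH, hbo, hne, hmin⟩ := hA
  refine ⟨?_, bestOffender_map φ hV hbo, ?_, ?_⟩
  · rw [← hH]; exact Subgroup.map_mono hAH
  · conv_lhs => rw [← hV]
    rw [← Subgroup.map_commutator, Ne, Subgroup.map_eq_bot_iff_of_injective _ φ.injective]
    exact hne
  · intro B hBA hB hBV
    have hV' := map_symm_of_map_eq φ hV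
    have h1 : B.map φ.symm.toMonoidHom ≤ A := by
      have := Subgroup.map_mono (f := φ.symm.toMonoidHom) hBA
      rwa [Subgroup.map_map, show φ.symm.toMonoidHom.comp φ.toMonoidHom = MonoidHom.id G from by
        ext x; simp, Subgroup.map_id] at this
    have h2 : ⁅V, B.map φ.symm.toMonoidHom⁆ ≠ ⊥ := by
      conv_lhs => rw [← hV']
      rw [← Subgroup.map_commutator, Ne, Subgroup.map_eq_bot_iff_of_injective _ φ.symm.injective]
      exact hBV
    have h3 := hmin _ h1 (bestOffender_map φ.symm hV' hB) h2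
    rw [← h3, map_map_symm]

/-- the subgroup `E_A = [O_{p'}(H), A] A` -/
def EE (p : ℕ) (H A : Subgroup G) : Subgroup G :=
  ⁅((Cfsg.pPrimeCore p ↥H).map H.subtype), A⁆ ⊔ A

theorem EE_map [Finite G] {p : ℕ} (φ : G ≃* G) {H : Subgroup G} (hH : H.map φ.toMonoidHom = H)
    (A : Subgroup G) : (EE p H A).map φ.toMonoidHom = EE p H (A.map φ.toMonoidHom) := by
  unfold EE
  rw [Subgroup.map_sup, Subgroup.map_commutator, Qc_map φ hH]

end Cfsg.Agent.Helper1.AutInv
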