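import Cfsg.Agent.Helper57.BP.PartI
import Cfsg.Agent.S4701

/-!
# Piece (P12a) of helper16's S4705 farm (#9804): `C_G(P) = P Z(G)`
-/

set_option autoImplicit false
set_option linter.unusedSectionVars false

namespace Cfsg.Agent.Helper1.B66

open Cfsg Cfsg.Agent.Helper16 Cfsg.Agent.Helper16.DefOne Cfsg.Agent.Helper82.DefOne
  Cfsg.Agent.Helper77.DefOne Cfsg.Agent.Helper57.BH Cfsg.Agent.Helper57.BP
open scoped ComplexConjugate

universe u

variable {G : Type u} [Group G] [Fintype G] {p : ℕ} [Fact p.Prime] (P : Sylow p G)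

/-- (P12a) `C_G(P) = P Z(G)` -/
theorem exists_mul_of_mem_cen (hP : Nat.card P = p)
    (hcent : ∀ c : cen P, ¬ p ∣ orderOf c → (c : G) ∈ Subgroup.center G)
    (c : G) (hc : c ∈ cen P) :
    ∃ x : G, x ∈ (P : Subgroup G) ∧ ∃ z : G, z ∈ Subgroup.center G ∧ c = x * z := by
  classical
  obtain ⟨u, y, hu, hy, huy, ⟨k, hk⟩, hyreg⟩ :=
    Helper70.DefOneXG.exists_pPart_decomp (p := p) c
  have hzc : Subgroup.zpowers c ≤ cen P := by
    rw [Subgroup.zpowers_le]
    exact hc
  have huC : u ∈ cen P := hzc hu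
  have hyC : y ∈ cen P := hzc hy
  have huN : u ∈ Subgroup.normalizer ((P : Subgroup G) : Set G) :=
    Subgroup.centralizer_le_normalizer (G := G) ((P : Subgroup G) : Set G) huC
  have huP : u ∈ (P : Subgroup G) := Helper70.DefOneXG.mem_sylow_of_pow P hk huN
  have hyZ : y ∈ Subgroup.center G := by
    have := hcent ⟨y, hyC⟩ (by
      rw [← Subgroup.orderOf_coe]
      exact hyreg)
    exact this
  exact ⟨u, huP, y, hyZ, huy.symm⟩

end Cfsg.Agent.Helper1.B66
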