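import Cfsg.Agent.Helper1.CoprimeAction

set_option autoImplicit false

namespace Cfsg.Agent.Helper1

open Subgroup Pointwise

universe u

variable {G : Type u} [Group G]

theorem mem_normalizer_of_conj_smul_eq {g : G} {S : Subgroup G} (h : MulAut.conj g • S = S) :
    g ∈ Subgroup.normalizer (S : Set G) := by
  rw [Subgroup.mem_normalizer_iff]
  intro x
  constructor
  · intro hx
    have := conj_mem_conj_smul (g := g) hx
    rwa [h] at this
  · intro hx
    rw [← h, mem_conj_smul] at hx
    simpa [mul_assoc] using hx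

theorem conj_smul_eq_of_mem_normalizer {g : G} {S : Subgroup G}
    (h : g ∈ Subgroup.normalizer (S : Set G)) : MulAut.conj g • S = S := by
  ext x
  rw [mem_conj_smul]
  have h1 := Subgroup.mem_normalizer_iff.mp (Subgroup.inv_mem _ h) x
  simp only [inv_inv] at h1
  exact h1.symm

theorem map_subtype_conj_smul (K : Subgroup G) (k : K) (S : Subgroup K) :
    (MulAut.conj k • S).map K.subtype = MulAut.conj (k : G) • S.map K.subtype := by
  ext x
  rw [mem_conj_smul]
  constructor
  · rintro ⟨y, hy, rfl⟩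
    have hy' : y ∈ MulAut.conj k • S := hy
    rw [mem_conj_smul] at hy'
    exact ⟨k⁻¹ * y * k, hy', by simp⟩
  · rintro ⟨s, hs, hsx⟩
    refine ⟨k * s * k⁻¹, conj_mem_conj_smul hs, ?_⟩
    simp only [Subgroup.coe_subtype, Subgroup.coe_mul, Subgroup.coe_inv]
    have : (s : G) = (k : G)⁻¹ * x * k := hsx
    rw [this]; simp [mul_assoc]

/-- the conjugation action of `G` on its subgroups -/
@[reducible] def conjActSubgroup (G : Type u) [Group G] : MulAction G (Subgroup G) :=
  MulAction.compHom (Subgroup G) (MulAut.conj : G →* MulAut G)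

section
variable [Finite G]

/-- the set of (images in `G` of) Sylow `p`-subgroups of `K` -/
def sylowSet (p : ℕ) (K : Subgroup G) : Set (Subgroup G) :=
  {S | ∃ P : Sylow p K, S = (P : Subgroup K).map K.subtype}

theorem conj_mem_sylowSet {p : ℕ} [Fact p.Prime] {K : Subgroup G} {a : G}
    (ha : a ∈ Subgroup.normalizer (K : Set G)) {S : Subgroup G} (hS : S ∈ sylowSet p K) :
    MulAut.conj a • S ∈ sylowSet p K := by
  obtain ⟨P, rfl⟩ := hS
  have hle : MulAut.conj a • (P : Subgroup K).map K.subtype ≤ K := by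
    intro x hx
    rw [mem_conj_smul] at hx
    obtain ⟨y, -, hy⟩ := hx
    have h1 : a⁻¹ * x * a ∈ K := hy ▸ y.2
    have := (Subgroup.mem_normalizer_iff.mp ha _).mp h1
    simpa [mul_assoc] using this
  have hcard : Nat.card ((MulAut.conj a • (P : Subgroup K).map K.subtype).subgroupOf K) =
      p ^ (Nat.card K).factorization p := by
    rw [card_subgroupOf_of_le hle, card_conj_smul, ← P.card_eq_multiplicity]
    exact (Nat.card_congr
      ((P : Subgroup K).equivMapOfInjective _ (Subgroup.subtype_injective K)).toEquiv).symm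
  refine ⟨Sylow.ofCard _ hcard, ?_⟩
  rw [Sylow.coe_ofCard, Subgroup.subgroupOf_map_subtype, inf_eq_left.mpr hle]

/-- Under coprime action there is an invariant Sylow subgroup. -/
theorem exists_invariant_sylow (A K : Subgroup G) (hAK : A ≤ Subgroup.normalizer (K : Set G))
    (hcop : (Nat.card A).Coprime (Nat.card K)) (hsolv : Group.IsSolvable A ∨ Group.IsSolvable K)
    (p : ℕ) [Fact p.Prime] :
    ∃ P : Sylow p K, A ≤ Subgroup.normalizer ((P : Subgroup K).map K.subtype : Set G) := by
  letI := conjActSubgroup G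
  have hsmul : ∀ (g : G) (S : Subgroup G), g • S = MulAut.conj g • S := fun _ _ => rfl
  obtain ⟨⟨S, ⟨P, rfl⟩, hfix⟩, -⟩ := glauberman_ambient (Ω := Subgroup G) A K hAK hcop hsolv
    (sylowSet p K)
    (by obtain ⟨P⟩ : Nonempty (Sylow p K) := inferInstance; exact ⟨_, P, rfl⟩)
    (fun k hk S hS => by
      rw [hsmul]; exact conj_mem_sylowSet (Subgroup.le_normalizer hk) hS)
    (fun a ha S hS => by
      rw [hsmul]; exact conj_mem_sylowSet (hAK ha) hS)
    (by
      rintro _ ⟨P, rfl⟩ _ ⟨Q, rfl⟩
      obtain ⟨k, hk⟩ := MulAction.exists_smul_eq K P Q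
      refine ⟨k, k.2, ?_⟩
      rw [hsmul, ← map_subtype_conj_smul, ← hk, Sylow.coe_subgroup_smul])
  refine ⟨P, fun a ha => mem_normalizer_of_conj_smul_eq ?_⟩
  rw [← hsmul]; exact hfix a ha

/-- Under coprime action two invariant Sylow subgroups are conjugate under the fixed points. -/
theorem invariant_sylow_conj (A K : Subgroup G) (hAK : A ≤ Subgroup.normalizer (K : Set G))
    (hcop : (Nat.card A).Coprime (Nat.card K)) (hsolv : Group.IsSolvable A ∨ Group.IsSolvable K)
    (p : ℕ) [Fact p.Prime] (P Q : Sylow p K)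
    (hP : A ≤ Subgroup.normalizer ((P : Subgroup K).map K.subtype : Set G))
    (hQ : A ≤ Subgroup.normalizer ((Q : Subgroup K).map K.subtype : Set G)) :
    ∃ c ∈ K ⊓ Subgroup.centralizer (A : Set G),
      MulAut.conj c • (P : Subgroup K).map K.subtype = (Q : Subgroup K).map K.subtype := by
  letI := conjActSubgroup G
  have hsmul : ∀ (g : G) (S : Subgroup G), g • S = MulAut.conj g • S := fun _ _ => rfl
  obtain ⟨-, h2⟩ := glauberman_ambient (Ω := Subgroup G) A K hAK hcop hsolv
    (sylowSet p K)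
    (by obtain ⟨P⟩ : Nonempty (Sylow p K) := inferInstance; exact ⟨_, P, rfl⟩)
    (fun k hk S hS => by
      rw [hsmul]; exact conj_mem_sylowSet (Subgroup.le_normalizer hk) hS)
    (fun a ha S hS => by
      rw [hsmul]; exact conj_mem_sylowSet (hAK ha) hS)
    (by
      rintro _ ⟨P, rfl⟩ _ ⟨Q, rfl⟩
      obtain ⟨k, hk⟩ := MulAction.exists_smul_eq K P Q
      refine ⟨k, k.2, ?_⟩
      rw [hsmul, ← map_subtype_conj_smul, ← hk, Sylow.coe_subgroup_smul])
  obtain ⟨c, hc, hcPQ⟩ := h2 _ ⟨P, rfl⟩ _ ⟨Q, rfl⟩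
    (fun a ha => by rw [hsmul]; exact conj_smul_eq_of_mem_normalizer (hP ha))
    (fun a ha => by rw [hsmul]; exact conj_smul_eq_of_mem_normalizer (hQ ha))
  exact ⟨c, hc, hcPQ⟩

end

end Cfsg.Agent.Helper1
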