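import Mathlib
import Cfsg.Prelude.Def_OddOrderLocal
import Cfsg.Agent.Helper68.BG12A
import Cfsg.Agent.Helper71.BGHall
import Cfsg.Agent.Helper62.CoprimeHall
import Cfsg.Agent.Helper76.AbelSqConj
import Cfsg.Agent.Helper54.FrobAct2
import Cfsg.Agent.Helper24.Coprime

/-!
# B-G Theorem 12.12 (statement S1421), part A: the assembly (helper1)

Given, for every prime `p ∈ τ₂(M)` dividing `|E|`, a normal abelian Sylow `p`-subgroup `S_p` of `E`
and an `E`-invariant cyclic subgroup `Z_p ≤ S_p` of order `exp S_p` all of whose elements of order `p`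
act fixed-point-freely on `M_σ`, we build `A₀` and `E₀`.
-/

set_option autoImplicit false
set_option linter.unusedVariables false
set_option linter.unusedSectionVars false

namespace Cfsg.Agent.Helper1.BG1212

open Cfsg

variable {G : Type*} [Group G]

/-! ### `π`-elements -/

/-- `x` is a `π`-element -/
def PiElt (π : Set ℕ) (x : G) : Prop := ∀ q : ℕ, q.Prime → q ∣ orderOf x → q ∈ π

theorem piElt_one (π : Set ℕ) : PiElt π (1 : G) := by
  intro q hq hd
  rw [orderOf_one] at hd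
  exact absurd (Nat.dvd_one.1 hd) hq.ne_one

theorem PiElt.mul_of_commute {π : Set ℕ} {x y : G} (hc : Commute x y) (hx : PiElt π x)
    (hy : PiElt π y) : PiElt π (x * y) := by
  intro q hq hd
  have h1 : q ∣ Nat.lcm (orderOf x) (orderOf y) := hd.trans hc.orderOf_mul_dvd_lcm
  have h2 : q ∣ orderOf x * orderOf y := h1.trans (Nat.lcm_dvd_mul _ _)
  rcases (hq.dvd_mul).1 h2 with h | h
  · exact hx q hq h
  · exact hy q hq h

theorem piElt_of_pow_prime_pow {π : Set ℕ} {p k : ℕ} (hp : p.Prime) (hpπ : p ∈ π) {x : G}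
    (hx : x ^ p ^ k = 1) : PiElt π x := by
  intro q hq hd
  have h1 : q ∣ p ^ k := hd.trans (orderOf_dvd_of_pow_eq_one hx)
  have h2 : q ∣ p := hq.dvd_of_dvd_pow h1
  have h3 : q = p := (Nat.prime_dvd_prime_iff_eq hq hp).1 h2
  rw [h3]; exact hpπ

theorem eq_one_of_piElt_of_piElt_compl [Finite G] {π : Set ℕ} {x : G} (h1 : PiElt π x)
    (h2 : ∀ q : ℕ, q.Prime → q ∣ orderOf x → q ∉ π) : x = 1 := by
  by_contra hne
  have ho : orderOf x ≠ 1 := fun h => hne (orderOf_eq_one_iff.1 h)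
  have hq := Nat.minFac_prime ho
  exact h2 _ hq (Nat.minFac_dvd _) (h1 _ hq (Nat.minFac_dvd _))

/-- the `q`-part of an element: a power of `x` of order `q ^ v_q(orderOf x)` -/
theorem exists_pow_orderOf_eq_prime_pow [Finite G] (x : G) {q : ℕ} (hq : q.Prime) :
    ∃ m : ℕ, orderOf (x ^ m) = q ^ (orderOf x).factorization q ∧
      (m.Coprime q) ∧ orderOf (x ^ q ^ (orderOf x).factorization q) = m := by
  set n := orderOf x with hn
  have hn0 : n ≠ 0 := (orderOf_pos x).ne'
  set v := n.factorization q with hv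
  have hdvd : q ^ v ∣ n := Nat.ordProj_dvd n q
  refine ⟨n / q ^ v, ?_, ?_, ?_⟩
  · rw [orderOf_pow' x, ← hn]
    · have h1 : Nat.gcd n (n / q ^ v) = n / q ^ v :=
        Nat.gcd_eq_right (Nat.div_dvd_of_dvd hdvd)
      rw [h1]
      exact Nat.div_div_self hdvd hn0
    · intro h0
      have : n / q ^ v ≠ 0 := by
        have hpos : 0 < n / q ^ v :=
          Nat.div_pos (Nat.le_of_dvd (Nat.pos_of_ne_zero hn0) hdvd) (pow_pos hq.pos _)
        omega
      exact this h0
  · exact Nat.coprime_ordCompl hq hn0 |>.symm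
  · rw [orderOf_pow' x (pow_pos hq.pos _).ne', ← hn, Nat.gcd_eq_right hdvd]

/-! ### families of commuting normal `p`-subgroups of `E` -/

/-- a family `p ↦ S_p` of abelian `p`-subgroups of `E`, each normalized by `E` -/
structure Fam (E : Subgroup G) (Sf : ℕ → Subgroup G) : Prop where
  le : ∀ p, Sf p ≤ E
  norm : ∀ p, E ≤ Subgroup.normalizer (Sf p : Set G)
  comm : ∀ p, ∀ x ∈ Sf p, ∀ y ∈ Sf p, x * y = y * x
  pgrp : ∀ p, ∀ x ∈ Sf p, x ≠ 1 → p.Prime ∧ ∃ k : ℕ, x ^ p ^ k = 1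

namespace Fam

variable {E : Subgroup G} {Sf : ℕ → Subgroup G}

theorem commute_cross [Finite G] (h : Fam E Sf) {p q : ℕ} (hpq : p ≠ q) {x y : G} (hx : x ∈ Sf p)
    (hy : y ∈ Sf q) : x * y = y * x := by
  set c := x * y * x⁻¹ * y⁻¹ with hc
  have hcq : c ∈ Sf q := by
    have h1 : x * y * x⁻¹ ∈ Sf q :=
      (Subgroup.mem_normalizer_iff.1 (h.norm q (h.le p hx)) y).1 hy
    exact (Sf q).mul_mem h1 ((Sf q).inv_mem hy)
  have hcp : c ∈ Sf p := by
    have h1 : y * x⁻¹ * y⁻¹ ∈ Sf p :=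
      (Subgroup.mem_normalizer_iff.1 (h.norm p (h.le q hy)) x⁻¹).1 ((Sf p).inv_mem hx)
    have e : c = x * (y * x⁻¹ * y⁻¹) := by rw [hc]; group
    rw [e]; exact (Sf p).mul_mem hx h1
  have hc1 : c = 1 := by
    by_contra hne
    obtain ⟨hp, k, hk⟩ := h.pgrp p c hcp hne
    obtain ⟨hq, l, hl⟩ := h.pgrp q c hcq hne
    have h1 : orderOf c ∣ p ^ k := orderOf_dvd_of_pow_eq_one hk
    have h2 : orderOf c ∣ q ^ l := orderOf_dvd_of_pow_eq_one hl
    have hcop : (p ^ k).Coprime (q ^ l) :=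
      Nat.Coprime.pow _ _ ((Nat.coprime_primes hp hq).2 hpq)
    have h3 : orderOf c = 1 := Nat.eq_one_of_dvd_coprimes hcop h1 h2
    exact hne (orderOf_eq_one_iff.1 h3)
  have e : x * y = c * (y * x) := by rw [hc]; group
  rw [e, hc1, one_mul]

theorem commute_iSup [Finite G] (h : Fam E Sf) {x y : G} (hx : x ∈ ⨆ p, Sf p)
    (hy : y ∈ ⨆ p, Sf p) : x * y = y * x := by
  have key : ∀ q, ∀ y ∈ Sf q, ∀ x ∈ ⨆ p, Sf p, x * y = y * x := by
    intro q y hy x hx
    refine Subgroup.iSup_induction Sf (C := fun x => x * y = y * x) hx ?_ ?_ ?_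
    · intro p x hx
      by_cases hpq : p = q
      · subst hpq; exact h.comm p x hx y hy
      · exact h.commute_cross hpq hx hy
    · simp
    · intro a b ha hb
      rw [mul_assoc, hb, ← mul_assoc, ha, mul_assoc]
  refine Subgroup.iSup_induction Sf (C := fun y => x * y = y * x) hy ?_ ?_ ?_
  · intro q y hy
    exact key q y hy x hx
  · simp
  · intro a b ha hb
    rw [← mul_assoc, ha, mul_assoc, hb, ← mul_assoc]

theorem iSup_le (h : Fam E Sf) : (⨆ p, Sf p) ≤ E := _root_.iSup_le h.le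

theorem le_normalizer_iSup (h : Fam E Sf) :
    E ≤ Subgroup.normalizer ((⨆ p, Sf p : Subgroup G) : Set G) :=
  Cfsg.Agent.Helper76.le_normalizer_iSup E Sf h.norm

theorem piElt_iSup [Finite G] (h : Fam E Sf) (π : Set ℕ) (hπ : ∀ p, Sf p ≠ ⊥ → p ∈ π) {x : G}
    (hx : x ∈ ⨆ p, Sf p) : PiElt π x := by
  refine Subgroup.iSup_induction' Sf (C := fun x _ => PiElt π x) ?_ ?_ ?_ hx
  · intro p x hx
    by_cases hx1 : x = 1
    · subst hx1; exact piElt_one π
    · obtain ⟨hp, k, hk⟩ := h.pgrp p x hx hx1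
      have hne : Sf p ≠ ⊥ := by
        intro hb; rw [hb, Subgroup.mem_bot] at hx; exact hx1 hx
      exact piElt_of_pow_prime_pow hp (hπ p hne) hk
  · exact piElt_one π
  · intro a b ha hb hCa hCb
    exact PiElt.mul_of_commute (h.commute_iSup ha hb) hCa hCb

/-- in the join of the family, an element killed by the prime `q` lies in the `q`-th member -/
theorem mem_of_pow_prime_eq_one [Finite G] (h : Fam E Sf) {q : ℕ} (hq : q.Prime) {y : G}
    (hy : y ∈ ⨆ p, Sf p) (hyq : y ^ q = 1) : y ∈ Sf q := by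
  have key : ∃ n : ℕ, n.Coprime q ∧ y ^ n ∈ Sf q := by
    refine Subgroup.iSup_induction' Sf
      (C := fun y _ => ∃ n : ℕ, n.Coprime q ∧ y ^ n ∈ Sf q) ?_ ?_ ?_ hy
    · intro p y hy
      by_cases hpq : p = q
      · subst hpq
        exact ⟨1, Nat.coprime_one_left _, by simpa using hy⟩
      · by_cases hy1 : y = 1
        · subst hy1
          exact ⟨1, Nat.coprime_one_left _, by simp⟩
        · obtain ⟨hp, k, hk⟩ := h.pgrp p y hy hy1
          refine ⟨p ^ k, Nat.Coprime.pow_left _ ((Nat.coprime_primes hp hq).2 hpq), ?_⟩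
          rw [hk]; exact (Sf q).one_mem
    · exact ⟨1, Nat.coprime_one_left _, by simp⟩
    · intro a b ha hb hCa hCb
      obtain ⟨n, hn, hna⟩ := hCa
      obtain ⟨m, hm, hmb⟩ := hCb
      refine ⟨n * m, Nat.Coprime.mul_left hn hm, ?_⟩
      have hcab : Commute a b := h.commute_iSup ha hb
      rw [hcab.mul_pow]
      have e1 : a ^ (n * m) = (a ^ n) ^ m := pow_mul a n m
      have e2 : b ^ (n * m) = (b ^ m) ^ n := by rw [mul_comm n m]; exact pow_mul b m n
      rw [e1, e2]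
      exact (Sf q).mul_mem ((Sf q).pow_mem hna m) ((Sf q).pow_mem hmb n)
  obtain ⟨n, hn, hny⟩ := key
  exact Cfsg.Agent.Helper54.FA.mem_of_pow_mem_coprime hn hny (by rw [hyq]; exact (Sf q).one_mem)

end Fam

/-! ### the primes of `E` -/

open Cfsg.Agent.Helper68.BG12

theorem mem_tau_of_dvd [Finite G] {M E : Subgroup G} (hctx : ECtx M E) {q : ℕ} (hq : q.Prime)
    (hd : q ∣ Nat.card E) : q ∈ Cfsg.tau1 M ∪ Cfsg.tau3 M ∨ q ∈ Cfsg.tau2 M := by
  have hns : q ∉ Cfsg.sigma M := hctx.not_sigma_of_dvd q hq hd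
  have hdM : q ∣ Nat.card M := hd.trans (Subgroup.card_dvd_of_le hctx.le)
  have hr2 : Cfsg.PRankLE q 2 M := by
    by_contra hr
    exact hns (hctx.alpha_sub ⟨hq, hr⟩)
  by_cases hr1 : Cfsg.PRankLE q 1 M
  · left
    by_cases hd' : q ∣ Nat.card ↥⁅M, M⁆
    · exact Or.inr ⟨hq, hns, hd', hr1⟩
    · exact Or.inl ⟨hq, hns, hdM, hd', hr1⟩
  · exact Or.inr ⟨hq, hns, hr2, hr1⟩

theorem centralizer_singleton_le_pow (x : G) (k : ℕ) :
    Subgroup.centralizer ({x} : Set G) ≤ Subgroup.centralizer ({x ^ k} : Set G) := by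
  intro z hz
  rw [Subgroup.mem_centralizer_iff] at hz ⊢
  intro y hy
  rw [Set.mem_singleton_iff] at hy
  subst hy
  have h1 : x * z = z * x := hz x rfl
  exact ((Commute.pow_left (show Commute x z from h1) k)).eq

theorem exists_mul_of_mem_sup' {D C : Subgroup G} (h : D ≤ Subgroup.normalizer (C : Set G))
    {x : G} (hx : x ∈ D ⊔ C) : ∃ d ∈ D, ∃ c ∈ C, x = d * c := by
  have h1 : x ∈ ((D ⊔ C : Subgroup G) : Set G) := hx
  rw [Subgroup.coe_mul_of_left_le_normalizer_right D C h] at h1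
  obtain ⟨d, hd, c, hc, rfl⟩ := Set.mem_mul.mp h1
  exact ⟨d, hd, c, hc, rfl⟩

/-! ### the data attached to a prime of `τ₂(M)` -/

/-- the data attached to a prime `p ∈ τ₂(M)` dividing `|E|`: a normal abelian Sylow `p`-subgroup `S`
of `E` and an `E`-invariant subgroup `Z ≤ S` containing an element of order `exp S`, all of whose
elements of order `p` act fixed-point-freely on `M_σ` -/
def PerPrime (M E : Subgroup G) (p : ℕ) : Prop :=
  ∃ S Z : Subgroup G,
    S ≤ E ∧ E ≤ Subgroup.normalizer (S : Set G) ∧ (∀ x ∈ S, ∀ y ∈ S, x * y = y * x) ∧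
    (∀ x ∈ S, ∃ k : ℕ, x ^ p ^ k = 1) ∧ (∀ x ∈ E, (∃ k : ℕ, x ^ p ^ k = 1) → x ∈ S) ∧
    Z ≤ S ∧ E ≤ Subgroup.normalizer (Z : Set G) ∧
    (∃ g ∈ Z, ∀ s ∈ S, orderOf s ∣ orderOf g) ∧
    ∀ x ∈ Z, x ≠ 1 → x ^ p = 1 →
      Cfsg.sigmaCore M ⊓ Subgroup.centralizer ({x} : Set G) = ⊥

/-- **Assembly.** -/
theorem assemble [Finite G] {M E : Subgroup G} (hctx : ECtx M E)
    (hh : ∀ e ∈ E, e ≠ 1 →
      (∀ p : ℕ, p.Prime → p ∣ orderOf e → p ∈ Cfsg.tau1 M ∪ Cfsg.tau3 M) →
      Cfsg.sigmaCore M ⊓ Subgroup.centralizer ({e} : Set G) = ⊥)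
    (hdata : ∀ p : ℕ, p.Prime → p ∈ Cfsg.tau2 M → p ∣ Nat.card E → PerPrime M E p) :
    (∃ A₀ : Subgroup G, A₀ ≤ E ∧ E ≤ Subgroup.normalizer (A₀ : Set G) ∧ IsMulCommutative A₀ ∧
        ∀ x ∈ Cfsg.sigmaCore M, x ≠ 1 → E ⊓ Subgroup.centralizer ({x} : Set G) ≤ A₀) ∧
      ∃ E₀ : Subgroup G, E₀ ≤ E ∧ Monoid.exponent E₀ = Monoid.exponent E ∧
        ∀ e ∈ E₀, e ≠ 1 → Cfsg.sigmaCore M ⊓ Subgroup.centralizer ({e} : Set G) = ⊥ := by
  classical
  haveI : Group.IsSolvable ↥E := hctx.solvable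
  -- choose the data, with default `⊥`
  have hdata' : ∀ p : ℕ, ∃ S Z : Subgroup G,
      ((p.Prime ∧ p ∈ Cfsg.tau2 M ∧ p ∣ Nat.card E) →
        (S ≤ E ∧ E ≤ Subgroup.normalizer (S : Set G) ∧ (∀ x ∈ S, ∀ y ∈ S, x * y = y * x) ∧
        (∀ x ∈ S, ∃ k : ℕ, x ^ p ^ k = 1) ∧ (∀ x ∈ E, (∃ k : ℕ, x ^ p ^ k = 1) → x ∈ S) ∧
        Z ≤ S ∧ E ≤ Subgroup.normalizer (Z : Set G) ∧
        (∃ g ∈ Z, ∀ s ∈ S, orderOf s ∣ orderOf g) ∧
        ∀ x ∈ Z, x ≠ 1 → x ^ p = 1 →
          Cfsg.sigmaCore M ⊓ Subgroup.centralizer ({x} : Set G) = ⊥)) ∧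
      (¬ (p.Prime ∧ p ∈ Cfsg.tau2 M ∧ p ∣ Nat.card E) → S = ⊥ ∧ Z = ⊥) := by
    intro p
    by_cases hp : p.Prime ∧ p ∈ Cfsg.tau2 M ∧ p ∣ Nat.card E
    · obtain ⟨S, Z, h⟩ := hdata p hp.1 hp.2.1 hp.2.2
      exact ⟨S, Z, fun _ => h, fun hn => absurd hp hn⟩
    · exact ⟨⊥, ⊥, fun h => absurd h hp, fun _ => ⟨rfl, rfl⟩⟩
  choose Sf Zf hSZ using hdata'
  -- nontrivial members come from good primes
  have hgoodS : ∀ p, Sf p ≠ ⊥ → (p.Prime ∧ p ∈ Cfsg.tau2 M ∧ p ∣ Nat.card E) := by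
    intro p hne
    by_contra hn
    exact hne ((hSZ p).2 hn).1
  have hgoodZ : ∀ p, Zf p ≠ ⊥ → (p.Prime ∧ p ∈ Cfsg.tau2 M ∧ p ∣ Nat.card E) := by
    intro p hne
    by_contra hn
    exact hne ((hSZ p).2 hn).2
  have hZS : ∀ p, Zf p ≤ Sf p := by
    intro p
    by_cases hp : p.Prime ∧ p ∈ Cfsg.tau2 M ∧ p ∣ Nat.card E
    · exact ((hSZ p).1 hp).2.2.2.2.2.1
    · rw [((hSZ p).2 hp).2]; exact bot_le
  have hFamS : Fam E Sf := by
    refine ⟨?_, ?_, ?_, ?_⟩
    · intro p
      by_cases hp : p.Prime ∧ p ∈ Cfsg.tau2 M ∧ p ∣ Nat.card E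
      · exact ((hSZ p).1 hp).1
      · rw [((hSZ p).2 hp).1]; exact bot_le
    · intro p
      by_cases hp : p.Prime ∧ p ∈ Cfsg.tau2 M ∧ p ∣ Nat.card E
      · exact ((hSZ p).1 hp).2.1
      · rw [((hSZ p).2 hp).1]
        intro e _
        rw [Subgroup.mem_normalizer_iff]
        intro x
        simp [Subgroup.mem_bot]
    · intro p x hx y hy
      by_cases hp : p.Prime ∧ p ∈ Cfsg.tau2 M ∧ p ∣ Nat.card E
      · exact ((hSZ p).1 hp).2.2.1 x hx y hy
      · rw [((hSZ p).2 hp).1, Subgroup.mem_bot] at hx hy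
        rw [hx, hy]
    · intro p x hx hx1
      have hne : Sf p ≠ ⊥ := by
        intro hb; rw [hb, Subgroup.mem_bot] at hx; exact hx1 hx
      have hp := hgoodS p hne
      exact ⟨hp.1, ((hSZ p).1 hp).2.2.2.1 x hx⟩
  have hFamZ : Fam E Zf := by
    refine ⟨fun p => (hZS p).trans (hFamS.le p), ?_,
      fun p x hx y hy => hFamS.comm p x (hZS p hx) y (hZS p hy),
      fun p x hx hx1 => hFamS.pgrp p x (hZS p hx) hx1⟩
    intro p
    by_cases hp : p.Prime ∧ p ∈ Cfsg.tau2 M ∧ p ∣ Nat.card E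
    · exact ((hSZ p).1 hp).2.2.2.2.2.2.1
    · rw [((hSZ p).2 hp).2]
      intro e _
      rw [Subgroup.mem_normalizer_iff]
      intro x
      simp [Subgroup.mem_bot]
  set A₀ : Subgroup G := ⨆ p, Sf p with hA₀
  set T₂ : Subgroup G := ⨆ p, Zf p with hT₂
  have hTA : T₂ ≤ A₀ := iSup_mono hZS
  have hA₀E : A₀ ≤ E := hFamS.iSup_le
  have hpiA : ∀ x ∈ A₀, PiElt (Cfsg.tau2 M) x := fun x hx =>
    hFamS.piElt_iSup (Cfsg.tau2 M) (fun p hne => (hgoodS p hne).2.1) hx
  -- `τ₂`-elements of `E` lie in `A₀`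
  have hmemA : ∀ n : ℕ, ∀ c ∈ E, orderOf c = n → PiElt (Cfsg.tau2 M) c → c ∈ A₀ := by
    intro n
    induction n using Nat.strong_induction_on with
    | _ n ih =>
      intro c hcE hcn hcπ
      by_cases hc1 : c = 1
      · rw [hc1]; exact A₀.one_mem
      have hn1 : n ≠ 1 := by
        intro h1; rw [h1] at hcn; exact hc1 (orderOf_eq_one_iff.1 hcn)
      have hn0 : n ≠ 0 := by rw [← hcn]; exact (orderOf_pos c).ne'
      set q := n.minFac with hqdef
      have hq : q.Prime := Nat.minFac_prime hn1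
      have hqn : q ∣ n := Nat.minFac_dvd n
      have hqτ : q ∈ Cfsg.tau2 M := hcπ q hq (by rw [hcn]; exact hqn)
      have hqE : q ∣ Nat.card E := by
        have h1 : orderOf c ∣ Nat.card E := Cfsg.Agent.Helper24.orderOf_dvd_card_of_mem hcE
        rw [hcn] at h1
        exact hqn.trans h1
      obtain ⟨m, hm1, hm2, hm3⟩ := exists_pow_orderOf_eq_prime_pow c hq
      rw [hcn] at hm1 hm3
      -- the `q`-part lies in `Sf q`
      have h1 : c ^ m ∈ A₀ := by
        have h2 : c ^ m ∈ Sf q := by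
          apply ((hSZ q).1 ⟨hq, hqτ, hqE⟩).2.2.2.2.1 (c ^ m) (E.pow_mem hcE m)
          exact ⟨n.factorization q, by rw [← hm1]; exact pow_orderOf_eq_one _⟩
        exact Subgroup.mem_iSup_of_mem q h2
      -- the `q'`-part lies in `A₀` by induction
      have h3 : c ^ q ^ n.factorization q ∈ A₀ := by
        have hv : 0 < n.factorization q := hq.factorization_pos_of_dvd hn0 hqn
        have hlt : m < n := by
          have hmn : m * q ^ n.factorization q = n := by
            have h4 : orderOf (c ^ q ^ n.factorization q) = n / q ^ n.factorization q := by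
              rw [orderOf_pow' c (pow_pos hq.pos _).ne', hcn,
                Nat.gcd_eq_right (Nat.ordProj_dvd n q)]
            rw [h4] at hm3
            rw [← hm3]
            exact Nat.div_mul_cancel (Nat.ordProj_dvd n q)
          have h5 : 1 < q ^ n.factorization q := Nat.one_lt_pow hv.ne' hq.one_lt
          have hm0 : 0 < m := by
            rcases Nat.eq_zero_or_pos m with h0 | h0
            · rw [h0, zero_mul] at hmn; exact absurd hmn.symm hn0
            · exact h0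
          calc m = m * 1 := (mul_one m).symm
            _ < m * q ^ n.factorization q := Nat.mul_lt_mul_of_pos_left h5 hm0
            _ = n := hmn
        apply ih m hlt _ (E.pow_mem hcE _) hm3
        intro q' hq' hd
        apply hcπ q' hq'
        exact hd.trans (orderOf_pow_dvd _)
      exact Cfsg.Agent.Helper54.FA.mem_of_pow_mem_coprime
        (Nat.Coprime.pow_right _ hm2) h1 h3
  refine ⟨⟨A₀, hA₀E, hFamS.le_normalizer_iSup, ?_, ?_⟩, ?_⟩
  · refine ⟨⟨?_⟩⟩
    rintro ⟨a, ha⟩ ⟨b, hb⟩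
    exact Subtype.ext (hFamS.commute_iSup ha hb)
  · intro x hxH hx1 c hc
    obtain ⟨hcE, hcx⟩ := Subgroup.mem_inf.1 hc
    apply hmemA (orderOf c) c hcE rfl
    intro q hq hd
    set c' := c ^ (orderOf c / q) with hc'
    have hord : orderOf c' = q := orderOf_pow_orderOf_div (orderOf_pos c).ne' hd
    have hc'E : c' ∈ E := E.pow_mem hcE _
    have hc'1 : c' ≠ 1 := by
      intro h1; rw [h1, orderOf_one] at hord; exact hq.ne_one hord.symm
    have hqE : q ∣ Nat.card E := by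
      rw [← hord]; exact Cfsg.Agent.Helper24.orderOf_dvd_card_of_mem hc'E
    rcases mem_tau_of_dvd hctx hq hqE with h13 | h2
    · exfalso
      have hfpf := hh c' hc'E hc'1 (by
        intro p hp hpd
        rw [hord] at hpd
        rw [(Nat.prime_dvd_prime_iff_eq hp hq).1 hpd]
        exact h13)
      have hxmem : x ∈ Cfsg.sigmaCore M ⊓ Subgroup.centralizer ({c'} : Set G) := by
        refine Subgroup.mem_inf.2 ⟨hxH, ?_⟩
        have h5 := centralizer_singleton_le_pow c (orderOf c / q)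
        -- `x` commutes with `c`, hence with `c'`
        rw [Subgroup.mem_centralizer_iff]
        intro y hy
        rw [Set.mem_singleton_iff] at hy
        subst hy
        have h6 : x * c = c * x := by
          rw [Subgroup.mem_centralizer_iff] at hcx
          exact hcx x rfl
        exact ((Commute.pow_left (show Commute c x from h6.symm) _)).eq
      rw [hfpf, Subgroup.mem_bot] at hxmem
      exact hx1 hxmem
    · exact h2
  · -- the second part
    obtain ⟨E₁₃, hE₁₃⟩ :=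
      Cfsg.Agent.Helper62.exists_isPiHallOf {q : ℕ | q.Prime ∧ q ∉ Cfsg.tau2 M} E
    have hE13E : E₁₃ ≤ E := hE₁₃.1
    have hpiE13 : ∀ e ∈ E₁₃, ∀ q : ℕ, q.Prime → q ∣ orderOf e → q ∉ Cfsg.tau2 M := by
      intro e he q hq hd
      have h1 : q ∣ Nat.card E₁₃ :=
        hd.trans (Cfsg.Agent.Helper24.orderOf_dvd_card_of_mem he)
      exact (hE₁₃.2.1 q hq h1).2
    have hnormT : E₁₃ ≤ Subgroup.normalizer (T₂ : Set G) :=
      hE13E.trans hFamZ.le_normalizer_iSup
    set E₀ : Subgroup G := E₁₃ ⊔ T₂ with hE₀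
    have hE₀E : E₀ ≤ E := sup_le hE13E (hTA.trans hA₀E)
    -- prime order elements of `E₀` are fixed-point-free
    have hprime : ∀ y ∈ E₀, ∀ q : ℕ, q.Prime → orderOf y = q →
        Cfsg.sigmaCore M ⊓ Subgroup.centralizer ({y} : Set G) = ⊥ := by
      intro y hy q hq hord
      have hyE : y ∈ E := hE₀E hy
      have hy1 : y ≠ 1 := by
        intro h1; rw [h1, orderOf_one] at hord; exact hq.ne_one hord.symm
      have hqE : q ∣ Nat.card E := by
        rw [← hord]; exact Cfsg.Agent.Helper24.orderOf_dvd_card_of_mem hyE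
      have hyq : y ^ q = 1 := by rw [← hord]; exact pow_orderOf_eq_one y
      rcases mem_tau_of_dvd hctx hq hqE with h13 | h2
      · apply hh y hyE hy1
        intro p hp hpd
        rw [hord] at hpd
        rw [(Nat.prime_dvd_prime_iff_eq hp hq).1 hpd]
        exact h13
      · have hgood : q.Prime ∧ q ∈ Cfsg.tau2 M ∧ q ∣ Nat.card E := ⟨hq, h2, hqE⟩
        have hyS : y ∈ Sf q :=
          ((hSZ q).1 hgood).2.2.2.2.1 y hyE ⟨1, by rw [pow_one]; exact hyq⟩
        obtain ⟨e, he, t, ht, hyet⟩ := exists_mul_of_mem_sup' hnormT hy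
        have heA : e ∈ A₀ := by
          have e1 : e = y * t⁻¹ := by rw [hyet]; group
          rw [e1]
          exact A₀.mul_mem (Subgroup.mem_iSup_of_mem q hyS) (A₀.inv_mem (hTA ht))
        have he1 : e = 1 :=
          eq_one_of_piElt_of_piElt_compl (hpiA e heA) (hpiE13 e he)
        have hyT : y ∈ T₂ := by rw [hyet, he1, one_mul]; exact ht
        have hyZ : y ∈ Zf q := hFamZ.mem_of_pow_prime_eq_one hq hyT hyq
        exact ((hSZ q).1 hgood).2.2.2.2.2.2.2.2 y hyZ hy1 hyq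
    refine ⟨E₀, hE₀E, ?_, ?_⟩
    · -- exponents
      apply Nat.dvd_antisymm
      · exact Monoid.exponent_dvd_of_monoidHom (Subgroup.inclusion hE₀E)
          (Subgroup.inclusion_injective hE₀E)
      · apply Monoid.exponent_dvd_of_forall_pow_eq_one
        rintro ⟨g, hg⟩
        apply Subtype.ext
        rw [Subgroup.coe_pow, Subgroup.coe_one]
        apply orderOf_dvd_iff_pow_eq_one.1
        have hexp0 : Monoid.exponent ↥E₀ ≠ 0 := Monoid.exponent_ne_zero_of_finite
        rw [← Nat.factorization_prime_le_iff_dvd (orderOf_pos g).ne' hexp0]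
        intro q hq
        rw [← hq.pow_dvd_iff_le_factorization hexp0]
        by_cases hv : (orderOf g).factorization q = 0
        · rw [hv, pow_zero]; exact one_dvd _
        have hqd : q ∣ orderOf g := by
          by_contra hnd
          exact hv (Nat.factorization_eq_zero_of_not_dvd hnd)
        have hqE : q ∣ Nat.card E :=
          hqd.trans (Cfsg.Agent.Helper24.orderOf_dvd_card_of_mem hg)
        obtain ⟨m, hm1, hm2, hm3⟩ := exists_pow_orderOf_eq_prime_pow g hq
        have hgm : g ^ m ∈ E := E.pow_mem hg m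
        rcases mem_tau_of_dvd hctx hq hqE with h13 | h2
        · -- conjugate the `q`-part into `E₁₃`
          set Y : Subgroup G := Subgroup.zpowers (g ^ m) with hY
          have hYE : Y ≤ E := by
            rw [hY, Subgroup.zpowers_le]; exact hgm
          have hYcard : Nat.card Y = q ^ (orderOf g).factorization q := by
            rw [hY, Nat.card_zpowers, hm1]
          have hq2 : q ∉ Cfsg.tau2 M := by
            intro h2
            rcases h13 with h1 | h3
            · exact h1.2.2.2.2 |> fun hr1 => h2.2.2.2 hr1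
            · exact h3.2.2.2 |> fun hr1 => h2.2.2.2 hr1
          obtain ⟨H', hH', hYH'⟩ :=
            Cfsg.Agent.Helper71.BGHall.exists_isPiHallOf_ge
              {q : ℕ | q.Prime ∧ q ∉ Cfsg.tau2 M} E hYE (by
                intro p hp hpd
                rw [hYcard] at hpd
                have h5 : p ∣ q := hp.dvd_of_dvd_pow hpd
                rw [(Nat.prime_dvd_prime_iff_eq hp hq).1 h5]
                exact ⟨hq, hq2⟩)
          obtain ⟨a, haE, hconj⟩ := Cfsg.Agent.Helper62.isPiHallOf_conj_of_solvable hH' hE₁₃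
          have hmem : a * g ^ m * a⁻¹ ∈ E₁₃ := by
            rw [← hconj]
            have h6 : g ^ m ∈ H' := hYH' (Subgroup.mem_zpowers _)
            have h7 := Subgroup.smul_mem_pointwise_smul (g ^ m) (MulAut.conj a) H' h6
            simpa [MulAut.smul_def, MulAut.conj_apply] using h7
          have hord : orderOf (a * g ^ m * a⁻¹) = q ^ (orderOf g).factorization q := by
            rw [← MulAut.conj_apply, MulEquiv.orderOf_eq, hm1]
          rw [← hord]
          have hmem0 : a * g ^ m * a⁻¹ ∈ E₀ := (le_sup_left : E₁₃ ≤ E₀) hmem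
          have h8 := Monoid.order_dvd_exponent (⟨a * g ^ m * a⁻¹, hmem0⟩ : ↥E₀)
          rwa [Subgroup.orderOf_mk] at h8
        · have hgood : q.Prime ∧ q ∈ Cfsg.tau2 M ∧ q ∣ Nat.card E := ⟨hq, h2, hqE⟩
          have hgS : g ^ m ∈ Sf q :=
            ((hSZ q).1 hgood).2.2.2.2.1 (g ^ m) hgm
              ⟨(orderOf g).factorization q, by rw [← hm1]; exact pow_orderOf_eq_one _⟩
          obtain ⟨z, hz, hzmax⟩ := ((hSZ q).1 hgood).2.2.2.2.2.2.2.1
          have h9 : q ^ (orderOf g).factorization q ∣ orderOf z := by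
            rw [← hm1]; exact hzmax _ hgS
          have hz0 : z ∈ E₀ :=
            (le_sup_right : T₂ ≤ E₀) (Subgroup.mem_iSup_of_mem q hz)
          have h8 := Monoid.order_dvd_exponent (⟨z, hz0⟩ : ↥E₀)
          rw [Subgroup.orderOf_mk] at h8
          exact h9.trans h8
    · intro x hx hx1
      have ho : orderOf x ≠ 1 := fun h => hx1 (orderOf_eq_one_iff.1 h)
      set q := (orderOf x).minFac with hqdef
      have hq : q.Prime := Nat.minFac_prime ho
      have hqd : q ∣ orderOf x := Nat.minFac_dvd _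
      set y := x ^ (orderOf x / q) with hy
      have hord : orderOf y = q := orderOf_pow_orderOf_div (orderOf_pos x).ne' hqd
      have hyE₀ : y ∈ E₀ := E₀.pow_mem hx _
      have hfy := hprime y hyE₀ q hq hord
      rw [eq_bot_iff]
      intro z hz
      rw [← hfy]
      obtain ⟨hz1, hz2⟩ := Subgroup.mem_inf.1 hz
      exact Subgroup.mem_inf.2 ⟨hz1, centralizer_singleton_le_pow x _ hz2⟩

end Cfsg.Agent.Helper1.BG1212
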