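import Cfsg.Agent.Helper1.Glauberman

set_option autoImplicit false

namespace Cfsg.Agent.Helper1

open Subgroup Pointwise

universe u

/-- **Glauberman's lemma**, ambient form: `A` normalizes `K` inside a finite group `G` acting on `Ω`;
`T ⊆ Ω` is stable under `A` and `K`, and `K` is transitive on `T`. -/
theorem glauberman_ambient {G : Type u} [Group G] [Finite G] {Ω : Type*} [MulAction G Ω]
    (A K : Subgroup G) (hAK : A ≤ Subgroup.normalizer (K : Set G))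
    (hcop : (Nat.card A).Coprime (Nat.card K))
    (hsolv : Group.IsSolvable A ∨ Group.IsSolvable K) (T : Set Ω) (hTne : T.Nonempty)
    (hTK : ∀ k ∈ K, ∀ ω ∈ T, k • ω ∈ T) (hTA : ∀ a ∈ A, ∀ ω ∈ T, a • ω ∈ T)
    (htrans : ∀ ω ∈ T, ∀ ω' ∈ T, ∃ k ∈ K, k • ω = ω') :
    (∃ ω ∈ T, ∀ a ∈ A, a • ω = ω) ∧
    ∀ ω ∈ T, ∀ ω' ∈ T, (∀ a ∈ A, a • ω = ω) → (∀ a ∈ A, a • ω' = ω') →
      ∃ c ∈ K ⊓ Subgroup.centralizer (A : Set G), c • ω = ω' := by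
  set Γ : Subgroup G := K ⊔ A with hΓdef
  have hKΓ : K ≤ Γ := le_sup_left
  have hAΓ : A ≤ Γ := le_sup_right
  have hΓ : ∀ γ ∈ Γ, ∃ k ∈ K, ∃ a ∈ A, γ = k * a := by
    intro γ hγ
    have : γ ∈ (↑(K ⊔ A) : Set G) := hγ
    rw [Subgroup.coe_mul_of_right_le_normalizer_left K A hAK] at this
    obtain ⟨k, hk, a, ha, rfl⟩ := this
    exact ⟨k, hk, a, ha, rfl⟩
  have hΓT : ∀ γ ∈ Γ, ∀ ω ∈ T, γ • ω ∈ T := by
    intro γ hγ ω hω
    obtain ⟨k, hk, a, ha, rfl⟩ := hΓ γ hγ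
    rw [mul_smul]
    exact hTK k hk _ (hTA a ha ω hω)
  letI actX : MulAction Γ {ω // ω ∈ T} :=
    { smul := fun γ x => ⟨(γ : G) • x.1, hΓT γ γ.2 x.1 x.2⟩
      one_smul := fun x => Subtype.ext (one_smul G x.1)
      mul_smul := fun γ₁ γ₂ x => Subtype.ext (mul_smul (γ₁ : G) (γ₂ : G) x.1) }
  have hsmul : ∀ (γ : Γ) (x : {ω // ω ∈ T}), ((γ • x : {ω // ω ∈ T}) : Ω) = (γ : G) • (x : Ω) :=
    fun _ _ => rfl
  haveI : Nonempty {ω // ω ∈ T} := hTne.to_subtype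
  have hdisj : K ⊓ A = ⊥ := Subgroup.inf_eq_bot_of_coprime hcop.symm
  haveI hK'n : (K.subgroupOf Γ).Normal :=
    (Subgroup.normal_subgroupOf_iff_le_normalizer hKΓ).mpr (sup_le Subgroup.le_normalizer hAK)
  have hc : IsComplement' (K.subgroupOf Γ) (A.subgroupOf Γ) :=
    isComplement'_subgroupOf hAΓ hdisj hΓ
  have hcop' : (Nat.card (K.subgroupOf Γ)).Coprime (Nat.card (A.subgroupOf Γ)) := by
    rw [card_subgroupOf_of_le hKΓ, card_subgroupOf_of_le hAΓ]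
    exact hcop.symm
  have hsolv' : Group.IsSolvable (K.subgroupOf Γ) ∨ Group.IsSolvable (A.subgroupOf Γ) := by
    rcases hsolv with h | h
    · exact Or.inr (isSolvable_subgroupOf A Γ)
    · exact Or.inl (isSolvable_subgroupOf K Γ)
  have htrans' : ∀ x y : {ω // ω ∈ T}, ∃ k ∈ K.subgroupOf Γ, k • x = y := by
    intro x y
    obtain ⟨k, hk, hkxy⟩ := htrans x.1 x.2 y.1 y.2
    exact ⟨⟨k, hKΓ hk⟩, Subgroup.mem_subgroupOf.mpr hk, Subtype.ext hkxy⟩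
  obtain ⟨⟨x, hx⟩, hxy⟩ := glauberman_type (K.subgroupOf Γ) (A.subgroupOf Γ) hc hcop' hsolv' htrans'
  constructor
  · refine ⟨x.1, x.2, fun a ha => ?_⟩
    have := hx ⟨a, hAΓ ha⟩ (Subgroup.mem_subgroupOf.mpr ha)
    exact congrArg Subtype.val this
  · intro ω hω ω' hω' hfix hfix'
    have h1 : ∀ h ∈ A.subgroupOf Γ, h • (⟨ω, hω⟩ : {ω // ω ∈ T}) = ⟨ω, hω⟩ := by
      intro h hh
      exact Subtype.ext (hfix h (Subgroup.mem_subgroupOf.mp hh))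
    have h2 : ∀ h ∈ A.subgroupOf Γ, h • (⟨ω', hω'⟩ : {ω // ω ∈ T}) = ⟨ω', hω'⟩ := by
      intro h hh
      exact Subtype.ext (hfix' h (Subgroup.mem_subgroupOf.mp hh))
    obtain ⟨c, hc', hcω⟩ := hxy ⟨ω, hω⟩ ⟨ω', hω'⟩ h1 h2
    obtain ⟨hcK, hcC⟩ := Subgroup.mem_inf.mp hc'
    refine ⟨(c : G), Subgroup.mem_inf.mpr ⟨Subgroup.mem_subgroupOf.mp hcK, ?_⟩,
      congrArg Subtype.val hcω⟩
    rw [Subgroup.mem_centralizer_iff] at hcC ⊢
    intro a ha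
    have := hcC ⟨a, hAΓ ha⟩ (Subgroup.mem_subgroupOf.mpr ha)
    exact congrArg Subtype.val this

/-- **Fixed points in invariant cosets**: if `A` normalizes `D` (coprime orders, one of them solvable)
and the right coset `D z₀` is invariant under conjugation by `A`, then it contains an element
centralizing `A`. -/
theorem exists_mem_coset_centralizer {G : Type u} [Group G] [Finite G] (A D : Subgroup G)
    (hAD : A ≤ Subgroup.normalizer (D : Set G)) (hcop : (Nat.card A).Coprime (Nat.card D))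
    (hsolv : Group.IsSolvable A ∨ Group.IsSolvable D) (z₀ : G)
    (hinv : ∀ a ∈ A, ∃ d ∈ D, a * z₀ * a⁻¹ = d * z₀) :
    ∃ d ∈ D, d * z₀ ∈ Subgroup.centralizer (A : Set G) := by
  have hconjD : ∀ a ∈ A, ∀ d ∈ D, a * d * a⁻¹ ∈ D := fun a ha d hd =>
    (Subgroup.mem_normalizer_iff.mp (hAD ha) d).mp hd
  -- invariance of the whole coset
  have hinv' : ∀ a ∈ A, ∀ d ∈ D, ∃ d' ∈ D, a * (d * z₀) * a⁻¹ = d' * z₀ := by
    intro a ha d hd
    obtain ⟨d₁, hd₁, h1⟩ := hinv a ha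
    refine ⟨a * d * a⁻¹ * d₁, D.mul_mem (hconjD a ha d hd) hd₁, ?_⟩
    calc a * (d * z₀) * a⁻¹ = (a * d * a⁻¹) * (a * z₀ * a⁻¹) := by simp [mul_assoc]
      _ = a * d * a⁻¹ * d₁ * z₀ := by rw [h1]; simp [mul_assoc]
  let T : Set (G ⧸ A) := {q | ∃ d ∈ D, q = ((d * z₀ : G) : G ⧸ A)}
  have hT : ∀ q, q ∈ T ↔ ∃ d ∈ D, q = ((d * z₀ : G) : G ⧸ A) := fun _ => Iff.rfl
  obtain ⟨⟨q, hqT, hq⟩, -⟩ := glauberman_ambient (Ω := G ⧸ A) A D hAD hcop hsolv T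
    ⟨((1 * z₀ : G) : G ⧸ A), 1, D.one_mem, rfl⟩
    (by
      rintro k hk _ ⟨d, hd, rfl⟩
      exact ⟨k * d, D.mul_mem hk hd, by rw [MulAction.Quotient.smul_mk]; simp [mul_assoc]⟩)
    (by
      rintro a ha _ ⟨d, hd, rfl⟩
      obtain ⟨d', hd', h1⟩ := hinv' a ha d hd
      refine ⟨d', hd', ?_⟩
      rw [MulAction.Quotient.smul_mk, ← h1, QuotientGroup.eq]
      have : (a • (d * z₀))⁻¹ * (a * (d * z₀) * a⁻¹) = a⁻¹ := by simp [mul_assoc]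
      rw [this]
      exact A.inv_mem ha)
    (by
      rintro _ ⟨d, hd, rfl⟩ _ ⟨d', hd', rfl⟩
      exact ⟨d' * d⁻¹, D.mul_mem hd' (D.inv_mem hd), by
        rw [MulAction.Quotient.smul_mk]; simp [mul_assoc]⟩)
  obtain ⟨d, hd, rfl⟩ := hqT
  refine ⟨d, hd, ?_⟩
  set z := d * z₀ with hz
  rw [Subgroup.mem_centralizer_iff]
  intro a ha
  -- `z⁻¹ * a * z ∈ A`
  have h1 : z⁻¹ * a * z ∈ A := by
    have := hq a ha
    rw [MulAction.Quotient.smul_mk, QuotientGroup.eq] at this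
    have h2 := A.inv_mem this
    simpa [mul_assoc] using h2
  obtain ⟨d₁, hd₁, h3⟩ := hinv' a ha d hd
  -- the element `z⁻¹ * a * z * a⁻¹` lies in `A` and in a conjugate of `D`
  have h4 : z⁻¹ * a * z * a⁻¹ ∈ A := A.mul_mem h1 (A.inv_mem ha)
  have h5 : z⁻¹ * a * z * a⁻¹ ∈ MulAut.conj z⁻¹ • D := by
    rw [mem_conj_smul, inv_inv]
    have : z * (z⁻¹ * a * z * a⁻¹) * z⁻¹ = d₁ * d⁻¹ := by
      calc z * (z⁻¹ * a * z * a⁻¹) * z⁻¹ = (a * z * a⁻¹) * z⁻¹ := by simp [mul_assoc]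
        _ = d₁ * d⁻¹ := by rw [hz, h3]; simp [mul_assoc]
    rw [this]; exact D.mul_mem hd₁ (D.inv_mem hd)
  have h6 : A ⊓ MulAut.conj z⁻¹ • D = ⊥ := by
    apply Subgroup.inf_eq_bot_of_coprime
    rw [card_conj_smul]; exact hcop
  have h7 : z⁻¹ * a * z * a⁻¹ ∈ A ⊓ MulAut.conj z⁻¹ • D := Subgroup.mem_inf.mpr ⟨h4, h5⟩
  rw [h6, Subgroup.mem_bot] at h7
  have h8 := congrArg (fun w => z * w * a) h7
  simpa [mul_assoc] using h8

end Cfsg.Agent.Helper1
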