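import Mathlib
import Cfsg.Agent.S0026
import Cfsg.Agent.Helper1.BG1212A

/-!
# Bender–Glauberman Theorem 12.12, the prime `p ∈ τ₂(M)` with abelian Sylow subgroups

Abstract group theory for the per-prime data `PerPrime M E p` of `BG1212A`:

* `exists_commPart` : the coprime decomposition `V = K_V(t) × C_V(t)` of an abelian group
  normalized by an element `t` of coprime order, in elementwise form;
* `exists_prime_pow_part_not_mem` : an element outside a subgroup has a power of prime power order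
  outside it;
* `exists_max_order` : an element of largest order in an abelian `p`-group;
* `perPrime_core` : the choice of the `E`-invariant subgroup `Z` of the normal abelian Sylow
  `p`-subgroup `S` of `E`, all of whose elements of order `p` are "good", and which contains an
  element of largest order of `S`.
-/

set_option autoImplicit false

namespace Cfsg.Agent.Helper1.BG1212

open Cfsg

variable {G : Type*} [Group G]

/-! ### generalities -/

/-- membership in the normalizer from one-sided conjugation invariance under `g` and `g⁻¹` -/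
theorem mem_normalizer_of_conj_mem {H : Subgroup G} {g : G}
    (h1 : ∀ x ∈ H, g * x * g⁻¹ ∈ H) (h2 : ∀ x ∈ H, g⁻¹ * x * g ∈ H) :
    g ∈ Subgroup.normalizer (H : Set G) := by
  rw [Subgroup.mem_normalizer_iff]
  intro x
  constructor
  · exact h1 x
  · intro hx
    have := h2 _ hx
    have e : g⁻¹ * (g * x * g⁻¹) * g = x := by group
    rwa [e] at this

/-- a subgroup all of whose elements are invariant under conjugation by a subgroup `N` closed under
inverses is normalized by `N` -/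
theorem le_normalizer_of_conj_mem {H N : Subgroup G}
    (h : ∀ g ∈ N, ∀ x ∈ H, g * x * g⁻¹ ∈ H) : N ≤ Subgroup.normalizer (H : Set G) := by
  intro g hg
  apply mem_normalizer_of_conj_mem (h g hg)
  intro x hx
  have := h g⁻¹ (N.inv_mem hg) x hx
  rwa [inv_inv] at this

/-- a subgroup of prime order is generated by any of its nonidentity elements, so the centralizer
of such an element centralizes the subgroup -/
theorem centralizer_singleton_le_of_card_prime [Finite G] {X : Subgroup G} {p : ℕ} (hp : p.Prime)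
    (hX : Nat.card X = p) {x : G} (hxX : x ∈ X) (hx1 : x ≠ 1) :
    Subgroup.centralizer ({x} : Set G) ≤ Subgroup.centralizer (X : Set G) := by
  have hz : Subgroup.zpowers x = X := by
    apply Subgroup.eq_of_le_of_card_ge (Subgroup.zpowers_le.2 hxX)
    rw [Nat.card_zpowers, hX]
    have h1 : orderOf x ∣ p := by
      rw [← hX]
      exact Cfsg.Agent.Helper24.orderOf_dvd_card_of_mem hxX
    rcases (Nat.dvd_prime hp).1 h1 with h | h
    · exact absurd (orderOf_eq_one_iff.1 h) hx1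
    · exact h.ge
  intro y hy
  rw [Subgroup.mem_centralizer_iff] at hy ⊢
  intro w hw
  rw [← hz] at hw
  obtain ⟨k, rfl⟩ := Subgroup.mem_zpowers_iff.1 hw
  have h1 : Commute x y := hy x (Set.mem_singleton x)
  exact (h1.zpow_left k).eq

/-- a subgroup of a group of order `p ^ 2`, neither trivial nor everything, has order `p` -/
theorem card_eq_prime_of_ne_bot_of_ne [Finite G] {A X : Subgroup G} {p : ℕ} (hp : p.Prime)
    (hA : Nat.card A = p ^ 2) (hXA : X ≤ A) (h1 : X ≠ ⊥) (h2 : X ≠ A) : Nat.card X = p := by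
  have hd : Nat.card X ∣ p ^ 2 := hA ▸ Subgroup.card_dvd_of_le hXA
  obtain ⟨k, hk, hkc⟩ := (Nat.dvd_prime_pow hp).1 hd
  interval_cases k
  · exfalso
    apply h1
    rw [pow_zero] at hkc
    exact Subgroup.eq_bot_of_card_eq X hkc
  · simpa using hkc
  · exfalso
    apply h2
    apply Subgroup.eq_of_le_of_card_ge hXA
    rw [hA, hkc]

/-! ### the coprime decomposition of an abelian group -/

/-- **Coprime decomposition of an abelian group.** Let `V` be an abelian subgroup normalized by an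
element `t` whose order is coprime to `|V|`. Then the commutators `⁅v, t⁆`, `v ∈ V`, form a subgroup
`K` of `V` with `K ∩ C(t) = 1` and `V = K C_V(t)`. -/
theorem exists_commPart [Finite G] (V : Subgroup G) (t : G)
    (hV : ∀ x ∈ V, ∀ y ∈ V, x * y = y * x) (ht : t ∈ Subgroup.normalizer (V : Set G))
    (hcop : (orderOf t).Coprime (Nat.card V)) :
    ∃ K : Subgroup G, K ≤ V ∧ (∀ x, x ∈ K ↔ ∃ v ∈ V, x = v * t * v⁻¹ * t⁻¹) ∧
      K ⊓ Subgroup.centralizer ({t} : Set G) = ⊥ ∧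
      (∀ v ∈ V, ∃ k ∈ K, ∃ c ∈ V ⊓ Subgroup.centralizer ({t} : Set G), v = k * c) ∧
      t ∈ Subgroup.normalizer (K : Set G) := by
  classical
  have hcj : ∀ v ∈ V, t * v * t⁻¹ ∈ V := fun v hv =>
    Cfsg.Agent.Helper24.conj_mem_of_mem_normalizer ht hv
  have hcj' : ∀ v ∈ V, t⁻¹ * v * t ∈ V := fun v hv =>
    Cfsg.Agent.Helper24.conj_inv_mem_of_mem_normalizer ht hv
  -- the subgroup `K`
  let K : Subgroup G :=
    { carrier := {x | ∃ v ∈ V, x = v * t * v⁻¹ * t⁻¹}
      one_mem' := ⟨1, V.one_mem, by simp⟩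
      mul_mem' := by
        rintro _ _ ⟨v, hv, rfl⟩ ⟨w, hw, rfl⟩
        refine ⟨v * w, V.mul_mem hv hw, ?_⟩
        have ha : t * v⁻¹ * t⁻¹ ∈ V := hcj _ (V.inv_mem hv)
        have hb : t * w⁻¹ * t⁻¹ ∈ V := hcj _ (V.inv_mem hw)
        have h1 : (t * v⁻¹ * t⁻¹) * (w * (t * w⁻¹ * t⁻¹)) = (w * (t * w⁻¹ * t⁻¹)) * (t * v⁻¹ * t⁻¹) :=
          hV _ ha _ (V.mul_mem hw hb)
        calc v * t * v⁻¹ * t⁻¹ * (w * t * w⁻¹ * t⁻¹)
            = v * ((t * v⁻¹ * t⁻¹) * (w * (t * w⁻¹ * t⁻¹))) := by group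
          _ = v * ((w * (t * w⁻¹ * t⁻¹)) * (t * v⁻¹ * t⁻¹)) := by rw [h1]
          _ = v * w * t * (v * w)⁻¹ * t⁻¹ := by group
      inv_mem' := by
        rintro _ ⟨v, hv, rfl⟩
        refine ⟨v⁻¹, V.inv_mem hv, ?_⟩
        have ha : t * v * t⁻¹ ∈ V := hcj _ hv
        have h1 : (t * v * t⁻¹) * v⁻¹ = v⁻¹ * (t * v * t⁻¹) := hV _ ha _ (V.inv_mem hv)
        calc (v * t * v⁻¹ * t⁻¹)⁻¹ = (t * v * t⁻¹) * v⁻¹ := by group
          _ = v⁻¹ * (t * v * t⁻¹) := h1
          _ = v⁻¹ * t * v⁻¹⁻¹ * t⁻¹ := by group }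
  have hKmem : ∀ x, x ∈ K ↔ ∃ v ∈ V, x = v * t * v⁻¹ * t⁻¹ := fun x => Iff.rfl
  have hKV : K ≤ V := by
    rintro _ ⟨v, hv, rfl⟩
    have ha : t * v⁻¹ * t⁻¹ ∈ V := hcj _ (V.inv_mem hv)
    have e : v * t * v⁻¹ * t⁻¹ = v * (t * v⁻¹ * t⁻¹) := by group
    rw [e]
    exact V.mul_mem hv ha
  -- `t` normalizes `K`
  have htK : t ∈ Subgroup.normalizer (K : Set G) := by
    apply mem_normalizer_of_conj_mem
    · rintro _ ⟨v, hv, rfl⟩
      exact ⟨t * v * t⁻¹, hcj v hv, by group⟩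
    · rintro _ ⟨v, hv, rfl⟩
      exact ⟨t⁻¹ * v * t, hcj' v hv, by group⟩
  -- `K ∩ C(t) = 1`
  have hKC : K ⊓ Subgroup.centralizer ({t} : Set G) = ⊥ := by
    rw [eq_bot_iff]
    intro x hx
    obtain ⟨hxK, hxC⟩ := Subgroup.mem_inf.1 hx
    rw [Subgroup.mem_bot]
    have hxV : x ∈ V := hKV hxK
    obtain ⟨w, hw, hxw⟩ := hxK
    have hcomm : Commute t x := by
      rw [Subgroup.mem_centralizer_iff] at hxC
      exact (hxC t (Set.mem_singleton t))
    have hstep : t * w⁻¹ * t⁻¹ = w⁻¹ * x := by rw [hxw]; group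
    have hind : ∀ i : ℕ, t ^ i * w⁻¹ * (t ^ i)⁻¹ = w⁻¹ * x ^ i := by
      intro i
      induction i with
      | zero => simp
      | succ i ih =>
        have hc2 : t * x ^ i * t⁻¹ = x ^ i := by
          have := (hcomm.pow_right i).eq
          rw [this]; group
        calc t ^ (i + 1) * w⁻¹ * (t ^ (i + 1))⁻¹
            = t * (t ^ i * w⁻¹ * (t ^ i)⁻¹) * t⁻¹ := by rw [pow_succ']; group
          _ = t * (w⁻¹ * x ^ i) * t⁻¹ := by rw [ih]
          _ = (t * w⁻¹ * t⁻¹) * (t * x ^ i * t⁻¹) := by group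
          _ = w⁻¹ * x * x ^ i := by rw [hstep, hc2]
          _ = w⁻¹ * x ^ (i + 1) := by rw [pow_succ']; group
    have h2 := hind (orderOf t)
    rw [pow_orderOf_eq_one] at h2
    have h3 : x ^ orderOf t = 1 := by
      have : w⁻¹ * x ^ orderOf t = w⁻¹ * 1 := by rw [← h2]; group
      exact mul_left_cancel this
    have h4 : orderOf x ∣ orderOf t := orderOf_dvd_of_pow_eq_one h3
    have h5 : orderOf x ∣ Nat.card V := Cfsg.Agent.Helper24.orderOf_dvd_card_of_mem hxV
    have h6 : orderOf x ∣ 1 := by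
      have := Nat.dvd_gcd h4 h5
      rwa [Nat.Coprime.gcd_eq_one hcop] at this
    exact orderOf_eq_one_iff.1 (Nat.dvd_one.1 h6)
  refine ⟨K, hKV, hKmem, hKC, ?_, htK⟩
  -- `V = K C_V(t)` through `S0026`
  have hTN : Subgroup.zpowers t ≤ Subgroup.normalizer (V : Set G) := Subgroup.zpowers_le.2 ht
  have hcop' : (Nat.card (Subgroup.zpowers t)).Coprime (Nat.card V) := by
    rw [Nat.card_zpowers]; exact hcop
  have hsolv : Group.IsSolvable ↥V :=
    Group.isSolvable_of_comm fun a b => Subtype.ext (hV a a.2 b b.2)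
  have hdec := Cfsg.Agent.S0026.result (Subgroup.zpowers t) V hTN hcop' (Or.inr hsolv)
  -- commutators with powers of `t` lie in `K`
  have hpowK : ∀ i : ℕ, ∀ v ∈ V, v * t ^ i * v⁻¹ * (t ^ i)⁻¹ ∈ K := by
    intro i
    induction i with
    | zero => intro v _; simp
    | succ i ih =>
      intro v hv
      have h1 : v * t ^ i * v⁻¹ * (t ^ i)⁻¹ ∈ K := ih v hv
      have h2 : v * t * v⁻¹ * t⁻¹ ∈ K := ⟨v, hv, rfl⟩
      have h3 : t ^ i * (v * t * v⁻¹ * t⁻¹) * (t ^ i)⁻¹ ∈ K :=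
        Cfsg.Agent.Helper24.conj_mem_of_mem_normalizer
          ((Subgroup.normalizer (K : Set G)).pow_mem htK i) h2
      have e : v * t ^ (i + 1) * v⁻¹ * (t ^ (i + 1))⁻¹
          = (v * t ^ i * v⁻¹ * (t ^ i)⁻¹) * (t ^ i * (v * t * v⁻¹ * t⁻¹) * (t ^ i)⁻¹) := by
        rw [pow_succ]; group
      rw [e]
      exact K.mul_mem h1 h3
  have hcomK : ⁅V, Subgroup.zpowers t⁆ ≤ K := by
    rw [Subgroup.commutator_le]
    intro v hv a ha
    obtain ⟨i, rfl⟩ : ∃ i : ℕ, t ^ i = a := by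
      have hfin : IsOfFinOrder t := isOfFinOrder_of_finite t
      have := hfin.mem_powers_iff_mem_zpowers.2 ha
      exact (Submonoid.mem_powers_iff a t).1 this
    have := hpowK i v hv
    rwa [commutatorElement_def]
  intro v hv
  have hv' : v ∈ ⁅V, Subgroup.zpowers t⁆ ⊔ (V ⊓ Subgroup.centralizer ((Subgroup.zpowers t : Subgroup G) : Set G)) := by
    rw [hdec]; exact hv
  have hcomm2 : ∀ a ∈ ⁅V, Subgroup.zpowers t⁆, ∀ b ∈ V ⊓ Subgroup.centralizer ((Subgroup.zpowers t : Subgroup G) : Set G), a * b = b * a := by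
    intro a ha b hb
    exact hV a (hKV (hcomK ha)) b (Subgroup.mem_inf.1 hb).1
  obtain ⟨a, ha, b, hb, rfl⟩ :=
    Cfsg.Agent.Helper71.BGHall.exists_mul_of_mem_sup_of_commute hcomm2 hv'
  obtain ⟨hb1, hb2⟩ := Subgroup.mem_inf.1 hb
  refine ⟨a, hcomK ha, b, Subgroup.mem_inf.2 ⟨hb1, ?_⟩, rfl⟩
  rw [Subgroup.mem_centralizer_iff] at hb2 ⊢
  intro y hy
  rw [Set.mem_singleton_iff] at hy
  subst hy
  exact hb2 y (Subgroup.mem_zpowers y)

/-! ### prime power parts, elements of largest order -/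

/-- an element outside a subgroup has a power of prime power order outside the subgroup -/
theorem exists_prime_pow_part_not_mem [Finite G] (H : Subgroup G) :
    ∀ e : G, e ∉ H → ∃ q : ℕ, q.Prime ∧ ∃ m : ℕ, (∃ k : ℕ, (e ^ m) ^ q ^ k = 1) ∧ e ^ m ∉ H := by
  suffices hmain : ∀ n : ℕ, ∀ e : G, orderOf e = n → e ∉ H →
      ∃ q : ℕ, q.Prime ∧ ∃ m : ℕ, (∃ k : ℕ, (e ^ m) ^ q ^ k = 1) ∧ e ^ m ∉ H from
    fun e he => hmain (orderOf e) e rfl he
  intro n
  induction n using Nat.strong_induction_on with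
  | _ n ih => ?_
  intro e hn he
  have hn1 : n ≠ 1 := by
    intro h
    rw [h] at hn
    rw [orderOf_eq_one_iff.1 hn] at he
    exact he H.one_mem
  have hn0 : 0 < n := hn ▸ orderOf_pos e
  set q := n.minFac with hq
  have hqp : q.Prime := Nat.minFac_prime hn1
  have hqn : q ∣ n := Nat.minFac_dvd n
  obtain ⟨m, hm1, hm2, hm3⟩ := exists_pow_orderOf_eq_prime_pow e hqp
  by_cases h1 : e ^ m ∈ H
  · -- recurse on the `q'`-part
    have h2 : e ^ q ^ (orderOf e).factorization q ∉ H := fun h2 =>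
      he (Cfsg.Agent.Helper54.FA.mem_of_pow_mem_coprime (Nat.Coprime.pow_right _ hm2) h1 h2)
    have hmn : m ∣ n := by
      rw [← hm3, ← hn]
      exact orderOf_pow_dvd _
    have hmne : m ≠ n := by
      intro h
      rw [h] at hm2
      have : q ∣ Nat.gcd n q := Nat.dvd_gcd hqn dvd_rfl
      rw [Nat.Coprime.gcd_eq_one hm2] at this
      exact hqp.one_lt.ne' (Nat.dvd_one.1 this)
    have hlt : m < n := lt_of_le_of_ne (Nat.le_of_dvd hn0 hmn) hmne
    obtain ⟨q', hq', m', hk, hm'⟩ := ih m hlt _ hm3 h2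
    refine ⟨q', hq', q ^ (orderOf e).factorization q * m', ?_, ?_⟩
    · rw [pow_mul]; exact hk
    · rw [pow_mul]; exact hm'
  · refine ⟨q, hqp, m, ⟨(orderOf e).factorization q, ?_⟩, h1⟩
    rw [← hm1]
    exact pow_orderOf_eq_one _

/-- in a subgroup all of whose elements have `p`-power order there is an element whose order is
divisible by the orders of all elements -/
theorem exists_max_order [Finite G] {p : ℕ} (hp : p.Prime) (S : Subgroup G)
    (hSp : ∀ x ∈ S, ∃ k : ℕ, x ^ p ^ k = 1) :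
    ∃ g ∈ S, ∀ s ∈ S, orderOf s ∣ orderOf g := by
  classical
  have hfin : (S : Set G).Finite := Set.toFinite _
  obtain ⟨g, hgS, hg⟩ := Set.exists_max_image (S : Set G) (fun x => orderOf x) hfin ⟨1, S.one_mem⟩
  refine ⟨g, hgS, fun s hs => ?_⟩
  obtain ⟨k, hk⟩ := hSp s hs
  obtain ⟨j, hj⟩ := hSp g hgS
  obtain ⟨a, -, ha⟩ := (Nat.dvd_prime_pow hp).1 (orderOf_dvd_of_pow_eq_one hk)
  obtain ⟨b, -, hb⟩ := (Nat.dvd_prime_pow hp).1 (orderOf_dvd_of_pow_eq_one hj)
  have hle : orderOf s ≤ orderOf g := hg s hs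
  rw [ha, hb] at hle ⊢
  exact pow_dvd_pow p ((Nat.pow_le_pow_iff_right hp.one_lt).1 hle)

/-! ### invariance of the two parts -/

/-- the commutator part is invariant under every `n ∈ N(V)` which moves `t` inside `C(V) t` -/
theorem conj_mem_commPart {V K : Subgroup G} {t n : G}
    (hKV : K ≤ V) (hK : ∀ x, x ∈ K ↔ ∃ v ∈ V, x = v * t * v⁻¹ * t⁻¹)
    (hn : n ∈ Subgroup.normalizer (V : Set G))
    (hc : n * t * n⁻¹ * t⁻¹ ∈ Subgroup.centralizer (V : Set G)) :
    ∀ k ∈ K, n * k * n⁻¹ ∈ K := by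
  intro k hk
  obtain ⟨v, hv, rfl⟩ := (hK k).1 hk
  have hv' : n * v * n⁻¹ ∈ V := Cfsg.Agent.Helper24.conj_mem_of_mem_normalizer hn hv
  obtain ⟨c, hcdef⟩ : ∃ c, c = n * t * n⁻¹ * t⁻¹ := ⟨_, rfl⟩
  obtain ⟨v', hv'def⟩ : ∃ v', v' = n * v * n⁻¹ := ⟨_, rfl⟩
  rw [← hcdef] at hc
  rw [← hv'def] at hv'
  have hk' : v' * t * v'⁻¹ * t⁻¹ ∈ K := (hK _).2 ⟨v', hv', rfl⟩
  rw [Subgroup.mem_centralizer_iff] at hc
  have h1 : v' * c = c * v' := hc v' hv'
  have h2 : (v' * t * v'⁻¹ * t⁻¹) * c = c * (v' * t * v'⁻¹ * t⁻¹) := hc _ (hKV hk')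
  have e1 : n * (v * t * v⁻¹ * t⁻¹) * n⁻¹ = (v' * c) * (t * v'⁻¹ * t⁻¹ * c⁻¹) := by
    rw [hcdef, hv'def]; group
  have e2 : (c * v') * (t * v'⁻¹ * t⁻¹ * c⁻¹) = c * (v' * t * v'⁻¹ * t⁻¹) * c⁻¹ := by group
  rw [e1, h1, e2, ← h2, mul_inv_cancel_right]
  exact hk'

/-- the fixed part is invariant under every `n ∈ N(V)` which moves `t` inside `C(V) t` -/
theorem conj_mem_fixPart {V : Subgroup G} {t n : G}
    (hn : n ∈ Subgroup.normalizer (V : Set G))
    (hc : n * t * n⁻¹ * t⁻¹ ∈ Subgroup.centralizer (V : Set G)) :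
    ∀ s ∈ V ⊓ Subgroup.centralizer ({t} : Set G),
      n * s * n⁻¹ ∈ V ⊓ Subgroup.centralizer ({t} : Set G) := by
  intro s hs
  obtain ⟨hsV, hsC⟩ := Subgroup.mem_inf.1 hs
  have hs' : n * s * n⁻¹ ∈ V := Cfsg.Agent.Helper24.conj_mem_of_mem_normalizer hn hsV
  refine Subgroup.mem_inf.2 ⟨hs', ?_⟩
  rw [Subgroup.mem_centralizer_iff] at hsC hc ⊢
  intro y hy
  rw [Set.mem_singleton_iff] at hy
  subst hy
  have h1 : y * s = s * y := hsC y (Set.mem_singleton y)
  have h2 : (n * s * n⁻¹) * (n * y * n⁻¹ * y⁻¹) = (n * y * n⁻¹ * y⁻¹) * (n * s * n⁻¹) :=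
    hc _ hs'
  -- `n s n⁻¹` commutes with `n y n⁻¹` and with `c = n y n⁻¹ y⁻¹`, hence with `y`
  have h3 : (n * y * n⁻¹) * (n * s * n⁻¹) = (n * s * n⁻¹) * (n * y * n⁻¹) := by
    have : n * (y * s) * n⁻¹ = n * (s * y) * n⁻¹ := by rw [h1]
    calc (n * y * n⁻¹) * (n * s * n⁻¹) = n * (y * s) * n⁻¹ := by group
      _ = n * (s * y) * n⁻¹ := this
      _ = (n * s * n⁻¹) * (n * y * n⁻¹) := by group
  calc y * (n * s * n⁻¹)
      = (n * y * n⁻¹ * y⁻¹)⁻¹ * ((n * y * n⁻¹) * (n * s * n⁻¹)) := by group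
    _ = (n * y * n⁻¹ * y⁻¹)⁻¹ * ((n * s * n⁻¹) * (n * y * n⁻¹)) := by rw [h3]
    _ = (n * y * n⁻¹ * y⁻¹)⁻¹ * ((n * s * n⁻¹) * (n * y * n⁻¹ * y⁻¹)) * y := by group
    _ = (n * y * n⁻¹ * y⁻¹)⁻¹ * ((n * y * n⁻¹ * y⁻¹) * (n * s * n⁻¹)) * y := by rw [h2]
    _ = (n * s * n⁻¹) * y := by group

/-! ### the per-prime context -/

/-- The data around a prime `p ∈ τ₂(M)` with abelian Sylow `p`-subgroups: `Ms` plays `M_σ`,
`A` is the elementary abelian subgroup of order `p ^ 2` of `E`, `S` the normal abelian Sylow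
`p`-subgroup of `E`, `T1` plays `τ₁(M)`. -/
structure PPCtx (Ms E A S : Subgroup G) (p : ℕ) (T1 : Set ℕ) : Prop where
  prime : p.Prime
  AE : A ≤ E
  Aexp : ∀ a ∈ A, a ^ p = 1
  Acard : Nat.card A = p ^ 2
  SE : S ≤ E
  ES : E ≤ Subgroup.normalizer (S : Set G)
  Scomm : ∀ x ∈ S, ∀ y ∈ S, x * y = y * x
  Spow : ∀ x ∈ S, ∃ k : ℕ, x ^ p ^ k = 1
  Smax : ∀ x ∈ E, (∃ k : ℕ, x ^ p ^ k = 1) → x ∈ S
  omega : ∀ x ∈ E, x ^ p = 1 → x ∈ A
  EN : E ≤ Subgroup.normalizer (A : Set G)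
  CE : Subgroup.centralizer (A : Set G) ≤ E
  Nab : ∀ x ∈ Subgroup.normalizer (A : Set G), ∀ y ∈ Subgroup.normalizer (A : Set G),
    x * y * x⁻¹ * y⁻¹ ∈ Subgroup.centralizer (A : Set G)
  goodinv : ∀ X : Subgroup G, X ≤ A → Nat.card X = p →
    Subgroup.normalizer (A : Set G) ≤ Subgroup.normalizer (X : Set G) →
    Ms ⊓ Subgroup.centralizer (X : Set G) = ⊥
  good1 : ∃ A₁ : Subgroup G, A₁ ≤ A ∧ Nat.card A₁ = p ∧
    Ms ⊓ Subgroup.centralizer (A₁ : Set G) = ⊥
  MsA : Ms ⊓ Subgroup.centralizer (A : Set G) = ⊥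
  T1prime : ∀ r ∈ T1, r.Prime
  pT1 : p ∉ T1
  cent : ∀ q : ℕ, q.Prime → q ≠ p → q ∉ T1 → ∀ x ∈ E, (∃ k : ℕ, x ^ q ^ k = 1) →
    x ∈ Subgroup.centralizer (A : Set G)
  frob : ∀ r ∈ T1, ∀ y ∈ E, orderOf y = r → ∀ Y : Subgroup G, Y ≤ A → Y ≠ ⊥ →
    y ∈ Subgroup.normalizer (Y : Set G) → (∀ v ∈ Y, y * v = v * y → v = 1) →
    Ms ⊓ Subgroup.centralizer (Y : Set G) ≠ ⊥
  pf : ∀ r ∈ T1, ∀ R : Subgroup G, R ≤ E → IsPGroup r R → ∀ z ∈ R, z ≠ 1 →
    z ∈ Subgroup.centralizer (A : Set G) → ¬ R ≤ Subgroup.centralizer (A : Set G) →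
    ∃ t, t ∈ Subgroup.normalizer (A : Set G) ∧ (∃ k : ℕ, t ^ r ^ k = 1) ∧
      A ⊓ Subgroup.centralizer ({t} : Set G) ≠ ⊥ ∧ ¬ A ≤ Subgroup.centralizer ({t} : Set G)

namespace PPCtx

variable {Ms E A S : Subgroup G} {p : ℕ} {T1 : Set ℕ}

theorem AS (h : PPCtx Ms E A S p T1) : A ≤ S := fun a ha =>
  h.Smax a (h.AE ha) ⟨1, by rw [pow_one]; exact h.Aexp a ha⟩

theorem S_le_centralizer (h : PPCtx Ms E A S p T1) : S ≤ Subgroup.centralizer (A : Set G) := by
  intro s hs
  rw [Subgroup.mem_centralizer_iff]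
  intro a ha
  exact h.Scomm a (h.AS ha) s hs

theorem A_ne_bot (h : PPCtx Ms E A S p T1) : A ≠ ⊥ := by
  intro hA
  have := h.Acard
  rw [hA, Subgroup.card_bot] at this
  have h2 : 1 < p ^ 2 := Nat.one_lt_pow (by norm_num) h.prime.one_lt
  omega

/-- `C(A)` is normalized by `N(A)`, elementwise -/
theorem conj_mem_centralizer {A : Subgroup G} {n c : G}
    (hn : n ∈ Subgroup.normalizer (A : Set G)) (hc : c ∈ Subgroup.centralizer (A : Set G)) :
    n * c * n⁻¹ ∈ Subgroup.centralizer (A : Set G) := by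
  rw [Subgroup.mem_centralizer_iff] at hc ⊢
  intro a ha
  have ha' : n⁻¹ * a * n ∈ A := Cfsg.Agent.Helper24.conj_inv_mem_of_mem_normalizer hn ha
  have h1 : (n⁻¹ * a * n) * c = c * (n⁻¹ * a * n) := hc _ ha'
  calc a * (n * c * n⁻¹) = n * ((n⁻¹ * a * n) * c) * n⁻¹ := by group
    _ = n * (c * (n⁻¹ * a * n)) * n⁻¹ := by rw [h1]
    _ = n * c * n⁻¹ * a := by group

theorem normalizer_le (h : PPCtx Ms E A S p T1) :
    Subgroup.normalizer (A : Set G) ≤ Subgroup.normalizer (S : Set G) := by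
  apply le_normalizer_of_conj_mem
  intro n hn x hx
  apply h.Smax
  · exact h.CE (conj_mem_centralizer hn (h.S_le_centralizer hx))
  · obtain ⟨k, hk⟩ := h.Spow x hx
    refine ⟨k, ?_⟩
    rw [conj_pow, hk]; group

theorem isPGroup_S (h : PPCtx Ms E A S p T1) : IsPGroup p S := by
  intro x
  obtain ⟨k, hk⟩ := h.Spow x x.2
  exact ⟨k, Subtype.ext (by simpa using hk)⟩

/-- a `q`-element, `q ≠ p`, has order coprime to `|S|` -/
theorem coprime_orderOf_card [Finite G] (h : PPCtx Ms E A S p T1) {q : ℕ} (hq : q.Prime)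
    (hqp : q ≠ p) {t : G} (ht : ∃ k : ℕ, t ^ q ^ k = 1) : (orderOf t).Coprime (Nat.card S) := by
  obtain ⟨k, hk⟩ := ht
  have : Fact p.Prime := ⟨h.prime⟩
  obtain ⟨j, hj⟩ := IsPGroup.iff_card.1 h.isPGroup_S
  rw [hj]
  apply Nat.Coprime.coprime_dvd_left (orderOf_dvd_of_pow_eq_one hk)
  exact Nat.Coprime.pow _ _ ((Nat.coprime_primes hq h.prime).2 hqp)

/-- `C(A)` centralizes `S` -/
theorem centralizer_le [Finite G] (h : PPCtx Ms E A S p T1) :
    Subgroup.centralizer (A : Set G) ≤ Subgroup.centralizer (S : Set G) := by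
  intro c hc
  by_contra hcS
  obtain ⟨q, hq, m, hk, hm⟩ := exists_prime_pow_part_not_mem (Subgroup.centralizer (S : Set G)) c hcS
  have hcm : c ^ m ∈ Subgroup.centralizer (A : Set G) := Subgroup.pow_mem _ hc m
  have hcmE : c ^ m ∈ E := h.CE hcm
  apply hm
  rw [Subgroup.mem_centralizer_iff]
  by_cases hqp : q = p
  · subst hqp
    have : c ^ m ∈ S := h.Smax _ hcmE hk
    intro s hs
    exact h.Scomm s hs _ this
  · have hN : c ^ m ∈ Subgroup.normalizer (S : Set G) := h.ES hcmE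
    have hcop := h.coprime_orderOf_card hq hqp hk
    have key := Cfsg.Agent.Helper24.commute_of_commute_prime_order h.Scomm hN hcop (by
      intro v hv hvp
      -- `v` has order `p`, so it lies in `A`
      obtain ⟨k, hk⟩ := h.Spow v hv
      have h1 : orderOf v ∣ p ^ k := orderOf_dvd_of_pow_eq_one hk
      have h2 : orderOf v = p := (Nat.prime_dvd_prime_iff_eq hvp h.prime).1 (hvp.dvd_of_dvd_pow h1)
      have h3 : v ^ p = 1 := by rw [← h2]; exact pow_orderOf_eq_one v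
      have hvA : v ∈ A := h.omega v (h.SE hv) h3
      rw [Subgroup.mem_centralizer_iff] at hcm
      exact (hcm v hvA).symm)
    intro s hs
    exact (key s hs).symm

end PPCtx

namespace PPCtx

variable {Ms E A S : Subgroup G} {p : ℕ} {T1 : Set ℕ}

theorem Acomm (h : PPCtx Ms E A S p T1) : ∀ x ∈ A, ∀ y ∈ A, x * y = y * x :=
  fun x hx y hy => h.Scomm x (h.AS hx) y (h.AS hy)

/-- an element of `E` of prime order `r ∈ T1` centralizes `A` -/
theorem mem_centralizer_of_orderOf [Finite G] (h : PPCtx Ms E A S p T1) {r : ℕ} (hr : r ∈ T1)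
    {z : G} (hzE : z ∈ E) (hz : orderOf z = r) : z ∈ Subgroup.centralizer (A : Set G) := by
  by_contra hzC
  have hrp : r.Prime := h.T1prime r hr
  have hrne : r ≠ p := fun e => h.pT1 (e ▸ hr)
  have hzN : z ∈ Subgroup.normalizer (A : Set G) := h.EN hzE
  by_cases hX1 : A ⊓ Subgroup.centralizer ({z} : Set G) = ⊥
  · -- `z` acts without fixed points on `A`
    apply h.frob r hr z hzE hz A le_rfl h.A_ne_bot hzN _ h.MsA
    intro v hv hzv
    have : v ∈ A ⊓ Subgroup.centralizer ({z} : Set G) := by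
      refine Subgroup.mem_inf.2 ⟨hv, ?_⟩
      rw [Subgroup.mem_centralizer_iff]
      intro y hy
      rw [Set.mem_singleton_iff] at hy
      subst hy
      exact hzv
    rw [hX1, Subgroup.mem_bot] at this
    exact this
  · -- the commutator part of `A` is an invariant point with nontrivial centralizer in `Ms`
    have hcop : (orderOf z).Coprime (Nat.card A) := by
      rw [hz, h.Acard]
      exact Nat.Coprime.pow_right _ ((Nat.coprime_primes hrp h.prime).2 hrne)
    obtain ⟨K, hKA, hK, hKC, hdec, hzK⟩ := exists_commPart A z h.Acomm hzN hcop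
    have hXA : A ⊓ Subgroup.centralizer ({z} : Set G) ≠ A := by
      intro e
      apply hzC
      rw [Subgroup.mem_centralizer_iff]
      intro a ha
      have : a ∈ A ⊓ Subgroup.centralizer ({z} : Set G) := by rw [e]; exact ha
      have h2 := (Subgroup.mem_inf.1 this).2
      rw [Subgroup.mem_centralizer_iff] at h2
      exact (h2 z (Set.mem_singleton z)).symm
    have hK1 : K ≠ ⊥ := by
      intro e
      apply hXA
      apply le_antisymm inf_le_left
      intro a ha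
      obtain ⟨k, hk, c, hc, rfl⟩ := hdec a ha
      rw [e, Subgroup.mem_bot] at hk
      rw [hk, one_mul]
      exact hc
    have hKne : K ≠ A := by
      intro e
      apply hX1
      rw [← e]
      exact hKC
    have hKcard : Nat.card K = p := card_eq_prime_of_ne_bot_of_ne h.prime h.Acard hKA hK1 hKne
    have hKinv : Subgroup.normalizer (A : Set G) ≤ Subgroup.normalizer (K : Set G) := by
      apply le_normalizer_of_conj_mem
      intro n hn
      apply conj_mem_commPart hKA hK hn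
      exact h.Nab n hn z hzN
    have hgood := h.goodinv K hKA hKcard hKinv
    apply h.frob r hr z hzE hz K hKA hK1 hzK _ hgood
    intro v hv hzv
    have : v ∈ K ⊓ Subgroup.centralizer ({z} : Set G) := by
      refine Subgroup.mem_inf.2 ⟨hv, ?_⟩
      rw [Subgroup.mem_centralizer_iff]
      intro y hy
      rw [Set.mem_singleton_iff] at hy
      subst hy
      exact hzv
    rw [hKC, Subgroup.mem_bot] at this
    exact this

end PPCtx

namespace PPCtx

variable {Ms E A S : Subgroup G} {p : ℕ} {T1 : Set ℕ}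

/-- the conclusion for the prime `p` -/
def Concl (Ms E S : Subgroup G) (p : ℕ) : Prop :=
  ∃ Z : Subgroup G, Z ≤ S ∧ E ≤ Subgroup.normalizer (Z : Set G) ∧
    (∃ g ∈ Z, ∀ s ∈ S, orderOf s ∣ orderOf g) ∧
    ∀ x ∈ Z, x ≠ 1 → x ^ p = 1 → Ms ⊓ Subgroup.centralizer ({x} : Set G) = ⊥

/-- good points give the last clause of the conclusion -/
theorem good_of_mem [Finite G] (h : PPCtx Ms E A S p T1) {X : Subgroup G}
    (hXcard : Nat.card X = p) (hXgood : Ms ⊓ Subgroup.centralizer (X : Set G) = ⊥) {x : G}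
    (hxX : x ∈ X) (hx1 : x ≠ 1) : Ms ⊓ Subgroup.centralizer ({x} : Set G) = ⊥ := by
  rw [eq_bot_iff, ← hXgood]
  exact inf_le_inf_left _ (centralizer_singleton_le_of_card_prime h.prime hXcard hxX hx1)

/-- a cyclic `Z` when `E` centralizes `S` -/
theorem finish_cyclic [Finite G] (h : PPCtx Ms E A S p T1) {s : G} {b : ℕ} (hsS : s ∈ S)
    (hord : orderOf s = p ^ (b + 1)) (hmax : ∀ s' ∈ S, orderOf s' ∣ orderOf s) {X : Subgroup G}
    (hXcard : Nat.card X = p) (hXgood : Ms ⊓ Subgroup.centralizer (X : Set G) = ⊥)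
    (hsX : s ^ p ^ b ∈ X) (hEC : E ≤ Subgroup.centralizer (S : Set G)) : Concl Ms E S p := by
  have hZS : Subgroup.zpowers s ≤ S := Subgroup.zpowers_le.2 hsS
  refine ⟨Subgroup.zpowers s, hZS, ?_, ⟨s, Subgroup.mem_zpowers s, hmax⟩, ?_⟩
  · apply le_normalizer_of_conj_mem
    intro e he x hx
    have h1 := hEC he
    rw [Subgroup.mem_centralizer_iff] at h1
    have h2 : x * e = e * x := h1 x (hZS hx)
    have : e * x * e⁻¹ = x := by rw [← h2]; group
    rw [this]; exact hx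
  · intro x hx hx1 hxp
    obtain ⟨j, rfl⟩ : ∃ j : ℕ, s ^ j = x := by
      have hfin : IsOfFinOrder s := isOfFinOrder_of_finite s
      have := hfin.mem_powers_iff_mem_zpowers.2 hx
      exact (Submonoid.mem_powers_iff x s).1 this
    have h1 : s ^ (j * p) = 1 := by rw [pow_mul]; exact hxp
    have h2 : p ^ b * p ∣ j * p := by
      rw [← pow_succ, ← hord]
      exact orderOf_dvd_of_pow_eq_one h1
    have h3 : p ^ b ∣ j := Nat.dvd_of_mul_dvd_mul_right h.prime.pos h2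
    obtain ⟨j', rfl⟩ := h3
    have hxX : s ^ (p ^ b * j') ∈ X := by
      rw [pow_mul]; exact X.pow_mem hsX j'
    exact h.good_of_mem hXcard hXgood hxX hx1

/-- **Case B**: `E` centralizes `A`. -/
theorem caseB [Finite G] (h : PPCtx Ms E A S p T1)
    (hEC : E ≤ Subgroup.centralizer (A : Set G)) : Concl Ms E S p := by
  classical
  have hp : Fact p.Prime := ⟨h.prime⟩
  have hEC' : E ≤ Subgroup.centralizer (S : Set G) := hEC.trans h.centralizer_le
  obtain ⟨g, hgS, hgmax⟩ := exists_max_order h.prime S h.Spow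
  obtain ⟨k, hk⟩ := h.Spow g hgS
  obtain ⟨a, -, ha⟩ := (Nat.dvd_prime_pow h.prime).1 (orderOf_dvd_of_pow_eq_one hk)
  have ha0 : a ≠ 0 := by
    intro e
    rw [e, pow_zero] at ha
    obtain ⟨x, hx1⟩ := (Subgroup.ne_bot_iff_exists_ne_one).1 h.A_ne_bot
    have hxA' : (x : G) ∈ A := x.2
    have := hgmax x (h.AS hxA')
    rw [ha] at this
    apply hx1
    exact Subtype.ext (orderOf_eq_one_iff.1 (Nat.dvd_one.1 this))
  obtain ⟨b, rfl⟩ := Nat.exists_eq_succ_of_ne_zero ha0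
  -- the subgroup `W` of `p ^ b`-th powers
  let W : Subgroup G :=
    { carrier := {w | ∃ s ∈ S, w = s ^ p ^ b}
      one_mem' := ⟨1, S.one_mem, by simp⟩
      mul_mem' := by
        rintro _ _ ⟨s, hs, rfl⟩ ⟨s', hs', rfl⟩
        refine ⟨s * s', S.mul_mem hs hs', ?_⟩
        have hc : Commute s s' := h.Scomm s hs s' hs'
        exact (hc.mul_pow _).symm
      inv_mem' := by
        rintro _ ⟨s, hs, rfl⟩
        exact ⟨s⁻¹, S.inv_mem hs, by rw [inv_pow]⟩ }
  have hWmem : ∀ w, w ∈ W ↔ ∃ s ∈ S, w = s ^ p ^ b := fun w => Iff.rfl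
  have hWA : W ≤ A := by
    rintro _ ⟨s, hs, rfl⟩
    apply h.omega _ (h.SE (S.pow_mem hs _))
    rw [← pow_mul, ← pow_succ]
    have := hgmax s hs
    rw [ha] at this
    exact orderOf_dvd_iff_pow_eq_one.1 this
  have hgW : g ^ p ^ b ∈ W := ⟨g, hgS, rfl⟩
  have hg1 : g ^ p ^ b ≠ 1 := by
    intro e
    have h1 := orderOf_dvd_of_pow_eq_one e
    rw [ha] at h1
    have := (Nat.pow_dvd_pow_iff_le_right h.prime.one_lt).1 h1
    omega
  have hW1 : W ≠ ⊥ := by
    intro e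
    rw [e, Subgroup.mem_bot] at hgW
    exact hg1 hgW
  have hWinv : Subgroup.normalizer (A : Set G) ≤ Subgroup.normalizer (W : Set G) := by
    apply le_normalizer_of_conj_mem
    rintro n hn _ ⟨s, hs, rfl⟩
    refine ⟨n * s * n⁻¹, Cfsg.Agent.Helper24.conj_mem_of_mem_normalizer (h.normalizer_le hn) hs, ?_⟩
    rw [conj_pow]
  by_cases hWeq : W = A
  · obtain ⟨A₁, hA₁A, hA₁card, hA₁good⟩ := h.good1
    have hA₁1 : A₁ ≠ ⊥ := by
      intro e
      rw [e, Subgroup.card_bot] at hA₁card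
      exact h.prime.one_lt.ne hA₁card
    obtain ⟨x, hx1⟩ := (Subgroup.ne_bot_iff_exists_ne_one).1 hA₁1
    have hxA₁ : (x : G) ∈ A₁ := x.2
    have hx1' : (x : G) ≠ 1 := fun e => hx1 (Subtype.ext e)
    have hxW : (x : G) ∈ W := by rw [hWeq]; exact hA₁A hxA₁
    obtain ⟨s, hs, hxs⟩ := hxW
    have hsord : orderOf s = p ^ (b + 1) := by
      apply orderOf_eq_prime_pow
      · rw [← hxs]; exact hx1'
      · have := hgmax s hs
        rw [ha] at this
        exact orderOf_dvd_iff_pow_eq_one.1 this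
    apply h.finish_cyclic hs hsord _ hA₁card hA₁good (hxs ▸ hxA₁) hEC'
    intro s' hs'
    rw [hsord, ← ha]
    exact hgmax s' hs'
  · have hWcard : Nat.card W = p := card_eq_prime_of_ne_bot_of_ne h.prime h.Acard hWA hW1 hWeq
    exact h.finish_cyclic hgS ha hgmax hWcard (h.goodinv W hWA hWcard hWinv) hgW hEC'

end PPCtx

namespace PPCtx

variable {Ms E A S : Subgroup G} {p : ℕ} {T1 : Set ℕ}

/-- **Case A**: some element of `E` does not centralize `A`. -/
theorem caseA [Finite G] (h : PPCtx Ms E A S p T1)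
    (hEC : ¬ E ≤ Subgroup.centralizer (A : Set G)) : Concl Ms E S p := by
  classical
  obtain ⟨e, heE, heC⟩ := SetLike.not_le_iff_exists.1 hEC
  obtain ⟨r, hrp, m, hxk, hxC⟩ :=
    exists_prime_pow_part_not_mem (Subgroup.centralizer (A : Set G)) e heC
  obtain ⟨x, hxdef⟩ : ∃ x, x = e ^ m := ⟨_, rfl⟩
  rw [← hxdef] at hxk hxC
  have hxE : x ∈ E := hxdef ▸ E.pow_mem heE m
  have hrne : r ≠ p := by
    intro e
    subst e
    exact hxC (h.S_le_centralizer (h.Smax x hxE hxk))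
  have hrT : r ∈ T1 := by
    by_contra hrT
    exact hxC (h.cent r hrp hrne hrT x hxE hxk)
  have hr : Fact r.Prime := ⟨hrp⟩
  -- the cyclic `r`-group `R = ⟨x⟩` and its element `z` of order `r`
  have hRE : Subgroup.zpowers x ≤ E := Subgroup.zpowers_le.2 hxE
  have hRr : IsPGroup r (Subgroup.zpowers x) := by
    obtain ⟨k, hk⟩ := hxk
    rintro ⟨y, hy⟩
    obtain ⟨i, rfl⟩ := Subgroup.mem_zpowers_iff.1 hy
    refine ⟨k, Subtype.ext ?_⟩
    change (x ^ i) ^ r ^ k = 1
    rw [← zpow_natCast, ← zpow_mul, mul_comm, zpow_mul, zpow_natCast, hk, one_zpow]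
  have hRC : ¬ Subgroup.zpowers x ≤ Subgroup.centralizer (A : Set G) := fun hle =>
    hxC (hle (Subgroup.mem_zpowers x))
  have hx1 : x ≠ 1 := by
    intro e
    apply hxC
    rw [e]
    exact Subgroup.one_mem _
  obtain ⟨z, hzR, hzord⟩ : ∃ z ∈ Subgroup.zpowers x, orderOf z = r := by
    have hdvd : r ∣ Nat.card (Subgroup.zpowers x) := by
      obtain ⟨k, hk⟩ := IsPGroup.iff_card.1 hRr
      rw [hk]
      have hk0 : k ≠ 0 := by
        intro e
        rw [e, pow_zero, Nat.card_zpowers, orderOf_eq_one_iff] at hk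
        exact hx1 hk
      exact dvd_pow_self r hk0
    obtain ⟨z, hz⟩ := exists_prime_orderOf_dvd_card' r hdvd
    exact ⟨z, z.2, by rw [← hz, Subgroup.orderOf_coe]⟩
  have hz1 : z ≠ 1 := by
    intro e
    rw [e, orderOf_one] at hzord
    exact hrp.one_lt.ne hzord
  have hzC : z ∈ Subgroup.centralizer (A : Set G) := h.mem_centralizer_of_orderOf hrT (hRE hzR) hzord
  obtain ⟨t, htN, htk, htX1, htA⟩ := h.pf r hrT _ hRE hRr z hzR hz1 hzC hRC
  -- the decomposition of `S` under `t`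
  have htS : t ∈ Subgroup.normalizer (S : Set G) := h.normalizer_le htN
  have hcop := h.coprime_orderOf_card hrp hrne htk
  obtain ⟨K, hKS, hK, hKC, hdec, htK⟩ := exists_commPart S t h.Scomm htS hcop
  have hmove : ∀ n ∈ Subgroup.normalizer (A : Set G),
      n * t * n⁻¹ * t⁻¹ ∈ Subgroup.centralizer (S : Set G) := fun n hn =>
    h.centralizer_le (h.Nab n hn t htN)
  have hKinv : Subgroup.normalizer (A : Set G) ≤ Subgroup.normalizer (K : Set G) := by
    apply le_normalizer_of_conj_mem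
    intro n hn
    exact conj_mem_commPart hKS hK (h.normalizer_le hn) (hmove n hn)
  have hZ1inv : Subgroup.normalizer (A : Set G) ≤
      Subgroup.normalizer ((S ⊓ Subgroup.centralizer ({t} : Set G) : Subgroup G) : Set G) := by
    apply le_normalizer_of_conj_mem
    intro n hn
    exact conj_mem_fixPart (h.normalizer_le hn) (hmove n hn)
  -- the two points
  have hX1A : A ⊓ Subgroup.centralizer ({t} : Set G) ≠ A := by
    intro e
    apply htA
    rw [← e]
    exact inf_le_right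
  have hX1card : Nat.card (A ⊓ Subgroup.centralizer ({t} : Set G) : Subgroup G) = p :=
    card_eq_prime_of_ne_bot_of_ne h.prime h.Acard inf_le_left htX1 hX1A
  have hX1inv : Subgroup.normalizer (A : Set G) ≤
      Subgroup.normalizer ((A ⊓ Subgroup.centralizer ({t} : Set G) : Subgroup G) : Set G) := by
    apply le_normalizer_of_conj_mem
    intro n hn y hy
    obtain ⟨hyA, hyC⟩ := Subgroup.mem_inf.1 hy
    have h1 : n * y * n⁻¹ ∈ S ⊓ Subgroup.centralizer ({t} : Set G) :=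
      Cfsg.Agent.Helper24.conj_mem_of_mem_normalizer (hZ1inv hn)
        (Subgroup.mem_inf.2 ⟨h.AS hyA, hyC⟩)
    exact Subgroup.mem_inf.2 ⟨Cfsg.Agent.Helper24.conj_mem_of_mem_normalizer hn hyA,
      (Subgroup.mem_inf.1 h1).2⟩
  have hX1good := h.goodinv _ inf_le_left hX1card hX1inv
  have hX2inv : Subgroup.normalizer (A : Set G) ≤
      Subgroup.normalizer ((A ⊓ K : Subgroup G) : Set G) := by
    apply le_normalizer_of_conj_mem
    intro n hn y hy
    obtain ⟨hyA, hyK⟩ := Subgroup.mem_inf.1 hy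
    exact Subgroup.mem_inf.2 ⟨Cfsg.Agent.Helper24.conj_mem_of_mem_normalizer hn hyA,
      Cfsg.Agent.Helper24.conj_mem_of_mem_normalizer (hKinv hn) hyK⟩
  have hX2A : A ⊓ K ≠ A := by
    intro e
    apply htX1
    rw [eq_bot_iff, ← hKC]
    have hAK : A ≤ K := by rw [← e]; exact inf_le_right
    exact inf_le_inf_right _ hAK
  -- elements of largest order
  have hZ1S : S ⊓ Subgroup.centralizer ({t} : Set G) ≤ S := inf_le_left
  obtain ⟨g1, hg1, hg1max⟩ := exists_max_order h.prime (S ⊓ Subgroup.centralizer ({t} : Set G))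
    (fun x hx => h.Spow x (hZ1S hx))
  obtain ⟨g2, hg2, hg2max⟩ := exists_max_order h.prime K (fun x hx => h.Spow x (hKS hx))
  have hcmp : orderOf g1 ∣ orderOf g2 ∨ orderOf g2 ∣ orderOf g1 := by
    obtain ⟨k1, hk1⟩ := h.Spow g1 (hZ1S hg1)
    obtain ⟨k2, hk2⟩ := h.Spow g2 (hKS hg2)
    obtain ⟨a1, -, ha1⟩ := (Nat.dvd_prime_pow h.prime).1 (orderOf_dvd_of_pow_eq_one hk1)
    obtain ⟨a2, -, ha2⟩ := (Nat.dvd_prime_pow h.prime).1 (orderOf_dvd_of_pow_eq_one hk2)
    rw [ha1, ha2]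
    rcases le_total a1 a2 with hle | hle
    · exact Or.inl (pow_dvd_pow p hle)
    · exact Or.inr (pow_dvd_pow p hle)
  have hord : ∀ s ∈ S, orderOf s ∣ Nat.lcm (orderOf g2) (orderOf g1) := by
    intro s hs
    obtain ⟨k, hk, c, hc, rfl⟩ := hdec s hs
    have hcomm : Commute k c := h.Scomm k (hKS hk) c (hZ1S hc)
    exact hcomm.orderOf_mul_dvd_lcm.trans (Nat.lcm_dvd
      ((hg2max k hk).trans (Nat.dvd_lcm_left _ _)) ((hg1max c hc).trans (Nat.dvd_lcm_right _ _)))
  rcases hcmp with hcmp | hcmp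
  · -- `Z = K`
    refine ⟨K, hKS, h.EN.trans hKinv, ⟨g2, hg2, fun s hs => ?_⟩, ?_⟩
    · exact (hord s hs).trans (Nat.lcm_dvd dvd_rfl hcmp)
    · intro x hxK hx1 hxp
      have hxA : x ∈ A := h.omega x (h.SE (hKS hxK)) hxp
      have hxX2 : x ∈ A ⊓ K := Subgroup.mem_inf.2 ⟨hxA, hxK⟩
      have hX21 : A ⊓ K ≠ ⊥ := by
        intro e
        rw [e, Subgroup.mem_bot] at hxX2
        exact hx1 hxX2
      have hX2card : Nat.card (A ⊓ K : Subgroup G) = p :=
        card_eq_prime_of_ne_bot_of_ne h.prime h.Acard inf_le_left hX21 hX2A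
      exact h.good_of_mem hX2card (h.goodinv _ inf_le_left hX2card hX2inv) hxX2 hx1
  · -- `Z = C_S(t)`
    refine ⟨S ⊓ Subgroup.centralizer ({t} : Set G), hZ1S, h.EN.trans hZ1inv,
      ⟨g1, hg1, fun s hs => ?_⟩, ?_⟩
    · exact (hord s hs).trans (Nat.lcm_dvd hcmp dvd_rfl)
    · intro x hxZ hx1 hxp
      obtain ⟨hxS, hxC⟩ := Subgroup.mem_inf.1 hxZ
      have hxA : x ∈ A := h.omega x (h.SE hxS) hxp
      exact h.good_of_mem hX1card hX1good (Subgroup.mem_inf.2 ⟨hxA, hxC⟩) hx1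

/-- **The per-prime theorem**, abstract form. -/
theorem concl [Finite G] (h : PPCtx Ms E A S p T1) : Concl Ms E S p := by
  by_cases hEC : E ≤ Subgroup.centralizer (A : Set G)
  · exact h.caseB hEC
  · exact h.caseA hEC

end PPCtx

end Cfsg.Agent.Helper1.BG1212
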