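import Cfsg.Agent.Helper1.Compl
import Cfsg.Agent.S0002
import Cfsg.Agent.S0043
import Mathlib.GroupTheory.SchurZassenhaus
import Mathlib.GroupTheory.Sylow
import Mathlib.Order.Preorder.Finite

set_option autoImplicit false

namespace Cfsg.Agent.Helper1

open Subgroup Pointwise
open scoped commutatorElement

universe u

/-- A nontrivial finite solvable group has a nontrivial normal `p`-subgroup for some prime `p`. -/
theorem exists_normal_pSubgroup (X : Type*) [Group X] [Finite X] [Nontrivial X]
    [Group.IsSolvable X] :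
    ∃ p : ℕ, p.Prime ∧ ∃ R : Subgroup X, R.Normal ∧ R ≠ ⊥ ∧ IsPGroup p R := by
  obtain ⟨M, -, hMmin⟩ := Finite.exists_le_minimal (p := fun M : Subgroup X => M.Normal ∧ M ≠ ⊥)
    (a := ⊤) ⟨inferInstance, top_ne_bot⟩
  obtain ⟨hMn, hMbot⟩ := hMmin.prop
  haveI := hMn
  have hmin : ∀ M' : Subgroup X, M'.Normal → M' ≤ M → M' = ⊥ ∨ M' = M := by
    intro M' hM'n hle
    by_cases h : M' = ⊥
    · exact Or.inl h
    · exact Or.inr (le_antisymm hle (hMmin.le_of_le ⟨hM'n, h⟩ hle))
  obtain ⟨-, p, hp, hpow⟩ := Cfsg.Agent.S0043.result M hMbot hmin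
  refine ⟨p, hp, M, hMn, hMbot, ?_⟩
  intro x
  refine ⟨1, ?_⟩
  rw [pow_one]
  exact Subtype.ext (by simpa using hpow x x.2)

/-- **Schur–Zassenhaus, conjugacy** by strong induction on the order. -/
theorem sz_conj_aux (n : ℕ) : ∀ (G : Type u) [Group G] [Finite G], Nat.card G = n →
    ∀ (N H K : Subgroup G) [N.Normal], (Nat.card N).Coprime (Nat.card H) →
      IsComplement' N H → IsComplement' N K → (Group.IsSolvable N ∨ Group.IsSolvable H) →
      ∃ g : G, MulAut.conj g • H = K := by
  induction n using Nat.strong_induction_on with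
  | _ n ih =>
  intro G _ _ hcard N H K hNn hcop hH hK hsolv
  have hcardHK : Nat.card K = Nat.card H := by
    have h1 := hH.card_mul_card
    have h2 := hK.card_mul_card
    exact Nat.eq_of_mul_eq_mul_left (Nat.card_pos (α := N)) (h2.trans h1.symm)
  have hdisjH : N ⊓ H = ⊥ := disjoint_iff.mp hH.disjoint
  have hdisjK : N ⊓ K = ⊥ := disjoint_iff.mp hK.disjoint
  rcases hsolv with hNs | hHs
  · ----------------------------------------------------------------
    -- Case A: `N` solvable
    by_cases hNbot : N = ⊥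
    · subst hNbot
      rw [isComplement'_bot_left] at hH hK
      exact ⟨1, by rw [hH, hK]; simp⟩
    have hNnt : Nontrivial N := (Subgroup.nontrivial_iff_ne_bot N).mpr hNbot
    have hlt : ⁅N, N⁆ < N := by
      have h1 : commutator N < ⊤ := Group.IsSolvable.commutator_lt_top_of_nontrivial N
      have h2 : (commutator N).map N.subtype = ⁅N, N⁆ := by
        rw [commutator_def, Subgroup.map_commutator, ← MonoidHom.range_eq_map, Subgroup.range_subtype]
      have h3 := (Subgroup.map_subtype_lt_map_subtype (G' := N)).mpr h1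
      rw [h2, ← MonoidHom.range_eq_map, Subgroup.range_subtype] at h3
      exact h3
    set N' : Subgroup G := ⁅N, N⁆ with hN'
    have hN'n : N'.Normal := inferInstance
    have hidx : N.index = Nat.card H := hH.symm.index_eq_card
    by_cases hN'bot : N' = ⊥
    · have hcomm : IsMulCommutative N := Subgroup.commutator_self_eq_bot_iff.mp hN'bot
      obtain ⟨a, -, ha⟩ := Cfsg.Agent.S0002.result N (by rw [hidx]; exact hcop) H K hH hK
      exact ⟨a, ha⟩
    · -- pass to the quotient by `N'`
      have hsurj : Function.Surjective (QuotientGroup.mk' N') := QuotientGroup.mk'_surjective N'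
      have hcH := isComplement'_map_of_surjective hH hcop (QuotientGroup.mk' N') hsurj
      have hcK := isComplement'_map_of_surjective hK (by rw [hcardHK]; exact hcop)
        (QuotientGroup.mk' N') hsurj
      haveI hNbarn : (N.map (QuotientGroup.mk' N')).Normal := hNn.map _ hsurj
      haveI hNbarc : IsMulCommutative (N.map (QuotientGroup.mk' N')) := by
        refine ⟨⟨?_⟩⟩
        rintro ⟨x, hx⟩ ⟨y, hy⟩
        obtain ⟨a, ha, rfl⟩ := hx
        obtain ⟨b, hb, rfl⟩ := hy
        apply Subtype.ext
        change QuotientGroup.mk' N' a * QuotientGroup.mk' N' b =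
          QuotientGroup.mk' N' b * QuotientGroup.mk' N' a
        rw [← map_mul, ← map_mul, QuotientGroup.mk'_apply, QuotientGroup.mk'_apply,
          QuotientGroup.eq]
        have : ⁅b⁻¹, a⁻¹⁆ ∈ N' := Subgroup.commutator_mem_commutator (N.inv_mem hb) (N.inv_mem ha)
        rw [commutatorElement_def] at this
        simpa [mul_assoc] using this
      have hcop' : (Nat.card (N.map (QuotientGroup.mk' N'))).Coprime
          (N.map (QuotientGroup.mk' N')).index := by
        rw [hcH.symm.index_eq_card]
        exact Nat.Coprime.coprime_dvd_left (Subgroup.card_map_dvd N _)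
          (Nat.Coprime.coprime_dvd_right (Subgroup.card_map_dvd H _) hcop)
      obtain ⟨gbar, -, hgbar⟩ := Cfsg.Agent.S0002.result (N.map (QuotientGroup.mk' N')) hcop'
        (H.map (QuotientGroup.mk' N')) (K.map (QuotientGroup.mk' N')) hcH hcK
      obtain ⟨g, rfl⟩ := hsurj gbar
      set H₁ : Subgroup G := MulAut.conj g • H with hH₁
      have hH₁c : IsComplement' N H₁ := isComplement'_conj hH g
      have hcardH₁ : Nat.card H₁ = Nat.card H := card_conj_smul H g
      have hdisjH₁ : N ⊓ H₁ = ⊥ := disjoint_iff.mp hH₁c.disjoint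
      -- `H₁` and `K` have the same image in the quotient
      have hmap : H₁.map (QuotientGroup.mk' N') = K.map (QuotientGroup.mk' N') := by
        rw [← hgbar]
        ext y
        constructor
        · rintro ⟨x, hx, rfl⟩
          rw [mem_conj_smul]
          have hx' : x ∈ MulAut.conj g • H := hx
          rw [mem_conj_smul] at hx'
          refine ⟨g⁻¹ * x * g, hx', ?_⟩
          simp
        · intro hy
          rw [mem_conj_smul] at hy
          obtain ⟨x, hx, hxy⟩ := hy
          refine ⟨g * x * g⁻¹, conj_mem_conj_smul hx, ?_⟩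
          rw [map_mul, map_mul, hxy, map_inv]
          simp [mul_assoc]
      set L : Subgroup G := N' ⊔ K with hL
      have hKL : K ≤ L := le_sup_right
      have hN'L : N' ≤ L := le_sup_left
      have hsupeq : N' ⊔ H₁ = N' ⊔ K := by
        have h1 := congrArg (Subgroup.comap (QuotientGroup.mk' N')) hmap
        rw [Subgroup.comap_map_eq, Subgroup.comap_map_eq, QuotientGroup.ker_mk'] at h1
        rw [sup_comm, h1, sup_comm]
      have hH₁L : H₁ ≤ L := by rw [hL, ← hsupeq]; exact le_sup_right
      have hLne : L ≠ ⊤ := by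
        intro hLtop
        apply hlt.ne
        apply le_antisymm hlt.le
        intro x hx
        have hxL : x ∈ N' ⊔ K := by rw [← hL, hLtop]; exact Subgroup.mem_top x
        rw [Subgroup.mem_sup_of_normal_left] at hxL
        obtain ⟨y, hy, z, hz, rfl⟩ := hxL
        have hzN : z ∈ N := by
          have := N.mul_mem (N.inv_mem (hlt.le hy)) hx
          simpa using this
        have : z ∈ N ⊓ K := Subgroup.mem_inf.mpr ⟨hzN, hz⟩
        rw [hdisjK, Subgroup.mem_bot] at this
        rw [this, mul_one]; exact hy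
      have hLcard : Nat.card L < n := by
        rw [← hcard]
        by_contra hcon
        exact hLne (Subgroup.eq_top_of_le_card L (not_lt.mp hcon))
      have c1 : IsComplement' (N'.subgroupOf L) (K.subgroupOf L) := by
        apply isComplement'_subgroupOf hKL
        · rw [eq_bot_iff, ← hdisjK]; exact inf_le_inf_right K hlt.le
        · intro l hl
          rw [hL, Subgroup.mem_sup_of_normal_left] at hl
          obtain ⟨y, hy, z, hz, rfl⟩ := hl
          exact ⟨y, hy, z, hz, rfl⟩
      have c2 : IsComplement' (N'.subgroupOf L) (H₁.subgroupOf L) := by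
        apply isComplement'_subgroupOf hH₁L
        · rw [eq_bot_iff, ← hdisjH₁]; exact inf_le_inf_right H₁ hlt.le
        · intro l hl
          rw [hL, ← hsupeq, Subgroup.mem_sup_of_normal_left] at hl
          obtain ⟨y, hy, z, hz, rfl⟩ := hl
          exact ⟨y, hy, z, hz, rfl⟩
      have hcopL : (Nat.card (N'.subgroupOf L)).Coprime (Nat.card (H₁.subgroupOf L)) := by
        rw [card_subgroupOf_of_le hH₁L, hcardH₁]
        refine Nat.Coprime.coprime_dvd_left ?_ hcop
        exact (card_subgroupOf_dvd N' L).trans (Subgroup.card_dvd_of_le hlt.le)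
      have hsolvL : Group.IsSolvable (N'.subgroupOf L) := by
        apply isSolvable_of_map_le (A := N)
        rw [Subgroup.subgroupOf_map_subtype]
        exact inf_le_left.trans hlt.le
      haveI : (N'.subgroupOf L).Normal := Subgroup.normal_subgroupOf
      obtain ⟨l, hl⟩ := ih (Nat.card L) hLcard L rfl (N'.subgroupOf L) (H₁.subgroupOf L)
        (K.subgroupOf L) hcopL c2 c1 (Or.inl hsolvL)
      have hfin := conj_of_subgroupOf hH₁L hKL l hl
      refine ⟨(l : G) * g, ?_⟩
      rw [map_mul, mul_smul]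
      exact hfin
  · ----------------------------------------------------------------
    -- Case B: the complement `H` is solvable
    by_cases hHbot : H = ⊥
    · subst hHbot
      rw [isComplement'_bot_right] at hH
      subst hH
      rw [isComplement'_top_left] at hK
      exact ⟨1, by rw [hK]; simp⟩
    have hHnt : Nontrivial H := (Subgroup.nontrivial_iff_ne_bot H).mpr hHbot
    obtain ⟨p, hp, R₀, hR₀n, hR₀bot, hR₀p⟩ := exists_normal_pSubgroup H
    haveI : Fact p.Prime := ⟨hp⟩
    set P₀ : Subgroup G := R₀.map H.subtype with hP₀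
    have hP₀H : P₀ ≤ H := Subgroup.map_subtype_le R₀
    have hP₀bot : P₀ ≠ ⊥ := by
      rw [hP₀, Ne, Subgroup.map_eq_bot_iff_of_injective _ (Subgroup.subtype_injective H)]
      exact hR₀bot
    have hP₀p : IsPGroup p P₀ := hR₀p.map H.subtype
    have hP₀conj : ∀ h ∈ H, ∀ y ∈ P₀, h * y * h⁻¹ ∈ P₀ := by
      rintro h hh y ⟨r, hr, rfl⟩
      refine ⟨⟨h, hh⟩ * r * ⟨h, hh⟩⁻¹, hR₀n.conj_mem r hr ⟨h, hh⟩, ?_⟩
      simp
    -- `M = N P₀` is normal in `G`
    set M : Subgroup G := N ⊔ P₀ with hM
    have hNM : N ≤ M := le_sup_left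
    have hP₀M : P₀ ≤ M := le_sup_right
    have hMn : M.Normal := by
      constructor
      intro x hx g
      rw [hM, Subgroup.mem_sup_of_normal_left] at hx ⊢
      obtain ⟨n₀, hn₀, y, hy, rfl⟩ := hx
      obtain ⟨⟨⟨n₁, hn₁⟩, ⟨h₁, hh₁⟩⟩, hg⟩ := hH.2 g
      simp only at hg
      subst hg
      set y' := h₁ * y * h₁⁻¹ with hy'
      have hy'P : y' ∈ P₀ := hP₀conj h₁ hh₁ y hy
      refine ⟨(n₁ * h₁) * n₀ * (n₁ * h₁)⁻¹ * (n₁ * (y' * n₁⁻¹ * y'⁻¹)), ?_, y', hy'P, ?_⟩
      · exact N.mul_mem (hNn.conj_mem n₀ hn₀ _)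
          (N.mul_mem hn₁ (hNn.conj_mem _ (N.inv_mem hn₁) y'))
      · rw [hy']; simp [mul_assoc]
    -- `M ⊓ H = P₀`
    have hMH : M ⊓ H = P₀ := by
      apply le_antisymm
      · intro x hx
        obtain ⟨hxM, hxH⟩ := Subgroup.mem_inf.mp hx
        rw [hM, Subgroup.mem_sup_of_normal_left] at hxM
        obtain ⟨n₀, hn₀, y, hy, rfl⟩ := hxM
        have hn₀H : n₀ ∈ H := by
          have := H.mul_mem hxH (H.inv_mem (hP₀H hy))
          simpa [mul_assoc] using this
        have : n₀ ∈ N ⊓ H := Subgroup.mem_inf.mpr ⟨hn₀, hn₀H⟩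
        rw [hdisjH, Subgroup.mem_bot] at this
        rw [this, one_mul]; exact hy
      · exact le_inf hP₀M hP₀H
    set Q₀ : Subgroup G := M ⊓ K with hQ₀
    have hQ₀M : Q₀ ≤ M := inf_le_left
    have hQ₀K : Q₀ ≤ K := inf_le_right
    -- both are complements of `N` inside `M`
    have cP : IsComplement' (N.subgroupOf M) (P₀.subgroupOf M) := by
      apply isComplement'_subgroupOf hP₀M
      · rw [eq_bot_iff, ← hdisjH]; exact inf_le_inf_left N hP₀H
      · intro m hm
        rw [hM, Subgroup.mem_sup_of_normal_left] at hm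
        obtain ⟨y, hy, z, hz, rfl⟩ := hm
        exact ⟨y, hy, z, hz, rfl⟩
    have cQ : IsComplement' (N.subgroupOf M) (Q₀.subgroupOf M) := by
      apply isComplement'_subgroupOf hQ₀M
      · rw [eq_bot_iff, ← hdisjK]; exact inf_le_inf_left N hQ₀K
      · intro m hm
        obtain ⟨⟨⟨n₁, hn₁⟩, ⟨k₁, hk₁⟩⟩, hg⟩ := hK.2 m
        simp only at hg
        refine ⟨n₁, hn₁, k₁, Subgroup.mem_inf.mpr ⟨?_, hk₁⟩, hg.symm⟩
        have := M.mul_mem (M.inv_mem (hNM hn₁)) hm
        rw [← hg] at this
        simpa using this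
    have hcardPQ : Nat.card (Q₀.subgroupOf M) = Nat.card (P₀.subgroupOf M) := by
      have h1 := cP.card_mul_card
      have h2 := cQ.card_mul_card
      exact Nat.eq_of_mul_eq_mul_left (Nat.card_pos (α := N.subgroupOf M)) (h2.trans h1.symm)
    have hPp : IsPGroup p (P₀.subgroupOf M) :=
      hP₀p.comap_of_injective M.subtype (Subgroup.subtype_injective M)
    have hQp : IsPGroup p (Q₀.subgroupOf M) := by
      obtain ⟨k, hk⟩ := IsPGroup.iff_card.mp hPp
      exact IsPGroup.of_card (hcardPQ.trans hk)
    have hpH : p ∣ Nat.card H := by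
      obtain ⟨k, hk⟩ := IsPGroup.iff_card.mp hP₀p
      have hk0 : k ≠ 0 := by
        rintro rfl
        rw [pow_zero, Subgroup.card_eq_one] at hk
        exact hP₀bot hk
      have h1 : p ∣ Nat.card P₀ := by rw [hk]; exact dvd_pow_self p hk0
      exact h1.trans (Subgroup.card_dvd_of_le hP₀H)
    have hpN : ¬ p ∣ Nat.card (N.subgroupOf M) := by
      intro h
      have h1 : p ∣ Nat.card N := h.trans (card_subgroupOf_dvd N M)
      have h2 := Nat.dvd_gcd h1 hpH
      rw [hcop.gcd_eq_one] at h2
      exact hp.one_lt.ne' (Nat.dvd_one.mp h2)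
    have hidxP : ¬ p ∣ (P₀.subgroupOf M).index := by rw [cP.index_eq_card]; exact hpN
    have hidxQ : ¬ p ∣ (Q₀.subgroupOf M).index := by rw [cQ.index_eq_card]; exact hpN
    obtain ⟨m, hm⟩ := MulAction.exists_smul_eq M (hPp.toSylow hidxP) (hQp.toSylow hidxQ)
    have hm' : MulAut.conj m • P₀.subgroupOf M = Q₀.subgroupOf M := by
      have := congrArg (fun S : Sylow p M => (S : Subgroup M)) hm
      simpa [Sylow.coe_subgroup_smul] using this
    have hconjP : MulAut.conj (m : G) • P₀ = Q₀ := conj_of_subgroupOf hP₀M hQ₀M m hm'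
    -- replace `H` by a conjugate
    set H₁ : Subgroup G := MulAut.conj (m : G) • H with hH₁
    have hH₁c : IsComplement' N H₁ := isComplement'_conj hH m
    have hcardH₁ : Nat.card H₁ = Nat.card H := card_conj_smul H m
    have hH₁s : Group.IsSolvable H₁ := isSolvable_conj_smul H m
    have hMH₁ : M ⊓ H₁ = Q₀ := by
      rw [← hconjP]
      ext x
      rw [Subgroup.mem_inf, hH₁, mem_conj_smul, mem_conj_smul, ← hMH, Subgroup.mem_inf]
      have : x ∈ M ↔ (m : G)⁻¹ * x * m ∈ M := by
        constructor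
        · intro hx
          exact M.mul_mem (M.mul_mem (M.inv_mem m.2) hx) m.2
        · intro hx
          have := M.mul_mem (M.mul_mem m.2 hx) (M.inv_mem m.2)
          simpa [mul_assoc] using this
      rw [this]
    have hQ₀H₁ : Q₀ ≤ H₁ := by rw [← hMH₁]; exact inf_le_right
    have hQ₀bot : Q₀ ≠ ⊥ := by
      rw [← Subgroup.one_lt_card_iff_ne_bot, ← hconjP, card_conj_smul,
        Subgroup.one_lt_card_iff_ne_bot]
      exact hP₀bot
    have hnorm : ∀ X : Subgroup G, M ⊓ X = Q₀ → X ≤ Subgroup.normalizer (Q₀ : Set G) := by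
      intro X hX x hx
      rw [Subgroup.mem_normalizer_iff]
      intro y
      rw [← hX, Subgroup.mem_inf, Subgroup.mem_inf]
      constructor
      · rintro ⟨h1, h2⟩
        exact ⟨hMn.conj_mem y h1 x, X.mul_mem (X.mul_mem hx h2) (X.inv_mem hx)⟩
      · rintro ⟨h1, h2⟩
        constructor
        · have := hMn.conj_mem _ h1 x⁻¹
          simpa [mul_assoc] using this
        · have := X.mul_mem (X.mul_mem (X.inv_mem hx) h2) hx
          simpa [mul_assoc] using this
    set L : Subgroup G := Subgroup.normalizer (Q₀ : Set G) with hL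
    have hH₁L : H₁ ≤ L := hnorm H₁ hMH₁
    have hKL : K ≤ L := hnorm K rfl
    by_cases hLtop : L = ⊤
    · -- `Q₀` is normal in `G`: pass to the quotient
      haveI hQ₀n : Q₀.Normal := Subgroup.normalizer_eq_top_iff.mp hLtop
      have hsurj : Function.Surjective (QuotientGroup.mk' Q₀) := QuotientGroup.mk'_surjective Q₀
      have hcop₁ : (Nat.card N).Coprime (Nat.card H₁) := by rw [hcardH₁]; exact hcop
      have hc1 := isComplement'_map_of_surjective hH₁c hcop₁ (QuotientGroup.mk' Q₀) hsurj
      have hc2 := isComplement'_map_of_surjective hK (by rw [hcardHK]; exact hcop)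
        (QuotientGroup.mk' Q₀) hsurj
      haveI : (N.map (QuotientGroup.mk' Q₀)).Normal := hNn.map _ hsurj
      have hcopq : (Nat.card (N.map (QuotientGroup.mk' Q₀))).Coprime
          (Nat.card (H₁.map (QuotientGroup.mk' Q₀))) :=
        Nat.Coprime.coprime_dvd_left (Subgroup.card_map_dvd N _)
          (Nat.Coprime.coprime_dvd_right (Subgroup.card_map_dvd H₁ _) hcop₁)
      have hqcard : Nat.card (G ⧸ Q₀) < n := by
        rw [← hcard, Subgroup.card_eq_card_quotient_mul_card_subgroup Q₀]
        have h1 : 1 < Nat.card Q₀ := (Subgroup.one_lt_card_iff_ne_bot Q₀).mpr hQ₀bot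
        have h2 : 0 < Nat.card (G ⧸ Q₀) := Nat.card_pos
        nlinarith
      have hsolvq : Group.IsSolvable (H₁.map (QuotientGroup.mk' Q₀)) := isSolvable_map H₁ _
      obtain ⟨gbar, hgbar⟩ := ih (Nat.card (G ⧸ Q₀)) hqcard (G ⧸ Q₀) rfl
        (N.map (QuotientGroup.mk' Q₀)) (H₁.map (QuotientGroup.mk' Q₀))
        (K.map (QuotientGroup.mk' Q₀)) hcopq hc1 hc2 (Or.inr hsolvq)
      obtain ⟨g, rfl⟩ := hsurj gbar
      have hfin := conj_of_map_mk hQ₀H₁ hQ₀K g hgbar
      refine ⟨g * (m : G), ?_⟩
      rw [map_mul, mul_smul]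
      exact hfin
    · -- `L` is a proper subgroup
      have hLcard : Nat.card L < n := by
        rw [← hcard]
        by_contra hcon
        exact hLtop (Subgroup.eq_top_of_le_card L (not_lt.mp hcon))
      have c1 : IsComplement' (N.subgroupOf L) (K.subgroupOf L) := by
        apply isComplement'_subgroupOf hKL hdisjK
        intro l _
        obtain ⟨⟨⟨n₁, hn₁⟩, ⟨k₁, hk₁⟩⟩, hg⟩ := hK.2 l
        exact ⟨n₁, hn₁, k₁, hk₁, hg.symm⟩
      have c2 : IsComplement' (N.subgroupOf L) (H₁.subgroupOf L) := by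
        apply isComplement'_subgroupOf hH₁L (disjoint_iff.mp hH₁c.disjoint)
        intro l _
        obtain ⟨⟨⟨n₁, hn₁⟩, ⟨k₁, hk₁⟩⟩, hg⟩ := hH₁c.2 l
        exact ⟨n₁, hn₁, k₁, hk₁, hg.symm⟩
      have hcopL : (Nat.card (N.subgroupOf L)).Coprime (Nat.card (H₁.subgroupOf L)) := by
        rw [card_subgroupOf_of_le hH₁L, hcardH₁]
        exact Nat.Coprime.coprime_dvd_left (card_subgroupOf_dvd N L) hcop
      have hsolvL : Group.IsSolvable (H₁.subgroupOf L) := isSolvable_subgroupOf H₁ L
      haveI : (N.subgroupOf L).Normal := Subgroup.normal_subgroupOf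
      obtain ⟨l, hl⟩ := ih (Nat.card L) hLcard L rfl (N.subgroupOf L) (H₁.subgroupOf L)
        (K.subgroupOf L) hcopL c2 c1 (Or.inr hsolvL)
      have hfin := conj_of_subgroupOf hH₁L hKL l hl
      refine ⟨(l : G) * (m : G), ?_⟩
      rw [map_mul, mul_smul]
      exact hfin

/-- **Schur–Zassenhaus, conjugacy**: if `N` is a normal subgroup whose order is coprime to the
order of a complement `H`, and `N` or `H` is solvable, then any two complements are conjugate. -/
theorem sz_conj {G : Type u} [Group G] [Finite G] (N H K : Subgroup G) [N.Normal]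
    (hcop : (Nat.card N).Coprime (Nat.card H))
    (hH : IsComplement' N H) (hK : IsComplement' N K)
    (hsolv : Group.IsSolvable N ∨ Group.IsSolvable H) :
    ∃ g : G, MulAut.conj g • H = K :=
  sz_conj_aux (Nat.card G) G rfl N H K hcop hH hK hsolv

end Cfsg.Agent.Helper1
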