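import Cfsg.Agent.Helper1.ThompsonMain
import Cfsg.Agent.Lib.ZJ4
import Cfsg.Agent.S0607

/-!
# Thompson's normal `p`-complement theorem for `J(P)` generated by the elementary abelian subgroups of largest
order (helper1)
-/

set_option autoImplicit false
set_option linter.unusedSectionVars false
set_option linter.style.haveILetI false

namespace Cfsg.Agent.Helper1

open Subgroup Cfsg.Agent.Lib.ZJ
open scoped commutatorElement

universe u

theorem goodElem_zpowers (p : ℕ) (K : Type u) [Group K] (x : K) (hx : x ^ p = 1) :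
    goodElem p K (zpowers x) := by
  refine ⟨inferInstance, ?_⟩
  intro a ha
  obtain ⟨k, rfl⟩ := Subgroup.mem_zpowers_iff.mp ha
  rw [← zpow_natCast, ← zpow_mul, mul_comm, zpow_mul, zpow_natCast, hx, one_zpow]

theorem thompsonSubgroupOf_eq_Jg {G : Type u} [Group G] (p : ℕ) (P : Subgroup G) :
    Cfsg.thompsonSubgroupOf p P = Jg (goodElem p) P := by
  unfold Cfsg.thompsonSubgroupOf Cfsg.thompsonSubgroup Jg
  rw [map_sSup', ← maxGoodT_elem, image_map_subtype_maxGoodT (intrinsic_elem p)]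

theorem repl_elem (p : ℕ) [hp : Fact p.Prime] : Repl (goodElem.{u} p) p := by
  intro G _ _ P V hP hVP hPV hVc hVp A hA hAV
  -- pass to the group `↥P`
  rw [← image_map_subtype_maxGoodT (intrinsic_elem p)] at hA
  obtain ⟨A', hA', rfl⟩ := hA
  rw [maxGoodT_elem] at hA'
  set V' := V.subgroupOf P with hV'
  haveI hV'n : V'.Normal := (Subgroup.normal_subgroupOf_iff_le_normalizer hVP).mpr hPV
  have hV'e : Cfsg.IsElementaryAbelian p V' := by
    refine ⟨⟨⟨fun a b => ?_⟩⟩, ?_⟩
    · apply Subtype.ext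
      apply Subtype.ext
      exact hVc _ (Subgroup.mem_subgroupOf.mp a.2) _ (Subgroup.mem_subgroupOf.mp b.2)
    · intro a ha
      apply Subtype.ext
      rw [Subgroup.coe_pow, Subgroup.coe_one]
      exact hVp _ (Subgroup.mem_subgroupOf.mp ha)
  obtain ⟨h1, h2, h3⟩ := Cfsg.Agent.S0607.result V' hV'e A' hA'
  set A₀ := ⁅V', A'⁆ ⊔ (A' ⊓ centralizer ((⁅V', A'⁆ : Subgroup ↥P) : Set ↥P)) with hA₀
  -- commuting of `V'` with a subgroup `B'` of `↥P` versus `B'.map ≤ C_G(V)`
  have hcent : ∀ B' : Subgroup ↥P, ⁅V', B'⁆ = ⊥ ↔ B'.map P.subtype ≤ centralizer (V : Set G) := by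
    intro B'
    rw [Subgroup.commutator_eq_bot_iff_le_centralizer]
    constructor
    · rintro h _ ⟨b, hb, rfl⟩
      rw [Subgroup.mem_centralizer_iff]
      intro v hv
      have h4 := h (show (⟨v, hVP hv⟩ : ↥P) ∈ V' from Subgroup.mem_subgroupOf.mpr hv)
      have h5 := (Subgroup.mem_centralizer_iff.mp h4) b hb
      exact (congrArg Subtype.val h5).symm
    · intro h v hv
      rw [Subgroup.mem_centralizer_iff]
      intro b hb
      have h4 := h (Subgroup.mem_map_of_mem P.subtype hb)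
      have h5 := (Subgroup.mem_centralizer_iff.mp h4) (v : G) (Subgroup.mem_subgroupOf.mp hv)
      exact Subtype.ext h5.symm
  refine ⟨A₀.map P.subtype, ?_, ?_, ?_⟩
  · rw [← image_map_subtype_maxGoodT (intrinsic_elem p), maxGoodT_elem]
    exact ⟨A₀, h1, rfl⟩
  · intro hle
    apply h3
    · intro hbot
      exact hAV ((hcent A').mp hbot)
    · exact (hcent A₀).mpr hle
  · rintro _ ⟨a, ha, rfl⟩ v hv
    have h4 : ⁅V', A₀⁆ ≤ centralizer (A₀ : Set ↥P) :=
      Subgroup.commutator_eq_bot_iff_le_centralizer.mp h2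
    have hv' : (⟨v, hVP hv⟩ : ↥P) ∈ V' := Subgroup.mem_subgroupOf.mpr hv
    have h5 : ⁅a, (⟨v, hVP hv⟩ : ↥P)⁆ ∈ ⁅V', A₀⁆ := by
      rw [Subgroup.commutator_comm]
      exact Subgroup.commutator_mem_commutator ha hv'
    have h6 := (Subgroup.mem_centralizer_iff.mp (h4 h5)) a ha
    rw [commutatorElement_def] at h6
    have h7 := congrArg Subtype.val h6
    simp only [Subgroup.coe_mul, Subgroup.coe_inv] at h7
    show (a : G) * ((a : G) * v * (a : G)⁻¹ * v⁻¹) * (a : G)⁻¹ = (a : G) * v * (a : G)⁻¹ * v⁻¹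
    rw [h7]
    group

/-- **Thompson's normal `p`-complement theorem** (`p` odd), elementary abelian version of `J(P)`. -/
theorem thompson_npc_elem {G : Type u} [Group G] [Finite G] {p : ℕ} [Fact p.Prime] (hp2 : p ≠ 2)
    (P : Sylow p G)
    (hJ : Cfsg.HasNormalPComplement p
      ↥(normalizer (Cfsg.thompsonSubgroupOf p (P : Subgroup G) : Set G)))
    (hZ : Cfsg.HasNormalPComplement p
      ↥(centralizer (((P : Subgroup G) ⊓ centralizer (P : Set G) : Subgroup G) : Set G))) :
    Cfsg.HasNormalPComplement p G := by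
  rw [thompsonSubgroupOf_eq_Jg] at hJ
  exact thompson_npc hp2 (intrinsic_elem p) (goodElem_zpowers p) (repl_elem p) P hJ hZ

end Cfsg.Agent.Helper1
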