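import Cfsg.Agent.Helper1.FpfCentralizes
import Cfsg.Agent.Helper1.ThompsonElem
import Cfsg.Agent.Helper1.SZ
import Cfsg.Agent.S0031
import Cfsg.Agent.S0132
import Cfsg.Agent.Lib.Cores

/-!
# Thompson's theorem: a finite group with a fixed-point-free automorphism of prime order is nilpotent
(helper1)
-/

set_option autoImplicit false
set_option linter.unusedSectionVars false
set_option linter.style.haveILetI false

namespace Cfsg.Agent.Helper1

open Subgroup Cfsg.Agent.Lib.ZJ

universe u

variable {G : Type u} [Group G]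

/-- nilpotent groups have normal `p`-complements -/
theorem npc_of_nilpotent [Finite G] {p : ℕ} [Fact p.Prime] (h : Group.IsNilpotent G) :
    Cfsg.HasNormalPComplement p G := by
  rw [Cfsg.Agent.Helper78.hasNormalPComplement_iff_frobHyp]
  intro Q hQ g _ hg
  obtain ⟨P, hQP⟩ := hQ.exists_le_sylow
  haveI : (P : Subgroup G).Normal := inferInstance
  rw [Subgroup.mem_centralizer_iff]
  intro x hx
  exact Cfsg.Agent.S0132.commute_of_nilpotent_coprime h (P : Subgroup G) P.2 g hg x (hQP hx)

theorem normal_of_le_center' {Z : Subgroup G} (h : Z ≤ center G) : Z.Normal := by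
  refine ⟨fun n hn g => ?_⟩
  have := (Subgroup.mem_center_iff.mp (h hn)) g
  rw [this, mul_inv_cancel_right]
  exact hn

/-- a normal Hall subgroup is invariant under every automorphism -/
theorem inv_of_normal_hall [Finite G] (φ : G ≃* G) (K : Subgroup G) [K.Normal]
    (hcop : (Nat.card K).Coprime K.index) : Inv φ K := by
  apply inv_of_forall
  intro x hx
  have h1 : (φ x) ^ K.index ∈ K := Subgroup.pow_index_mem K (φ x)
  apply mem_of_pow_mem_of_coprime h1
  have h2 : orderOf (φ x) = orderOf x := MulEquiv.orderOf_eq φ x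
  rw [h2]
  have h3 : orderOf x ∣ Nat.card K := by
    have := orderOf_dvd_natCard (⟨x, hx⟩ : ↥K)
    rwa [← Subgroup.orderOf_coe] at this
  exact (Nat.Coprime.coprime_dvd_left h3 hcop).symm

/-- Step 1 of Thompson's theorem: the group is solvable. -/
theorem fpf_solvable_step [Finite G] {r : ℕ} {φ : G ≃* G} (hφ : Fpf r φ)
    (hB : ∀ H : Subgroup G, Inv φ H → H ≠ ⊤ → Group.IsNilpotent ↥H)
    (hA : ∀ (W : Subgroup G) [W.Normal], Inv φ W → W ≠ ⊥ → Group.IsNilpotent (G ⧸ W)) :
    Group.IsSolvable G := by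
  by_cases h2 : ∃ p, p.Prime ∧ p ≠ 2 ∧ p ∣ Nat.card G
  · obtain ⟨p, hp, hp2, hpd⟩ := h2
    haveI : Fact p.Prime := ⟨hp⟩
    obtain ⟨P, hP⟩ := Cfsg.Agent.S0031.result φ hφ.1 p
    have hPinv : Inv φ (P : Subgroup G) := hP
    have hPne : (P : Subgroup G) ≠ ⊥ := P.ne_bot_of_dvd_card hpd
    have hJinv : Inv φ (Cfsg.thompsonSubgroupOf p (P : Subgroup G)) := by
      rw [thompsonSubgroupOf_eq_Jg]
      unfold Inv
      rw [← Jg_map (intrinsic_elem p) (φ : G →* G) (P : Subgroup G)
        (fun a b hab => Subtype.ext (φ.injective hab)), hP]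
    have hZinv : Inv φ (Zc (P : Subgroup G)) := by
      unfold Inv
      rw [← Zc_map (φ : G →* G) φ.injective, hP]
    have hJne : Cfsg.thompsonSubgroupOf p (P : Subgroup G) ≠ ⊥ := by
      rw [thompsonSubgroupOf_eq_Jg]
      exact Jg_ne_bot (intrinsic_elem p) (goodElem_zpowers p) P.2 hPne
    have hJle : Cfsg.thompsonSubgroupOf p (P : Subgroup G) ≤ P := by
      rw [thompsonSubgroupOf_eq_Jg]
      exact Jg_le _
    have hZne : Zc (P : Subgroup G) ≠ ⊥ := Zc_ne_bot P.2 hPne
    -- a normal invariant nontrivial `p`-subgroup gives solvability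
    have hW : ∀ W : Subgroup G, W.Normal → Inv φ W → W ≠ ⊥ → IsPGroup p W → Group.IsSolvable G := by
      intro W hWn hWi hWne hWp
      haveI := hWn
      haveI : Group.IsNilpotent (G ⧸ W) := hA W hWi hWne
      haveI : Group.IsNilpotent ↥W := hWp.isNilpotent
      exact Group.isSolvable_of_ker_le_range W.subtype (QuotientGroup.mk' W)
        (by rw [QuotientGroup.ker_mk', Subgroup.range_subtype])
    by_cases hNJ : normalizer (Cfsg.thompsonSubgroupOf p (P : Subgroup G) : Set G) = ⊤
    · exact hW _ (Subgroup.normalizer_eq_top_iff.mp hNJ) hJinv hJne (P.2.to_le hJle)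
    by_cases hCZ : centralizer (Zc (P : Subgroup G) : Set G) = ⊤
    · have hn : (Zc (P : Subgroup G)).Normal := by
        have hc : Zc (P : Subgroup G) ≤ center G := fun x hx =>
          (Subgroup.centralizer_eq_top_iff_subset.mp hCZ) hx
        exact normal_of_le_center' hc
      exact hW _ hn hZinv hZne (P.2.to_le (Zc_le _))
    -- both proper
    have h1 := hB _ hJinv.normalizer hNJ
    have h2 := hB _ hZinv.centralizer hCZ
    have hnpc := thompson_npc_elem hp2 P (npc_of_nilpotent h1) (npc_of_nilpotent h2)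
    obtain ⟨P', K, hKn, hK⟩ := hnpc
    haveI := hKn
    have hidx : K.index = Nat.card (P' : Subgroup G) := hK.symm.index_eq_card
    have hcop : (Nat.card K).Coprime K.index := by
      rw [hidx, ← hK.index_eq_card]
      exact P'.card_coprime_index.symm
    have hKinv : Inv φ K := inv_of_normal_hall φ K hcop
    have hKne : K ≠ ⊤ := by
      intro htop
      rw [htop, Subgroup.index_top] at hidx
      exact (P'.ne_bot_of_dvd_card hpd) (Subgroup.card_eq_one.mp hidx.symm)
    haveI : Group.IsNilpotent ↥K := hB K hKinv hKne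
    haveI : Group.IsNilpotent (G ⧸ K) := by
      have : IsPGroup p (G ⧸ K) := by
        obtain ⟨k, hk⟩ := IsPGroup.iff_card.mp P'.2
        apply IsPGroup.of_card (n := k)
        rw [← Subgroup.index_eq_card, hidx, hk]
      exact this.isNilpotent
    exact Group.isSolvable_of_ker_le_range K.subtype (QuotientGroup.mk' K)
      (by rw [QuotientGroup.ker_mk', Subgroup.range_subtype])
  · -- `G` is a `2`-group
    push Not at h2
    have h2G : IsPGroup 2 G := by
      have h3 : Nat.card G = 2 ^ (Nat.card G).primeFactorsList.length := by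
        apply Nat.eq_prime_pow_of_unique_prime_dvd Nat.card_pos.ne'
        intro d hd hdd
        by_contra hne
        exact h2 d hd hne hdd
      exact IsPGroup.of_card h3
    haveI : Fact (2 : ℕ).Prime := ⟨Nat.prime_two⟩
    haveI : Group.IsNilpotent G := h2G.isNilpotent
    infer_instance

/-- Step 2 of Thompson's theorem: a solvable group is nilpotent. -/
theorem fpf_nilpotent_step [Finite G] {r : ℕ} (hr : r.Prime) {φ : G ≃* G} (hφ : Fpf r φ)
    (hB : ∀ H : Subgroup G, Inv φ H → H ≠ ⊤ → Group.IsNilpotent ↥H)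
    (hA : ∀ (W : Subgroup G) [W.Normal], Inv φ W → W ≠ ⊥ → Group.IsNilpotent (G ⧸ W))
    [Group.IsSolvable G] [Nontrivial G] : Group.IsNilpotent G := by
  obtain ⟨q, hq, R, hRn, hRne, hRq⟩ := exists_normal_pSubgroup G
  haveI : Fact q.Prime := ⟨hq⟩
  have hOne : Cfsg.pCore q G ≠ ⊥ := by
    intro hbot
    exact hRne (le_bot_iff.mp (hbot ▸ Cfsg.Agent.Lib.le_pCore hRn hRq))
  haveI hOchar : (Cfsg.pCore q G).Characteristic := Cfsg.Agent.Lib.pCore_characteristic q
  have hOinv : Inv φ (Cfsg.pCore q G) := inv_of_characteristic φ _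
  haveI hOn : (Cfsg.pCore q G).Normal := inferInstance
  have hOq : IsPGroup q (Cfsg.pCore q G) := Cfsg.Agent.Lib.isPGroup_pCore q
  set N := Zc (Cfsg.pCore q G) with hNdef
  have hNinv : Inv φ N := by
    unfold Inv
    rw [hNdef, ← Zc_map (φ : G →* G) φ.injective, hOinv]
  haveI hNn : N.Normal := by
    rw [← Subgroup.normalizer_eq_top_iff]
    apply top_le_iff.mp
    rw [← Subgroup.normalizer_eq_top_iff.mpr hOn]
    exact normalizer_le_normalizer_Zc _
  have hNne : N ≠ ⊥ := Zc_ne_bot hOq hOne
  have hNq : IsPGroup q N := hOq.to_le (Zc_le _)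
  have hNc : ∀ a ∈ N, ∀ b ∈ N, a * b = b * a := by
    intro a ha b hb
    have h1 := (Subgroup.mem_inf.mp ha).2
    exact ((Subgroup.mem_centralizer_iff.mp h1) b (Subgroup.mem_inf.mp hb).1).symm
  have hquot : Group.IsNilpotent (G ⧸ N) := hA N hNinv hNne
  -- all Sylow subgroups are normal
  apply ((Group.isNilpotent_of_finite_tfae (G := G)).out 0 3).mpr
  intro p hp P₀
  haveI := hp
  suffices h : ∃ P : Sylow p G, (P : Subgroup G).Normal by
    obtain ⟨P, hPn⟩ := h
    obtain ⟨g, hg⟩ := MulAction.exists_smul_eq G P P₀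
    rw [← hg, Sylow.smul_eq_of_normal]
    exact hPn
  obtain ⟨P, hP⟩ := Cfsg.Agent.S0031.result φ hφ.1 p
  have hPinv : Inv φ (P : Subgroup G) := hP
  refine ⟨P, ?_⟩
  have hPNn : ((P : Subgroup G) ⊔ N).Normal := by
    haveI : Group.IsNilpotent (G ⧸ N) := hquot
    have h1 : ((P.mapSurjective (QuotientGroup.mk'_surjective N) : Sylow p (G ⧸ N)) :
        Subgroup (G ⧸ N)).Normal := inferInstance
    rw [Sylow.coe_mapSurjective] at h1
    have h2 := h1.comap (QuotientGroup.mk' N)
    rw [QuotientGroup.comap_map_mk'] at h2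
    rwa [sup_comm]
  by_cases hpq : p = q
  · subst hpq
    have hle : N ≤ (P : Subgroup G) := (Zc_le _).trans (Cfsg.Agent.Lib.pCore_le_sylow P)
    rwa [sup_eq_left.mpr hle] at hPNn
  by_cases htop : (P : Subgroup G) ⊔ N = ⊤
  · by_cases hPb : (P : Subgroup G) = ⊥
    · rw [hPb]
      infer_instance
    have hZinv : Inv φ (Zc (P : Subgroup G)) := by
      unfold Inv
      rw [← Zc_map (φ : G →* G) φ.injective, hP]
    have hZne : Zc (P : Subgroup G) ≠ ⊥ := Zc_ne_bot P.2 hPb
    have hcop : (Nat.card N).Coprime (Nat.card (Zc (P : Subgroup G))) := by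
      obtain ⟨a, ha⟩ := IsPGroup.iff_card.mp hNq
      obtain ⟨b, hb⟩ := IsPGroup.iff_card.mp (P.2.to_le (Zc_le (P : Subgroup G)))
      rw [ha, hb]
      apply Nat.Coprime.pow
      exact (Nat.coprime_primes hq hp.out).mpr (Ne.symm hpq)
    have hcent := hφ.centralizes hr N hNc hNinv (Zc (P : Subgroup G)) hZinv hcop
    have hZcenter : Zc (P : Subgroup G) ≤ center G := by
      intro z hz
      have h1 : (P : Subgroup G) ⊔ N ≤ centralizer ({z} : Set G) := by
        apply sup_le
        · intro x hx
          rw [Subgroup.mem_centralizer_singleton_iff]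
          exact ((Subgroup.mem_centralizer_iff.mp (Subgroup.mem_inf.mp hz).2) x hx)
        · intro v hv
          rw [Subgroup.mem_centralizer_singleton_iff]
          have := hcent z hz v hv
          rw [mul_inv_eq_iff_eq_mul] at this
          exact this.symm
      rw [htop] at h1
      rw [Subgroup.mem_center_iff]
      intro g
      have := h1 (Subgroup.mem_top g)
      rw [Subgroup.mem_centralizer_singleton_iff] at this
      exact this
    haveI : (Zc (P : Subgroup G)).Normal := normal_of_le_center' hZcenter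
    have hq2 := hA (Zc (P : Subgroup G)) hZinv hZne
    haveI := hq2
    haveI hG : Group.IsNilpotent G :=
      _root_.isNilpotent_of_ker_le_center (QuotientGroup.mk' (Zc (P : Subgroup G)))
        (by rw [QuotientGroup.ker_mk']; exact hZcenter)
    infer_instance
  · -- `P ⊔ N` is proper, hence nilpotent
    haveI hnil : Group.IsNilpotent ↥((P : Subgroup G) ⊔ N) := hB _ (hPinv.sup hNinv) htop
    have hle : (P : Subgroup G) ≤ (P : Subgroup G) ⊔ N := le_sup_left
    haveI h1 : ((P.subtype hle : Sylow p ↥((P : Subgroup G) ⊔ N)) :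
        Subgroup ↥((P : Subgroup G) ⊔ N)).Normal := inferInstance
    haveI h2 := Sylow.characteristic_of_normal (P.subtype hle) h1
    haveI := hPNn
    have h3 : (((P.subtype hle : Sylow p ↥((P : Subgroup G) ⊔ N)) :
        Subgroup ↥((P : Subgroup G) ⊔ N)).map ((P : Subgroup G) ⊔ N).subtype).Normal :=
      inferInstance
    rw [Sylow.coe_subtype, Subgroup.subgroupOf_map_subtype, inf_eq_left.mpr hle] at h3
    exact h3

theorem fpf_nilpotent_aux {r : ℕ} (hr : r.Prime) :
    ∀ (n : ℕ) (G : Type u) [Group G] [Finite G] (φ : G ≃* G), Nat.card G = n → Fpf r φ →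
      Group.IsNilpotent G := by
  intro n
  induction n using Nat.strong_induction_on with
  | _ n ih =>
  intro G _ _ φ hn hφ
  have hB : ∀ H : Subgroup G, Inv φ H → H ≠ ⊤ → Group.IsNilpotent ↥H := by
    intro H hH hne
    have hlt : Nat.card ↥H < n := by
      rw [← hn]
      by_contra hc
      exact hne (Subgroup.eq_top_of_le_card H (not_lt.mp hc))
    exact ih _ hlt ↥H (resEquiv φ H hH) rfl (hφ.restrict H hH)
  have hA : ∀ (W : Subgroup G) [W.Normal], Inv φ W → W ≠ ⊥ → Group.IsNilpotent (G ⧸ W) := by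
    intro W _ hW hne
    have hlt : Nat.card (G ⧸ W) < n := by
      rw [← hn, Subgroup.card_eq_card_quotient_mul_card_subgroup W]
      have h1 : 1 < Nat.card W := W.one_lt_card_iff_ne_bot.mpr hne
      have h0 : 0 < Nat.card (G ⧸ W) := Nat.card_pos
      nlinarith
    exact ih _ hlt (G ⧸ W) (quotEquiv φ W hW) rfl (hφ.quotient W hW)
  haveI := fpf_solvable_step hφ hB hA
  by_cases htriv : Subsingleton G
  · infer_instance
  haveI : Nontrivial G := not_subsingleton_iff_nontrivial.mp htriv
  exact fpf_nilpotent_step hr hφ hB hA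

/-- **Thompson's theorem**: a finite group with a fixed-point-free automorphism `φ` with `φ ^ r = 1`, `r` prime,
is nilpotent. -/
theorem fpf_prime_nilpotent [Finite G] {r : ℕ} (hr : r.Prime) (φ : G ≃* G)
    (hφ : MonoidHom.FixedPointFree (φ : G →* G)) (hpow : φ ^ r = 1) : Group.IsNilpotent G := by
  refine fpf_nilpotent_aux hr _ G φ rfl ⟨hφ, ?_⟩
  funext x
  have h1 : ∀ k : ℕ, (⇑φ)^[k] x = (φ ^ k) x := by
    intro k
    induction k with
    | zero => rfl
    | succ n ih => rw [Function.iterate_succ_apply', ih, pow_succ', MulAut.mul_apply]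
  rw [h1, hpow]
  rfl

end Cfsg.Agent.Helper1
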