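import Mathlib.GroupTheory.Complement
import Mathlib.GroupTheory.Solvable
import Mathlib.GroupTheory.Index
import Mathlib.Algebra.Group.Subgroup.Pointwise
import Mathlib.GroupTheory.QuotientGroup.Basic

set_option autoImplicit false

namespace Cfsg.Agent.Helper1

open Subgroup Pointwise

variable {G : Type*} [Group G]

theorem mem_conj_smul {g x : G} {H : Subgroup G} :
    x ∈ MulAut.conj g • H ↔ g⁻¹ * x * g ∈ H := by
  rw [Subgroup.mem_pointwise_smul_iff_inv_smul_mem]
  simp [MulAut.smul_def]

theorem conj_mem_conj_smul {g x : G} {H : Subgroup G} (hx : x ∈ H) :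
    g * x * g⁻¹ ∈ MulAut.conj g • H := by
  rw [mem_conj_smul]; simpa [mul_assoc] using hx

/-- complements restrict to subgroups -/
theorem isComplement'_subgroupOf {L M X : Subgroup G} (hX : X ≤ L) (hdisj : M ⊓ X = ⊥)
    (hprod : ∀ l ∈ L, ∃ m ∈ M, ∃ x ∈ X, l = m * x) :
    IsComplement' (M.subgroupOf L) (X.subgroupOf L) := by
  apply isComplement'_of_disjoint_and_mul_eq_univ
  · rw [disjoint_iff, eq_bot_iff]
    rintro ⟨l, hl⟩ h
    obtain ⟨h1, h2⟩ := Subgroup.mem_inf.mp h
    rw [Subgroup.mem_subgroupOf] at h1 h2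
    have : l ∈ M ⊓ X := Subgroup.mem_inf.mpr ⟨h1, h2⟩
    rw [hdisj, Subgroup.mem_bot] at this
    rw [Subgroup.mem_bot]
    exact Subtype.ext this
  · rw [Set.eq_univ_iff_forall]
    rintro ⟨l, hl⟩
    obtain ⟨m, hm, x, hx, rfl⟩ := hprod l hl
    have hmL : m ∈ L := by
      have := L.mul_mem hl (L.inv_mem (hX hx))
      simpa [mul_assoc] using this
    refine Set.mem_mul.mpr ⟨⟨m, hmL⟩, ?_, ⟨x, hX hx⟩, ?_, rfl⟩
    · exact Subgroup.mem_subgroupOf.mpr hm
    · exact Subgroup.mem_subgroupOf.mpr hx

/-- complements (of coprime orders) map to complements under surjective homs -/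
theorem isComplement'_map_of_surjective [Finite G] {G' : Type*} [Group G'] {N H : Subgroup G}
    (hc : IsComplement' N H) (hcop : (Nat.card N).Coprime (Nat.card H)) (f : G →* G')
    (hf : Function.Surjective f) : IsComplement' (N.map f) (H.map f) := by
  apply isComplement'_of_disjoint_and_mul_eq_univ
  · apply Subgroup.disjoint_of_coprime_natCard
    exact Nat.Coprime.coprime_dvd_left (Subgroup.card_map_dvd N f)
      (Nat.Coprime.coprime_dvd_right (Subgroup.card_map_dvd H f) hcop)
  · rw [Set.eq_univ_iff_forall]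
    intro y
    obtain ⟨g, rfl⟩ := hf y
    obtain ⟨⟨⟨n, hn⟩, ⟨h, hh⟩⟩, hnh⟩ := hc.2 g
    simp only at hnh
    refine Set.mem_mul.mpr ⟨f n, Subgroup.mem_map_of_mem f hn, f h, Subgroup.mem_map_of_mem f hh, ?_⟩
    rw [← map_mul, hnh]

/-- a conjugate of a complement of a normal subgroup is a complement -/
theorem isComplement'_conj {N H : Subgroup G} [hN : N.Normal] (hc : IsComplement' N H) (g : G) :
    IsComplement' N (MulAut.conj g • H) := by
  apply isComplement'_of_disjoint_and_mul_eq_univ
  · rw [disjoint_iff, eq_bot_iff]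
    intro x hx
    obtain ⟨h1, h2⟩ := Subgroup.mem_inf.mp hx
    rw [mem_conj_smul] at h2
    have h3 : g⁻¹ * x * g ∈ N := by
      have := hN.conj_mem x h1 g⁻¹
      simpa using this
    have : g⁻¹ * x * g ∈ N ⊓ H := Subgroup.mem_inf.mpr ⟨h3, h2⟩
    rw [disjoint_iff.mp hc.disjoint, Subgroup.mem_bot] at this
    rw [Subgroup.mem_bot]
    have h4 : x = g * (g⁻¹ * x * g) * g⁻¹ := by simp [mul_assoc]
    rw [h4, this]; simp
  · rw [Set.eq_univ_iff_forall]
    intro x
    obtain ⟨⟨⟨n, hn⟩, ⟨h, hh⟩⟩, hnh⟩ := hc.2 (g⁻¹ * x * g)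
    simp only at hnh
    refine Set.mem_mul.mpr ⟨g * n * g⁻¹, hN.conj_mem n hn g, g * h * g⁻¹, conj_mem_conj_smul hh, ?_⟩
    calc g * n * g⁻¹ * (g * h * g⁻¹) = g * (n * h) * g⁻¹ := by simp [mul_assoc]
      _ = x := by rw [hnh]; simp [mul_assoc]

/-- conjugacy inside a subgroup gives conjugacy in the ambient group -/
theorem conj_of_subgroupOf {L H K : Subgroup G} (hH : H ≤ L) (hK : K ≤ L) (l : L)
    (h : MulAut.conj l • H.subgroupOf L = K.subgroupOf L) : MulAut.conj (l : G) • H = K := by
  ext x
  rw [mem_conj_smul]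
  constructor
  · intro hx
    have hxL : x ∈ L := by
      have := L.mul_mem (L.mul_mem l.2 (hH hx)) (L.inv_mem l.2)
      simpa [mul_assoc] using this
    have h1 : (⟨x, hxL⟩ : L) ∈ MulAut.conj l • H.subgroupOf L := by
      rw [mem_conj_smul, Subgroup.mem_subgroupOf]
      simpa using hx
    rw [h, Subgroup.mem_subgroupOf] at h1
    exact h1
  · intro hx
    have h1 : (⟨x, hK hx⟩ : L) ∈ K.subgroupOf L := Subgroup.mem_subgroupOf.mpr hx
    rw [← h, mem_conj_smul, Subgroup.mem_subgroupOf] at h1
    simpa using h1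

/-- conjugacy in a quotient by a common normal subgroup gives conjugacy -/
theorem conj_of_map_mk {P H K : Subgroup G} [P.Normal] (hPH : P ≤ H) (hPK : P ≤ K) (g : G)
    (h : MulAut.conj (g : G ⧸ P) • H.map (QuotientGroup.mk' P) = K.map (QuotientGroup.mk' P)) :
    MulAut.conj g • H = K := by
  have key : ∀ (X : Subgroup G), P ≤ X → ∀ y : G, (y : G ⧸ P) ∈ X.map (QuotientGroup.mk' P) ↔ y ∈ X := by
    intro X hX y
    constructor
    · intro hy
      have : y ∈ (X.map (QuotientGroup.mk' P)).comap (QuotientGroup.mk' P) := hy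
      rwa [Subgroup.comap_map_eq_self (by rwa [QuotientGroup.ker_mk'])] at this
    · intro hy
      exact Subgroup.mem_map_of_mem _ hy
  ext x
  rw [mem_conj_smul, ← key H hPH, ← key K hPK, ← h, mem_conj_smul]
  simp

/-- a subgroup of a subgroup whose image lies in a solvable subgroup is solvable -/
theorem isSolvable_of_map_le {A L : Subgroup G} [Group.IsSolvable A] {B : Subgroup L}
    (h : B.map L.subtype ≤ A) : Group.IsSolvable B := by
  let f : B →* A :=
    { toFun := fun b => ⟨((b : L) : G), h ⟨(b : L), b.2, rfl⟩⟩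
      map_one' := rfl
      map_mul' := fun _ _ => rfl }
  have hf : Function.Injective f := by
    intro a b hab
    have : ((a : L) : G) = ((b : L) : G) := congrArg (fun z : A => (z : G)) hab
    exact Subtype.ext (Subtype.ext this)
  exact Group.isSolvable_of_isSolvable_injective hf

theorem isSolvable_subgroupOf (A L : Subgroup G) [Group.IsSolvable A] :
    Group.IsSolvable (A.subgroupOf L) := by
  apply isSolvable_of_map_le (A := A)
  rw [Subgroup.subgroupOf_map_subtype]
  exact inf_le_left

theorem isSolvable_conj_smul (A : Subgroup G) [Group.IsSolvable A] (g : G) :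
    Group.IsSolvable (MulAut.conj g • A : Subgroup G) :=
  Group.isSolvable_of_isSolvable_injective
    (f := (Subgroup.equivSMul (MulAut.conj g) A).symm.toMonoidHom)
    (Subgroup.equivSMul (MulAut.conj g) A).symm.injective

theorem isSolvable_map (A : Subgroup G) [Group.IsSolvable A] {G' : Type*} [Group G'] (f : G →* G') :
    Group.IsSolvable (A.map f) :=
  Group.isSolvable_of_surjective (f := f.subgroupMap A) (f.subgroupMap_surjective A)

theorem card_conj_smul (A : Subgroup G) (g : G) :
    Nat.card (MulAut.conj g • A : Subgroup G) = Nat.card A :=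
  (Nat.card_congr (Subgroup.equivSMul (MulAut.conj g) A).toEquiv).symm

theorem card_subgroupOf_of_le {A L : Subgroup G} (h : A ≤ L) :
    Nat.card (A.subgroupOf L) = Nat.card A :=
  Nat.card_congr (Subgroup.subgroupOfEquivOfLe h).toEquiv

theorem card_subgroupOf_dvd [Finite G] (A L : Subgroup G) :
    Nat.card (A.subgroupOf L) ∣ Nat.card A :=
  Subgroup.card_comap_dvd_of_injective A L.subtype Subtype.coe_injective

end Cfsg.Agent.Helper1
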