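import Mathlib
import Cfsg.Agent.Helper1.SZ
import Cfsg.Agent.Helper1.Compl

/-!
Carter subgroups of finite solvable groups: existence and conjugacy (helper1).
-/

set_option autoImplicit false

namespace Cfsg.Agent.Helper1

open Subgroup
open scoped Pointwise

universe u

/-- a Carter subgroup: nilpotent and self-normalizing -/
def IsCarter {G : Type*} [Group G] (C : Subgroup G) : Prop :=
  Group.IsNilpotent C ∧ normalizer (C : Set G) = C

section basic

variable {G : Type*} [Group G]

/-- an element of a group whose order is coprime to the index of a normal subgroup lies in it -/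
theorem mem_of_orderOf_coprime_index [Finite G] (Q : Subgroup G) [Q.Normal] {z : G}
    (hz : (orderOf z).Coprime Q.index) : z ∈ Q := by
  rw [← QuotientGroup.eq_one_iff]
  have h1 : orderOf (z : G ⧸ Q) ∣ orderOf z := orderOf_map_dvd (QuotientGroup.mk' Q) z
  have h2 : orderOf (z : G ⧸ Q) ∣ Q.index := by
    rw [Subgroup.index_eq_card]; exact orderOf_dvd_natCard _
  exact orderOf_eq_one_iff.mp (Nat.eq_one_of_dvd_coprimes hz h1 h2)

/-- to normalize a finite subgroup it suffices to conjugate it into itself -/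
theorem mem_normalizer_of_conj_mem [Finite G] {Q : Subgroup G} {x : G}
    (h : ∀ y ∈ Q, x * y * x⁻¹ ∈ Q) : x ∈ normalizer (Q : Set G) := by
  rw [Subgroup.mem_normalizer_iff]
  intro y
  refine ⟨h y, fun hy => ?_⟩
  -- conjugation by `x` is an injective self-map of the finite set `Q`, hence surjective
  let φ : Q → Q := fun q => ⟨x * q * x⁻¹, h q q.2⟩
  have hinj : Function.Injective φ := by
    intro a b hab
    have := congrArg Subtype.val hab
    simp only [φ] at this
    apply Subtype.ext
    exact mul_left_cancel (mul_right_cancel this)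
  obtain ⟨q, hq⟩ := (Finite.injective_iff_surjective.mp hinj) ⟨x * y * x⁻¹, hy⟩
  have h2 := congrArg Subtype.val hq
  simp only [φ] at h2
  have : (q : G) = y := mul_left_cancel (mul_right_cancel h2)
  rw [← this]; exact q.2

/-- in a nilpotent group, a self-normalizing subgroup is the whole group -/
theorem eq_top_of_normalizer_eq [Group.IsNilpotent G] {T : Subgroup G}
    (h : normalizer (T : Set G) = T) : T = ⊤ := by
  by_contra hne
  have := Group.normalizerCondition_of_isNilpotent (G := G) T (lt_top_iff_ne_top.mpr hne)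
  rw [h] at this
  exact lt_irrefl _ this

/-- lifted normalizer condition: if `M` is nilpotent, `f : G → M` is onto, `T` contains the
kernel of `f` and is self-normalizing, then `T = ⊤`. -/
theorem eq_top_of_normalizer_eq_of_surjective {M : Type*} [Group M] [Group.IsNilpotent M]
    (f : G →* M) (hf : Function.Surjective f) {T : Subgroup G} (hker : f.ker ≤ T)
    (h : normalizer (T : Set G) = T) : T = ⊤ := by
  have h1 : (T.map f).comap f = T := by
    rw [Subgroup.comap_map_eq, sup_eq_left]; exact hker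
  have h2 : normalizer ((T.map f : Subgroup M) : Set M) = T.map f := by
    apply le_antisymm _ le_normalizer
    have := Subgroup.comap_normalizer_eq_of_surjective (T.map f) hf
    rw [h1, h] at this
    -- `comap f (normalizer (map f T)) = T`
    intro y hy
    obtain ⟨x, rfl⟩ := hf y
    have hx : x ∈ (normalizer ((T.map f : Subgroup M) : Set M)).comap f := hy
    rw [this] at hx
    exact ⟨x, hx, rfl⟩
  have h3 := eq_top_of_normalizer_eq h2
  rw [← h1, h3, Subgroup.comap_top]

/-- the normalizer of a Hall subgroup is self-normalizing -/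
theorem normalizer_normalizer_of_hall [Finite G] (Q : Subgroup G)
    (hQ : (Nat.card Q).Coprime Q.index) :
    normalizer ((normalizer (Q : Set G) : Subgroup G) : Set G) = normalizer (Q : Set G) := by
  apply le_antisymm _ le_normalizer
  intro x hx
  apply mem_normalizer_of_conj_mem
  intro y hy
  -- `z = x y x⁻¹` lies in `T = N(Q)` and has order coprime to `[T : Q]`
  have hyT : y ∈ normalizer (Q : Set G) := le_normalizer hy
  have hzT : x * y * x⁻¹ ∈ normalizer (Q : Set G) :=
    (Subgroup.mem_normalizer_iff.mp hx y).mp hyT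
  haveI : (Q.subgroupOf (normalizer (Q : Set G))).Normal := Subgroup.normal_in_normalizer
  have hord : orderOf (⟨x * y * x⁻¹, hzT⟩ : normalizer (Q : Set G)) ∣ Nat.card Q := by
    rw [Subgroup.orderOf_mk]
    have : orderOf (x * y * x⁻¹) = orderOf y := by
      have := orderOf_injective (MulAut.conj x).toMonoidHom (MulAut.conj x).injective y
      simpa using this
    rw [this]
    exact Subgroup.orderOf_dvd_natCard Q hy
  have hidx : (Q.subgroupOf (normalizer (Q : Set G))).index ∣ Q.index :=
    Subgroup.relIndex_dvd_index_of_le le_normalizer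
  have hcop : (orderOf (⟨x * y * x⁻¹, hzT⟩ : normalizer (Q : Set G))).Coprime
      (Q.subgroupOf (normalizer (Q : Set G))).index :=
    Nat.Coprime.coprime_dvd_left hord (Nat.Coprime.coprime_dvd_right hidx hQ)
  have := mem_of_orderOf_coprime_index (Q.subgroupOf (normalizer (Q : Set G))) hcop
  exact Subgroup.mem_subgroupOf.mp this

/-- a Hall subgroup of a nilpotent group is normal -/
theorem normal_of_hall_of_isNilpotent [Finite G] [Group.IsNilpotent G] (Q : Subgroup G)
    (hQ : (Nat.card Q).Coprime Q.index) : Q.Normal := by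
  rw [← Subgroup.normalizer_eq_top_iff]
  exact eq_top_of_normalizer_eq (normalizer_normalizer_of_hall Q hQ)

/-- conjugation of a normalizer -/
theorem conj_smul_normalizer (Q : Subgroup G) (l : G) :
    MulAut.conj l • normalizer (Q : Set G) = normalizer ((MulAut.conj l • Q : Subgroup G) : Set G) := by
  ext x
  rw [mem_conj_smul, Subgroup.mem_normalizer_iff, Subgroup.mem_normalizer_iff]
  constructor
  · intro h y
    rw [mem_conj_smul, mem_conj_smul, h (l⁻¹ * y * l)]
    have : l⁻¹ * x * l * (l⁻¹ * y * l) * (l⁻¹ * x * l)⁻¹ = l⁻¹ * (x * y * x⁻¹) * l := by group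
    rw [this]
  · intro h y
    have := h (l * y * l⁻¹)
    rw [mem_conj_smul, mem_conj_smul] at this
    have e1 : l⁻¹ * (l * y * l⁻¹) * l = y := by group
    have e2 : l⁻¹ * (x * (l * y * l⁻¹) * x⁻¹) * l = l⁻¹ * x * l * y * (l⁻¹ * x * l)⁻¹ := by group
    rw [e1, e2] at this
    exact this

/-- a conjugate of a Carter subgroup is a Carter subgroup -/
theorem IsCarter.conj {C : Subgroup G} (hC : IsCarter C) (g : G) :
    IsCarter (MulAut.conj g • C : Subgroup G) := by
  obtain ⟨h1, h2⟩ := hC
  refine ⟨?_, ?_⟩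
  · exact Group.nilpotent_of_mulEquiv (Subgroup.equivSMul (MulAut.conj g) C)
  · rw [← conj_smul_normalizer, h2]

end basic

section structure_

variable {L : Type*} [Group L] [Finite L] {M : Type*} [Group M] [Group.IsNilpotent M]
  {p : ℕ} [Fact p.Prime]

/-- if `L / N` is nilpotent with `N` a `p`-group, the Sylow `p`-subgroup of `L` is normal -/
theorem sylow_normal_of_surjective (f : L →* M) (hf : Function.Surjective f)
    (hker : IsPGroup p f.ker) (P : Sylow p L) : (P : Subgroup L).Normal := by
  haveI : Finite M := Finite.of_surjective f hf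
  have hle : f.ker ≤ P := hker.le_sylow_of_normal P
  have h1 : ((P.mapSurjective hf : Sylow p M) : Subgroup M).Normal := inferInstance
  have h2 : ((P : Subgroup L).map f).comap f = P := by
    rw [Subgroup.comap_map_eq, sup_eq_left]; exact hle
  rw [← h2]
  exact h1.comap f

/-- the normalizer of a complement of the Sylow `p`-subgroup is nilpotent -/
theorem isNilpotent_normalizer_of_complement (f : L →* M) (hf : Function.Surjective f)
    (hker : IsPGroup p f.ker) (P : Sylow p L) (Q : Subgroup L)
    (hQ : IsComplement' (P : Subgroup L) Q) :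
    Group.IsNilpotent (normalizer (Q : Set L)) := by
  have hPn := sylow_normal_of_surjective f hf hker P
  have hdisj : ∀ x : L, x ∈ (P : Subgroup L) → x ∈ Q → x = 1 := by
    intro x h1 h2
    exact Subgroup.disjoint_def.mp hQ.disjoint h1 h2
  have hcomm : ∀ s ∈ (P : Subgroup L) ⊓ normalizer (Q : Set L), ∀ q ∈ Q, s * q = q * s := by
    intro s hs q hq
    obtain ⟨hsP, hsC⟩ := Subgroup.mem_inf.mp hs
    have h1 : s * q * s⁻¹ * q⁻¹ ∈ (P : Subgroup L) := by
      have := hPn.conj_mem s⁻¹ (inv_mem hsP) q
      have e : s * q * s⁻¹ * q⁻¹ = s * (q * s⁻¹ * q⁻¹) := by group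
      rw [e]; exact mul_mem hsP this
    have h2 : s * q * s⁻¹ * q⁻¹ ∈ Q := by
      have := (mem_normalizer_iff.mp hsC q).mp hq
      exact mul_mem this (inv_mem hq)
    have h3 := hdisj _ h1 h2
    calc s * q = (s * q * s⁻¹ * q⁻¹) * (q * s) := by group
      _ = q * s := by rw [h3, one_mul]
  haveI : Group.IsNilpotent ((P : Subgroup L) ⊓ normalizer (Q : Set L) : Subgroup L) :=
    (P.isPGroup'.to_le inf_le_left).isNilpotent
  haveI : Group.IsNilpotent Q := by
    have hinj : Function.Injective (f.comp Q.subtype) := by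
      rw [← MonoidHom.ker_eq_bot_iff, eq_bot_iff]
      intro q hq
      have hq' : (q : L) ∈ f.ker := hq
      have : (q : L) = 1 := hdisj _ (hker.le_sylow_of_normal P hq') q.2
      exact Subtype.ext this
    exact Group.nilpotent_of_mulEquiv (MonoidHom.ofInjective hinj).symm
  let φ : ((P : Subgroup L) ⊓ normalizer (Q : Set L) : Subgroup L) × Q →* normalizer (Q : Set L) :=
    MonoidHom.noncommCoprod (Subgroup.inclusion inf_le_right) (Subgroup.inclusion le_normalizer)
      (by
        intro s q
        apply Subtype.ext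
        exact hcomm s s.2 q q.2)
  have hφ : Function.Surjective φ := by
    rintro ⟨c, hc⟩
    obtain ⟨⟨x, q⟩, hxq⟩ := hQ.2 c
    simp only at hxq
    have hxC : (x : L) ∈ normalizer (Q : Set L) := by
      have : (x : L) = c * (q : L)⁻¹ := by rw [← hxq]; group
      rw [this]; exact mul_mem hc (inv_mem (le_normalizer q.2))
    refine ⟨(⟨x, Subgroup.mem_inf.mpr ⟨x.2, hxC⟩⟩, ⟨q, q.2⟩), ?_⟩
    apply Subtype.ext
    simp only [φ, MonoidHom.noncommCoprod_apply, Subgroup.coe_mul, Subgroup.coe_inclusion]
    exact hxq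
  exact Group.nilpotent_of_surjective φ hφ

/-- complements of the normal Sylow `p`-subgroup are conjugate -/
theorem complement_conj (f : L →* M) (hf : Function.Surjective f)
    (hker : IsPGroup p f.ker) (P : Sylow p L) (Q₁ Q₂ : Subgroup L)
    (h₁ : IsComplement' (P : Subgroup L) Q₁) (h₂ : IsComplement' (P : Subgroup L) Q₂) :
    ∃ l : L, MulAut.conj l • Q₁ = Q₂ := by
  haveI := sylow_normal_of_surjective f hf hker P
  haveI : Group.IsNilpotent (P : Subgroup L) := P.isPGroup'.isNilpotent
  apply sz_conj (P : Subgroup L) Q₁ Q₂ _ h₁ h₂ (Or.inl inferInstance)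
  have h3 := h₁.symm.index_eq_card
  rw [← h3]
  exact P.card_coprime_index

/-- Frattini argument: `L = N · N_L(Q)` -/
theorem ker_sup_normalizer_eq_top (f : L →* M) (hf : Function.Surjective f)
    (hker : IsPGroup p f.ker) (P : Sylow p L) (Q : Subgroup L)
    (hQ : IsComplement' (P : Subgroup L) Q) : f.ker ⊔ normalizer (Q : Set L) = ⊤ := by
  haveI hPn := sylow_normal_of_surjective f hf hker P
  apply eq_top_of_normalizer_eq_of_surjective f hf le_sup_left
  apply le_antisymm _ le_normalizer
  intro x hx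
  set T := f.ker ⊔ normalizer (Q : Set L) with hT
  have hQT : Q ≤ T := le_normalizer.trans le_sup_right
  have hQxT : MulAut.conj x • Q ≤ T := by
    intro y hy
    rw [mem_conj_smul] at hy
    have := (mem_normalizer_iff.mp hx (x⁻¹ * y * x)).mp (hQT hy)
    have e : x * (x⁻¹ * y * x) * x⁻¹ = y := by group
    rwa [e] at this
  have hQx : IsComplement' (P : Subgroup L) (MulAut.conj x • Q) := isComplement'_conj hQ x
  have hdec : ∀ (Q' : Subgroup L), IsComplement' (P : Subgroup L) Q' → Q' ≤ T →
      IsComplement' ((P : Subgroup L).subgroupOf T) (Q'.subgroupOf T) := by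
    intro Q' hQ' hle
    apply isComplement'_subgroupOf hle hQ'.disjoint.eq_bot
    intro t ht
    obtain ⟨⟨m, q⟩, hmq⟩ := hQ'.2 t
    exact ⟨m, m.2, q, q.2, hmq.symm⟩
  have c1 := hdec Q hQ hQT
  have c2 := hdec _ hQx hQxT
  haveI : ((P : Subgroup L).subgroupOf T).Normal := hPn.subgroupOf T
  have hPT : IsPGroup p ((P : Subgroup L).subgroupOf T) := P.isPGroup'.comap_subtype
  haveI : Group.IsNilpotent ((P : Subgroup L).subgroupOf T) := hPT.isNilpotent
  have hcop : (Nat.card ((P : Subgroup L).subgroupOf T)).Coprime (Nat.card (Q.subgroupOf T)) := by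
    rw [card_subgroupOf_of_le hQT]
    apply Nat.Coprime.coprime_dvd_left (card_subgroupOf_dvd _ _)
    have h3 := hQ.symm.index_eq_card
    rw [← h3]
    exact P.card_coprime_index
  obtain ⟨t, ht⟩ := sz_conj _ _ _ hcop c1 c2 (Or.inl inferInstance)
  have h4 := conj_of_subgroupOf hQT hQxT t ht
  -- `t⁻¹ x` normalizes `Q`
  have h5 : (t : L)⁻¹ * x ∈ normalizer (Q : Set L) := by
    apply mem_normalizer_of_conj_mem
    intro y hy
    have h6 : x * y * x⁻¹ ∈ MulAut.conj (t : L) • Q := by
      rw [h4]; exact conj_mem_conj_smul hy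
    rw [mem_conj_smul] at h6
    have e : (t : L)⁻¹ * x * y * ((t : L)⁻¹ * x)⁻¹ = (t : L)⁻¹ * (x * y * x⁻¹) * t := by group
    rw [e]; exact h6
  have e : x = (t : L) * ((t : L)⁻¹ * x) := by group
  rw [e]
  exact mul_mem t.2 (le_sup_right (a := f.ker) h5)

/-- existence of a Carter subgroup covering `L / N` -/
theorem exists_carter_of_nilpotent_quotient (f : L →* M) (hf : Function.Surjective f)
    (hker : IsPGroup p f.ker) : ∃ C : Subgroup L, IsCarter C ∧ f.ker ⊔ C = ⊤ := by
  obtain ⟨P⟩ : Nonempty (Sylow p L) := inferInstance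
  haveI hPn := sylow_normal_of_surjective f hf hker P
  obtain ⟨Q, hQ⟩ := Subgroup.exists_right_complement'_of_coprime P.card_coprime_index
  refine ⟨normalizer (Q : Set L), ⟨isNilpotent_normalizer_of_complement f hf hker P Q hQ, ?_⟩,
    ker_sup_normalizer_eq_top f hf hker P Q hQ⟩
  apply normalizer_normalizer_of_hall
  have h3 := hQ.symm.index_eq_card
  have h4 := hQ.index_eq_card
  rw [h4, ← h3]
  exact P.card_coprime_index.symm

/-- a Carter subgroup covering `L / N` is the normalizer of a `p`-complement -/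
theorem carter_eq_normalizer (f : L →* M) (hf : Function.Surjective f)
    (hker : IsPGroup p f.ker) (P : Sylow p L) (D : Subgroup L) (hD : IsCarter D)
    (hDN : f.ker ⊔ D = ⊤) :
    ∃ Q' : Subgroup L, IsComplement' (P : Subgroup L) Q' ∧ D = normalizer (Q' : Set L) := by
  haveI hPn := sylow_normal_of_surjective f hf hker P
  haveI := hD.1
  obtain ⟨S⟩ : Nonempty (Sylow p D) := inferInstance
  haveI : (S : Subgroup D).Normal := inferInstance
  obtain ⟨Q₀, hQ₀⟩ := Subgroup.exists_right_complement'_of_coprime S.card_coprime_index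
  have hQ₀cop : (Nat.card Q₀).Coprime Q₀.index := by
    rw [hQ₀.index_eq_card, ← hQ₀.symm.index_eq_card]
    exact S.card_coprime_index.symm
  haveI hQ₀n : Q₀.Normal := normal_of_hall_of_isNilpotent Q₀ hQ₀cop
  set Q' := Q₀.map D.subtype with hQ'
  have hQ'D : Q' ≤ D := Subgroup.map_subtype_le Q₀
  -- `P` contains every `p`-subgroup
  have hPall : ∀ R : Subgroup L, IsPGroup p R → R ≤ P := by
    intro R hR
    obtain ⟨P', hP'⟩ := hR.exists_le_sylow
    haveI := Sylow.unique_of_normal P hPn
    rw [Subsingleton.elim P P'] 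
    exact hP'
  have hcard : Nat.card Q' = Nat.card Q₀ :=
    Subgroup.card_map_of_injective D.subtype_injective
  have hcop : (Nat.card (P : Subgroup L)).Coprime (Nat.card Q') := by
    rw [hcard, ← hQ₀.symm.index_eq_card]
    obtain ⟨k, hk⟩ := P.isPGroup'.exists_card_eq
    rw [hk]
    apply Nat.Coprime.pow_left
    rw [Nat.Prime.coprime_iff_not_dvd Fact.out]
    exact S.not_dvd_index
  have hcompl : IsComplement' (P : Subgroup L) Q' := by
    apply Subgroup.isComplement'_of_disjoint_and_mul_eq_univ
    · exact Subgroup.disjoint_of_coprime_natCard hcop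
    · rw [Set.eq_univ_iff_forall]
      intro l
      have hl : l ∈ ((f.ker ⊔ D : Subgroup L) : Set L) := by rw [hDN]; exact Set.mem_univ _
      rw [Subgroup.normal_mul] at hl
      obtain ⟨n, hn, d, hd, rfl⟩ := Set.mem_mul.mp hl
      obtain ⟨⟨s, q⟩, hsq⟩ := hQ₀.2 ⟨d, hd⟩
      simp only at hsq
      have hsq' : ((s : D) : L) * ((q : D) : L) = d := by
        have := congrArg Subtype.val hsq
        simpa using this
      rw [Set.mem_mul]
      refine ⟨n * ((s : D) : L), ?_, ((q : D) : L), ⟨(q : D), q.2, rfl⟩, ?_⟩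
      · apply mul_mem (hker.le_sylow_of_normal P hn)
        have hSp : IsPGroup p ((S : Subgroup D).map D.subtype) := S.isPGroup'.map _
        exact hPall _ hSp ⟨(s : D), s.2, rfl⟩
      · rw [mul_assoc, hsq']
  refine ⟨Q', hcompl, ?_⟩
  have hDle : D ≤ normalizer (Q' : Set L) := by
    intro d hd
    apply mem_normalizer_of_conj_mem
    rintro _ ⟨q, hq, rfl⟩
    exact ⟨(⟨d, hd⟩ : D) * q * (⟨d, hd⟩ : D)⁻¹, hQ₀n.conj_mem q hq _, by simp⟩
  haveI := isNilpotent_normalizer_of_complement f hf hker P Q' hcompl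
  have h1 : normalizer ((D.subgroupOf (normalizer (Q' : Set L)) : Subgroup _) : Set _)
      = D.subgroupOf (normalizer (Q' : Set L)) := by
    rw [← Subgroup.subgroupOf_normalizer_eq hDle, hD.2]
  have h2 := eq_top_of_normalizer_eq h1
  rw [Subgroup.subgroupOf_eq_top] at h2
  exact le_antisymm hDle h2

/-- Carter subgroups covering `L / N` are conjugate -/
theorem carter_conj_of_ker_sup_eq_top (f : L →* M) (hf : Function.Surjective f)
    (hker : IsPGroup p f.ker) (C D : Subgroup L) (hC : IsCarter C) (hD : IsCarter D)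
    (hCN : f.ker ⊔ C = ⊤) (hDN : f.ker ⊔ D = ⊤) : ∃ l : L, MulAut.conj l • C = D := by
  obtain ⟨P⟩ : Nonempty (Sylow p L) := inferInstance
  obtain ⟨Q₁, h₁, rfl⟩ := carter_eq_normalizer f hf hker P C hC hCN
  obtain ⟨Q₂, h₂, rfl⟩ := carter_eq_normalizer f hf hker P D hD hDN
  obtain ⟨l, hl⟩ := complement_conj f hf hker P Q₁ Q₂ h₁ h₂
  exact ⟨l, by rw [conj_smul_normalizer, hl]⟩

end structure_

section main

/-- a Carter subgroup of `G` contained in `K` is a Carter subgroup of `K` -/
theorem IsCarter.subgroupOf {G : Type*} [Group G] {D K : Subgroup G} (hD : IsCarter D)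
    (hDK : D ≤ K) : IsCarter (D.subgroupOf K) := by
  haveI := hD.1
  refine ⟨Group.nilpotent_of_mulEquiv (Subgroup.subgroupOfEquivOfLe hDK).symm, ?_⟩
  rw [← Subgroup.subgroupOf_normalizer_eq hDK, hD.2]

/-- if `l • C = x • C` for a self-normalizing `C`, then `l⁻¹ x ∈ C` -/
theorem inv_mul_mem_of_conj_smul_eq {G : Type*} [Group G] [Finite G] {C : Subgroup G}
    (hC : normalizer (C : Set G) = C) {l x : G}
    (h : MulAut.conj l • C = MulAut.conj x • C) : l⁻¹ * x ∈ C := by
  rw [← hC]
  apply mem_normalizer_of_conj_mem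
  intro y hy
  have h6 : x * y * x⁻¹ ∈ MulAut.conj l • C := by
    rw [h]; exact conj_mem_conj_smul hy
  rw [mem_conj_smul] at h6
  have e : l⁻¹ * x * y * (l⁻¹ * x)⁻¹ = l⁻¹ * (x * y * x⁻¹) * l := by group
  rw [e]; exact h6

/-- two Carter subgroups with the same closure modulo a normal `p`-subgroup `N` are conjugate
inside that closure. -/
theorem carter_local_conj {G : Type*} [Group G] [Finite G] {p : ℕ} [Fact p.Prime]
    (N : Subgroup G) [N.Normal] (hN : IsPGroup p N) {C D : Subgroup G} (hC : IsCarter C)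
    (hD : IsCarter D) (hCD : C ≤ D ⊔ N) (hDC : D ≤ C ⊔ N) :
    ∃ l ∈ D ⊔ N, MulAut.conj l • C = D := by
  set L₀ := D ⊔ N with hL₀
  have hDL : D ≤ L₀ := le_sup_left
  have hNL : N ≤ L₀ := le_sup_right
  have hL₀' : L₀ = C ⊔ N := le_antisymm (sup_le hDC le_sup_right) (sup_le hCD le_sup_right)
  -- the quotient map restricted to `L₀`
  let f : L₀ →* L₀.map (QuotientGroup.mk' N) := (QuotientGroup.mk' N).subgroupMap L₀
  have hf : Function.Surjective f := (QuotientGroup.mk' N).subgroupMap_surjective L₀
  have hkermem : ∀ x : L₀, x ∈ f.ker ↔ (x : G) ∈ N := by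
    intro x
    rw [MonoidHom.mem_ker]
    constructor
    · intro h
      have := congrArg Subtype.val h
      simp only [f, MonoidHom.subgroupMap_apply_coe, Subgroup.coe_one] at this
      exact (QuotientGroup.eq_one_iff _).mp this
    · intro h
      apply Subtype.ext
      simp only [f, MonoidHom.subgroupMap_apply_coe, Subgroup.coe_one]
      exact (QuotientGroup.eq_one_iff _).mpr h
  have hker : IsPGroup p f.ker := by
    let ϕ : f.ker →* N :=
      { toFun := fun g => ⟨((g : L₀) : G), (hkermem g).mp g.2⟩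
        map_one' := rfl
        map_mul' := fun _ _ => rfl }
    apply hN.of_injective ϕ
    intro a b hab
    have := congrArg Subtype.val hab
    exact Subtype.ext (Subtype.ext this)
  haveI : Group.IsNilpotent (L₀.map (QuotientGroup.mk' N)) := by
    have e : L₀.map (QuotientGroup.mk' N) = D.map (QuotientGroup.mk' N) := by
      rw [hL₀, Subgroup.map_sup, QuotientGroup.map_mk'_self, sup_bot_eq]
    rw [e]
    haveI := hD.1
    exact Group.nilpotent_of_surjective ((QuotientGroup.mk' N).subgroupMap D)
      ((QuotientGroup.mk' N).subgroupMap_surjective D)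
  have hcover : ∀ E : Subgroup G, E ≤ L₀ → L₀ = E ⊔ N → f.ker ⊔ E.subgroupOf L₀ = ⊤ := by
    intro E hEL hLE
    rw [eq_top_iff]
    rintro ⟨l, hl⟩ -
    have hl' : l ∈ ((N ⊔ E : Subgroup G) : Set G) := by rw [sup_comm, ← hLE]; exact hl
    rw [Subgroup.normal_mul] at hl'
    obtain ⟨n, hn, e, he, hne⟩ := Set.mem_mul.mp hl'
    have : (⟨l, hl⟩ : L₀) = ⟨n, hNL hn⟩ * ⟨e, hEL he⟩ := Subtype.ext hne.symm
    rw [this]
    exact Subgroup.mul_mem_sup ((hkermem _).mpr hn) (Subgroup.mem_subgroupOf.mpr he)
  have hCL : C ≤ L₀ := by rw [hL₀']; exact le_sup_left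
  obtain ⟨l, hl⟩ := carter_conj_of_ker_sup_eq_top f hf hker (C.subgroupOf L₀) (D.subgroupOf L₀)
    (hC.subgroupOf hCL) (hD.subgroupOf hDL) (hcover C hCL hL₀') (hcover D hDL hL₀)
  exact ⟨l, l.2, conj_of_subgroupOf hCL hDL l hl⟩

/-- the image of a Carter subgroup modulo a normal `p`-subgroup is a Carter subgroup -/
theorem IsCarter.map_mk {G : Type*} [Group G] [Finite G] {p : ℕ} [Fact p.Prime]
    (N : Subgroup G) [N.Normal] (hN : IsPGroup p N) {D : Subgroup G} (hD : IsCarter D) :
    IsCarter (D.map (QuotientGroup.mk' N)) := by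
  have hNn : N.Normal := inferInstance
  haveI := hD.1
  refine ⟨Group.nilpotent_of_surjective ((QuotientGroup.mk' N).subgroupMap D)
      ((QuotientGroup.mk' N).subgroupMap_surjective D), ?_⟩
  apply le_antisymm _ le_normalizer
  intro y hy
  obtain ⟨x, rfl⟩ := QuotientGroup.mk'_surjective N y
  have hx : x ∈ normalizer ((D ⊔ N : Subgroup G) : Set G) := by
    have h1 := Subgroup.comap_normalizer_eq_of_surjective (D.map (QuotientGroup.mk' N))
      (QuotientGroup.mk'_surjective N)
    rw [Subgroup.comap_map_eq, QuotientGroup.ker_mk'] at h1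
    rw [← h1]
    exact hy
  -- `C₁ = x D x⁻¹`
  have hC₁ : IsCarter (MulAut.conj x • D : Subgroup G) := hD.conj x
  have h1 : MulAut.conj x • D ≤ D ⊔ N := by
    intro z hz
    rw [mem_conj_smul] at hz
    have := (mem_normalizer_iff.mp hx (x⁻¹ * z * x)).mp (le_sup_left (b := N) hz)
    have e : x * (x⁻¹ * z * x) * x⁻¹ = z := by group
    rwa [e] at this
  have h2 : D ≤ MulAut.conj x • D ⊔ N := by
    intro d hd
    have h3 : x⁻¹ * d * x ∈ D ⊔ N := by
      have hx' := Subgroup.inv_mem _ hx
      have := (mem_normalizer_iff.mp hx' d).mp (le_sup_left (b := N) hd)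
      rwa [inv_inv] at this
    have h4 : x⁻¹ * d * x ∈ ((N ⊔ D : Subgroup G) : Set G) := by rw [sup_comm]; exact h3
    rw [Subgroup.normal_mul] at h4
    obtain ⟨n, hn, d', hd', hnd⟩ := Set.mem_mul.mp h4
    have e : d = (x * d' * x⁻¹) * (x * (d'⁻¹ * n * d'⁻¹⁻¹) * x⁻¹) := by
      have : d = x * (x⁻¹ * d * x) * x⁻¹ := by group
      rw [this, ← hnd]; group
    rw [e]
    exact Subgroup.mul_mem_sup (conj_mem_conj_smul hd')
      (hNn.conj_mem _ (hNn.conj_mem n hn _) x)
  obtain ⟨l, hlL, hl⟩ := carter_local_conj N hN hC₁ hD h1 h2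
  -- `l x` normalizes `D`
  have h5 : MulAut.conj l⁻¹ • D = MulAut.conj x • D := by
    conv_lhs => rw [← hl]
    rw [smul_smul, ← map_mul, inv_mul_cancel, map_one, one_smul]
  have h6 := inv_mul_mem_of_conj_smul_eq hD.2 h5
  rw [inv_inv] at h6
  have hxL : x ∈ D ⊔ N := by
    have e : x = l⁻¹ * (l * x) := by group
    rw [e]
    exact mul_mem (inv_mem hlL) (le_sup_left (b := N) h6)
  have h7 : (QuotientGroup.mk' N) x ∈ (D ⊔ N).map (QuotientGroup.mk' N) := ⟨x, hxL, rfl⟩
  rw [Subgroup.map_sup, QuotientGroup.map_mk'_self, sup_bot_eq] at h7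
  exact h7

/-- **Carter subgroups**: existence and conjugacy in finite solvable groups -/
theorem carter_main : ∀ (n : ℕ) (G : Type u) [Group G] [Finite G] [Group.IsSolvable G],
    Nat.card G = n → (∃ C : Subgroup G, IsCarter C) ∧
      ∀ C D : Subgroup G, IsCarter C → IsCarter D → ∃ g : G, MulAut.conj g • C = D := by
  intro n
  induction n using Nat.strong_induction_on with
  | _ n ih =>
  intro G _ _ _ hn
  by_cases hsub : Subsingleton G
  · refine ⟨⟨⊤, inferInstance, ?_⟩, fun C D _ _ => ⟨1, ?_⟩⟩
    · exact Subgroup.normalizer_eq_top_iff.mpr inferInstance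
    · rw [Subgroup.eq_bot_of_subsingleton C, Subgroup.eq_bot_of_subsingleton D, smul_bot]
  rw [not_subsingleton_iff_nontrivial] at hsub
  obtain ⟨p, hp, N, hNn, hNne, hNp⟩ := exists_normal_pSubgroup G
  haveI : Fact p.Prime := ⟨hp⟩
  haveI := hNn
  have hlt : Nat.card (G ⧸ N) < n := by
    rw [← hn, ← N.index_eq_card, ← N.card_mul_index]
    have h1 : 1 < Nat.card N := (Subgroup.one_lt_card_iff_ne_bot _).mpr hNne
    have h2 : 0 < N.index := Nat.pos_of_ne_zero Subgroup.index_ne_zero_of_finite
    nlinarith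
  obtain ⟨⟨Kbar, hKbar⟩, hconj⟩ := ih _ hlt (G ⧸ N) rfl
  constructor
  · -- existence
    set K := Kbar.comap (QuotientGroup.mk' N) with hK
    have hNK : N ≤ K := by
      intro x hx
      rw [hK, Subgroup.mem_comap]
      have : (QuotientGroup.mk' N) x = 1 := (QuotientGroup.eq_one_iff x).mpr hx
      rw [this]; exact one_mem _
    let f : K →* Kbar := (QuotientGroup.mk' N).subgroupComap Kbar
    have hf : Function.Surjective f :=
      (QuotientGroup.mk' N).subgroupComap_surjective_of_surjective Kbar
        (QuotientGroup.mk'_surjective N)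
    have hkermem : ∀ x : K, x ∈ f.ker ↔ (x : G) ∈ N := by
      intro x
      rw [MonoidHom.mem_ker]
      constructor
      · intro h
        have := congrArg Subtype.val h
        simp only [f, Subgroup.coe_one] at this
        exact (QuotientGroup.eq_one_iff _).mp this
      · intro h
        apply Subtype.ext
        simp only [f, Subgroup.coe_one]
        exact (QuotientGroup.eq_one_iff _).mpr h
    have hker : IsPGroup p f.ker := by
      let ϕ : f.ker →* N :=
        { toFun := fun g => ⟨((g : K) : G), (hkermem g).mp g.2⟩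
          map_one' := rfl
          map_mul' := fun _ _ => rfl }
      apply hNp.of_injective ϕ
      intro a b hab
      have := congrArg Subtype.val hab
      exact Subtype.ext (Subtype.ext this)
    haveI := hKbar.1
    obtain ⟨C₀, hC₀, hC₀N⟩ := exists_carter_of_nilpotent_quotient f hf hker
    refine ⟨C₀.map K.subtype, ?_, ?_⟩
    · haveI := hC₀.1
      exact Group.nilpotent_of_mulEquiv (C₀.equivMapOfInjective K.subtype K.subtype_injective)
    · apply le_antisymm _ le_normalizer
      intro x hx
      -- first `x ∈ K`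
      have hxK : x ∈ K := by
        rw [hK, Subgroup.mem_comap, ← hKbar.2]
        apply mem_normalizer_of_conj_mem
        intro ybar hybar
        obtain ⟨y, rfl⟩ := QuotientGroup.mk'_surjective N ybar
        have hyK : y ∈ K := hybar
        have hy' : (⟨y, hyK⟩ : K) ∈ ((f.ker ⊔ C₀ : Subgroup K) : Set K) := by
          rw [hC₀N]; exact Set.mem_univ _
        rw [Subgroup.normal_mul] at hy'
        obtain ⟨m, hm, c, hc, hmc⟩ := Set.mem_mul.mp hy'
        have hmc' : (m : G) * (c : G) = y := by
          have := congrArg Subtype.val hmc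
          simpa using this
        have hcC : (c : G) ∈ C₀.map K.subtype := ⟨c, hc, rfl⟩
        have hxc : x * (c : G) * x⁻¹ ∈ C₀.map K.subtype :=
          (mem_normalizer_iff.mp hx _).mp hcC
        have hxcK : x * (c : G) * x⁻¹ ∈ K := Subgroup.map_subtype_le C₀ hxc
        have hxm : x * (m : G) * x⁻¹ ∈ K := hNK (hNn.conj_mem _ ((hkermem m).mp hm) x)
        have e : x * y * x⁻¹ = (x * (m : G) * x⁻¹) * (x * (c : G) * x⁻¹) := by
          rw [← hmc']; group
        have h8 : x * y * x⁻¹ ∈ K := by rw [e]; exact mul_mem hxm hxcK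
        have h9 : (QuotientGroup.mk' N) (x * y * x⁻¹) ∈ Kbar := h8
        rw [map_mul, map_mul, map_inv] at h9
        exact h9
      -- then `x ∈ C`
      have hxC₀ : (⟨x, hxK⟩ : K) ∈ C₀ := by
        rw [← hC₀.2]
        apply mem_normalizer_of_conj_mem
        intro c hc
        have hcC : (c : G) ∈ C₀.map K.subtype := ⟨c, hc, rfl⟩
        obtain ⟨c', hc', hcc'⟩ := (mem_normalizer_iff.mp hx _).mp hcC
        have : (⟨x, hxK⟩ : K) * c * (⟨x, hxK⟩ : K)⁻¹ = c' := by
          apply Subtype.ext
          simpa using hcc'.symm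
        rw [this]; exact hc'
      exact ⟨⟨x, hxK⟩, hxC₀, rfl⟩
  · -- conjugacy
    intro C D hC hD
    obtain ⟨gbar, hg⟩ := hconj _ _ (hC.map_mk N hNp) (hD.map_mk N hNp)
    obtain ⟨g, rfl⟩ := QuotientGroup.mk'_surjective N gbar
    have hC₁ : IsCarter (MulAut.conj g • C : Subgroup G) := hC.conj g
    have h1 : MulAut.conj g • C ≤ D ⊔ N := by
      intro z hz
      rw [mem_conj_smul] at hz
      have h2 : (QuotientGroup.mk' N) z ∈ D.map (QuotientGroup.mk' N) := by
        rw [← hg, mem_conj_smul]
        refine ⟨g⁻¹ * z * g, hz, ?_⟩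
        simp
      obtain ⟨d, hd, hdz⟩ := h2
      have h3 : d⁻¹ * z ∈ N := by
        rw [← QuotientGroup.eq_one_iff, QuotientGroup.mk_mul, QuotientGroup.mk_inv]
        change ((QuotientGroup.mk' N) d)⁻¹ * (QuotientGroup.mk' N) z = 1
        rw [hdz, inv_mul_cancel]
      have e : z = d * (d⁻¹ * z) := by group
      rw [e]
      exact Subgroup.mul_mem_sup hd h3
    have h2 : D ≤ MulAut.conj g • C ⊔ N := by
      intro d hd
      have h3 : (QuotientGroup.mk' N) d ∈ MulAut.conj ((QuotientGroup.mk' N) g) •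
          C.map (QuotientGroup.mk' N) := by
        rw [hg]; exact ⟨d, hd, rfl⟩
      rw [mem_conj_smul] at h3
      obtain ⟨c, hc, hcd⟩ := h3
      have h4 : (g * c * g⁻¹)⁻¹ * d ∈ N := by
        rw [← QuotientGroup.eq_one_iff]
        change (QuotientGroup.mk' N) ((g * c * g⁻¹)⁻¹ * d) = 1
        rw [map_mul, map_inv, map_mul, map_mul, map_inv, hcd]
        group
      have e : d = (g * c * g⁻¹) * ((g * c * g⁻¹)⁻¹ * d) := by group
      rw [e]
      exact Subgroup.mul_mem_sup (conj_mem_conj_smul hc) h4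
    obtain ⟨l, -, hl⟩ := carter_local_conj N hNp hC₁ hD h1 h2
    refine ⟨l * g, ?_⟩
    rw [map_mul, mul_smul, hl]

end main

end Cfsg.Agent.Helper1
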