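import Mathlib.GroupTheory.Sylow
import Mathlib.GroupTheory.Nilpotent
import Mathlib.GroupTheory.Frattini
import Mathlib.GroupTheory.SpecificGroups.Cyclic

set_option autoImplicit false

namespace Cfsg.Agent.Helper1

open Subgroup

variable {G : Type*} [Group G]

/-- A maximal subgroup of a finite `p`-group is normal of index `p`. -/
theorem coatom_normal_index [Finite G] {p : ℕ} [Fact p.Prime] (hG : IsPGroup p G)
    (M : Subgroup G) (hM : IsCoatom M) : M.Normal ∧ M.index = p := by
  have hnil : Group.IsNilpotent G := hG.isNilpotent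
  have q := (Group.isNilpotent_of_finite_tfae (G := G)).out 0 2
  rw [q] at hnil
  refine ⟨hnil M hM, ?_⟩
  obtain ⟨n, hn⟩ := IsPGroup.exists_card_eq (hG.to_subgroup M)
  obtain ⟨k, hk⟩ := IsPGroup.exists_card_eq hG
  have hp : p.Prime := Fact.out
  have hlt : Nat.card M < Nat.card G := by
    have h1 := M.index_mul_card
    have h2 : 1 < M.index := Subgroup.one_lt_index_of_ne_top hM.1
    have h3 : 0 < Nat.card M := Nat.card_pos
    nlinarith
  have hnk : n < k := by
    rw [hn, hk] at hlt
    exact (Nat.pow_lt_pow_iff_right hp.one_lt).mp hlt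
  have hdvd : p ^ (n + 1) ∣ Nat.card G := by
    rw [hk]; exact pow_dvd_pow p hnk
  obtain ⟨K, hK, hMK⟩ := Sylow.exists_subgroup_card_pow_succ hdvd hn
  have hne : M ≠ K := by
    intro h
    rw [← h, hn] at hK
    have := Nat.pow_right_injective hp.two_le hK
    omega
  have hKtop : K = ⊤ := hM.2 K (lt_of_le_of_ne hMK hne)
  rw [hKtop, Subgroup.card_top] at hK
  have h1 := M.index_mul_card
  rw [hK, hn, pow_succ, mul_comm] at h1
  exact Nat.eq_of_mul_eq_mul_left (pow_pos hp.pos n) h1

/-- In a finite `p`-group the commutator subgroup lies in every maximal subgroup. -/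
theorem commutator_le_coatom [Finite G] {p : ℕ} [Fact p.Prime] (hG : IsPGroup p G)
    (M : Subgroup G) (hM : IsCoatom M) : commutator G ≤ M := by
  obtain ⟨hMn, hidx⟩ := coatom_normal_index hG M hM
  have hcard : Nat.card (G ⧸ M) = p := by rw [← Subgroup.index_eq_card, hidx]
  have hcyc : IsCyclic (G ⧸ M) := isCyclic_of_prime_card hcard
  have hcomm : IsMulCommutative (G ⧸ M) := IsCyclic.isMulCommutative
  rw [commutator_def, Subgroup.commutator_le]
  intro g₁ _ g₂ _
  rw [← QuotientGroup.eq_one_iff, commutatorElement_def]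
  have := mul_comm' (g₁ : G ⧸ M) (g₂ : G ⧸ M)
  simp only [QuotientGroup.mk_mul, QuotientGroup.mk_inv]
  rw [this]
  simp

/-- In a finite `p`-group every `p`-th power lies in every maximal subgroup. -/
theorem pow_mem_coatom [Finite G] {p : ℕ} [Fact p.Prime] (hG : IsPGroup p G)
    (M : Subgroup G) (hM : IsCoatom M) (x : G) : x ^ p ∈ M := by
  obtain ⟨hMn, hidx⟩ := coatom_normal_index hG M hM
  have hcard : Nat.card (G ⧸ M) = p := by rw [← Subgroup.index_eq_card, hidx]
  rw [← QuotientGroup.eq_one_iff, QuotientGroup.mk_pow, ← hcard]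
  exact pow_card_eq_one'

end Cfsg.Agent.Helper1
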