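import Mathlib
import Cfsg.Agent.Helper48.Averaging
import Cfsg.Agent.Helper60.SolvGraph

/-!
Fixed-point-free actions on abelian groups: the acting group is cyclic when it is abelian or of
order `p * q` (helper1).
-/

set_option autoImplicit false

namespace Cfsg.Agent.Helper1

section fpf

variable {A V : Type*} [Group A] [CommGroup V] [Finite V] (φ : A →* MulAut V)

/-- if `c` with `c ^ r = 1` acts without nontrivial fixed points on `V`, then `r ∤ |V|`. -/
theorem fpf_not_dvd_card {r : ℕ} [Fact r.Prime] (c : A) (hcr : c ^ r = 1)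
    (hfpf : ∀ v : V, φ c v = v → v = 1) : ¬ r ∣ Nat.card V := by
  intro hdvd
  let B : Subgroup (MulAut V) := Subgroup.zpowers (φ c)
  have hB : IsPGroup r B := by
    rintro ⟨g, hg⟩
    refine ⟨1, ?_⟩
    obtain ⟨j, rfl⟩ := Subgroup.mem_zpowers_iff.mp hg
    apply Subtype.ext
    rw [pow_one, Subgroup.coe_pow, Subgroup.coe_one]
    change ((φ c) ^ j) ^ r = 1
    rw [← zpow_natCast, ← zpow_mul, mul_comm, zpow_mul, zpow_natCast, ← map_pow, hcr, map_one,
      one_zpow]
  have h1 : (1 : V) ∈ MulAction.fixedPoints B V := by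
    intro g
    exact map_one (g : MulAut V)
  obtain ⟨b, hb, hne⟩ := hB.exists_fixed_point_of_prime_dvd_card_of_fixed_point V hdvd h1
  apply hne
  symm
  apply hfpf
  exact hb ⟨φ c, Subgroup.mem_zpowers _⟩

/-- if `V` has exponent dividing the prime `r` and is nontrivial then `r ∣ |V|` -/
theorem dvd_card_of_exponent [Nontrivial V] {r : ℕ} (hr : r.Prime) (h : ∀ v : V, v ^ r = 1) :
    r ∣ Nat.card V := by
  obtain ⟨v, hv⟩ := exists_ne (1 : V)
  have h1 : orderOf v ∣ r := orderOf_dvd_of_pow_eq_one (h v)
  rcases (Nat.dvd_prime hr).mp h1 with h2 | h2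
  · exact absurd (orderOf_eq_one_iff.mp h2) hv
  · rw [← h2]; exact orderOf_dvd_natCard v

/-- two "independent" commuting elements of order `r` acting fixed-point-freely force exponent
`r` -/
theorem fpf_exponent {r : ℕ} [Fact r.Prime]
    (hfpf : ∀ a : A, a ≠ 1 → ∀ v : V, φ a v = v → v = 1)
    (a b : A) (hab : Commute a b) (ha : a ^ r = 1) (hb : b ^ r = 1) (hb1 : b ≠ 1)
    (hind : ∀ i : ℕ, a * b ^ i ≠ 1) (v : V) : v ^ r = 1 := by
  have hβ : (φ b) ^ r = 1 := by rw [← map_pow, hb, map_one]
  have hc : Commute (φ a) (φ b) := hab.map φ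
  have key := Helper48.averaging_identity (p := r) hβ hc v
  have h1 : ∀ i : ZMod r, Helper48.trAut r (φ a * φ b ^ i.val) v = 1 := by
    intro i
    have e : φ a * φ b ^ i.val = φ (a * b ^ i.val) := by rw [map_mul, map_pow]
    apply hfpf (a * b ^ i.val) (hind _)
    rw [← e]
    apply Helper48.trAut_fixed
    rw [e, ← map_pow, (hab.pow_right _).mul_pow, ha, ← pow_mul, mul_comm, pow_mul, hb, one_pow,
      one_mul, map_one]
  have h2 : Helper48.trAut r (φ b) v = 1 := by
    apply hfpf b hb1
    exact Helper48.trAut_fixed hβ v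
  have h3 : Helper48.trAut r (φ a) (1 : V) = 1 := by
    unfold Helper48.trAut
    simp
  rw [h2, h3] at key
  simp only [h1, Finset.prod_const_one, mul_one] at key
  exact key.symm

/-- no two independent commuting elements of prime order -/
theorem fpf_no_rank_two [Nontrivial V] {r : ℕ} [Fact r.Prime]
    (hfpf : ∀ a : A, a ≠ 1 → ∀ v : V, φ a v = v → v = 1)
    (a b : A) (hab : Commute a b) (ha : a ^ r = 1) (hb : b ^ r = 1) (hb1 : b ≠ 1)
    (hind : ∀ i : ℕ, a * b ^ i ≠ 1) : False := by
  have h1 := dvd_card_of_exponent (V := V) (Fact.out : r.Prime)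
    (fpf_exponent φ hfpf a b hab ha hb hb1 hind)
  exact fpf_not_dvd_card φ b hb (hfpf b hb1) h1

end fpf

section torsion

variable {A : Type*} [Group A] [IsMulCommutative A] [Fintype A] [DecidableEq A]

/-- `|A[r m]| ≤ |A[m]| * |A[r]|` in a finite abelian group -/
theorem card_torsion_mul_le (r m : ℕ) :
    (Finset.univ.filter fun a : A => a ^ (r * m) = 1).card ≤
      (Finset.univ.filter fun a : A => a ^ m = 1).card *
        (Finset.univ.filter fun a : A => a ^ r = 1).card := by
  have himg : ((Finset.univ.filter fun a : A => a ^ (r * m) = 1).image (fun a => a ^ m)) ⊆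
      (Finset.univ.filter fun a : A => a ^ r = 1) := by
    intro b hb
    rw [Finset.mem_image] at hb
    obtain ⟨a, ha, rfl⟩ := hb
    rw [Finset.mem_filter] at ha ⊢
    refine ⟨Finset.mem_univ _, ?_⟩
    rw [← pow_mul, mul_comm]; exact ha.2
  refine le_trans (Finset.card_le_mul_card_image (f := fun a : A => a ^ m) _
    ((Finset.univ.filter fun a : A => a ^ m = 1).card) ?_)
    (Nat.mul_le_mul_left _ (Finset.card_le_card himg))
  intro b hb
  rw [Finset.mem_image] at hb
  obtain ⟨a₀, -, rfl⟩ := hb
  apply Finset.card_le_card_of_injOn (fun a => a * a₀⁻¹)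
  · intro a ha
    rw [Finset.mem_coe, Finset.mem_filter] at ha
    rw [Finset.mem_coe, Finset.mem_filter]
    refine ⟨Finset.mem_univ _, ?_⟩
    have hc : Commute a a₀⁻¹ := mul_comm' a a₀⁻¹
    rw [hc.mul_pow, ha.2, inv_pow, mul_inv_cancel]
  · intro a _ a' _ h
    exact mul_right_cancel h

/-- if all prime torsion subgroups `A[r]` have order at most `r`, then `|A[n]| ≤ n` for all `n` -/
theorem card_torsion_le
    (h : ∀ r : ℕ, r.Prime → (Finset.univ.filter fun a : A => a ^ r = 1).card ≤ r) :
    ∀ n : ℕ, 0 < n → (Finset.univ.filter fun a : A => a ^ n = 1).card ≤ n := by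
  intro n
  induction n using Nat.strong_induction_on with
  | _ n ih =>
    intro hn
    by_cases h1 : n = 1
    · subst h1
      have : (Finset.univ.filter fun a : A => a ^ 1 = 1) = {1} := by
        ext x; simp
      rw [this, Finset.card_singleton]
    · have hr : n.minFac.Prime := Nat.minFac_prime h1
      obtain ⟨m, hm⟩ := Nat.minFac_dvd n
      have hmpos : 0 < m := by
        rcases Nat.eq_zero_or_pos m with h0 | h0
        · rw [h0, mul_zero] at hm; omega
        · exact h0
      have hmlt : m < n := by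
        have := hr.one_lt
        nlinarith
      have := card_torsion_mul_le (A := A) n.minFac m
      rw [← hm] at this
      calc (Finset.univ.filter fun a : A => a ^ n = 1).card
          ≤ (Finset.univ.filter fun a : A => a ^ m = 1).card *
              (Finset.univ.filter fun a : A => a ^ n.minFac = 1).card := this
        _ ≤ m * n.minFac := Nat.mul_le_mul (ih m hmlt hmpos) (h _ hr)
        _ = n := by rw [mul_comm]; exact hm.symm

end torsion

section main

variable {A V : Type*} [Group A] [Finite A] [CommGroup V] [Finite V] [Nontrivial V]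
  (φ : A →* MulAut V)

/-- an abelian group acting fixed-point-freely on a nontrivial abelian group is cyclic -/
theorem isCyclic_of_fpf_of_comm [IsMulCommutative A]
    (hfpf : ∀ a : A, a ≠ 1 → ∀ v : V, φ a v = v → v = 1) : IsCyclic A := by
  classical
  haveI : Fintype A := Fintype.ofFinite A
  apply isCyclic_of_card_pow_eq_one_le
  apply card_torsion_le
  intro r hr
  haveI : Fact r.Prime := ⟨hr⟩
  by_contra hlt
  push Not at hlt
  set T := (Finset.univ.filter fun a : A => a ^ r = 1) with hT
  -- a nonidentity element `b` of `T`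
  have hT1 : 1 < T.card := lt_trans hr.one_lt hlt
  obtain ⟨b, hbT, hb1⟩ := Finset.exists_mem_ne hT1 (1 : A)
  have hb : b ^ r = 1 := (Finset.mem_filter.mp hbT).2
  -- an element `a` of `T` outside `⟨b⟩`
  have hex : ∃ a ∈ T, a ∉ Subgroup.zpowers b := by
    by_contra hall
    push Not at hall
    have hsub : T ⊆ (Finset.range r).image (fun i => b ^ i) := by
      intro a ha
      have := hall a ha
      rw [Subgroup.mem_zpowers_iff] at this
      obtain ⟨k, rfl⟩ := this
      rw [Finset.mem_image]
      refine ⟨(k % (r : ℤ)).toNat, ?_, ?_⟩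
      · rw [Finset.mem_range]
        have h1 : 0 ≤ k % (r : ℤ) := Int.emod_nonneg _ (by exact_mod_cast hr.pos.ne')
        have h2 : k % (r : ℤ) < r := Int.emod_lt_of_pos _ (by exact_mod_cast hr.pos)
        omega
      · have h1 : 0 ≤ k % (r : ℤ) := Int.emod_nonneg _ (by exact_mod_cast hr.pos.ne')
        rw [← zpow_natCast, Int.toNat_of_nonneg h1]
        exact (zpow_eq_zpow_emod' k hb).symm
    have := Finset.card_le_card hsub
    have h2 := Finset.card_image_le (s := Finset.range r) (f := fun i => b ^ i)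
    rw [Finset.card_range] at h2
    omega
  obtain ⟨a, haT, haz⟩ := hex
  have ha : a ^ r = 1 := (Finset.mem_filter.mp haT).2
  apply fpf_no_rank_two φ hfpf a b (mul_comm' a b) ha hb hb1
  intro i hi
  apply haz
  have : a = (b ^ i)⁻¹ := eq_inv_of_mul_eq_one_left hi
  rw [this]
  exact Subgroup.inv_mem _ (Subgroup.pow_mem _ (Subgroup.mem_zpowers b) i)

/-- a group of order `p * q` with `p < q` acting fixed-point-freely on a nontrivial abelian group
is cyclic -/
theorem isCyclic_of_fpf_of_card_pq_lt {p q : ℕ} (hp : p.Prime) (hq : q.Prime) (hpq : p < q)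
    (hcard : Nat.card A = p * q)
    (hfpf : ∀ a : A, a ≠ 1 → ∀ v : V, φ a v = v → v = 1) : IsCyclic A := by
  classical
  by_contra hnc
  haveI : Fact p.Prime := ⟨hp⟩
  haveI : Fact q.Prime := ⟨hq⟩
  have hcop : Nat.Coprime q p := (Nat.coprime_primes hq hp).mpr hpq.ne'
  obtain ⟨u₀, hu₀⟩ := exists_prime_orderOf_dvd_card' (G := A) q (by rw [hcard]; exact Dvd.intro_left _ rfl)
  obtain ⟨y, hy⟩ := exists_prime_orderOf_dvd_card' (G := A) p (by rw [hcard]; exact Dvd.intro _ rfl)
  set R := Subgroup.zpowers u₀ with hR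
  have hRcard : Nat.card R = q := by rw [Nat.card_zpowers, hu₀]
  have hRindex : R.index = p := by
    have := R.card_mul_index
    rw [hRcard, hcard, mul_comm p q] at this
    exact Nat.eq_of_mul_eq_mul_left hq.pos this
  have hminFac : (Nat.card A).minFac = p := by
    rw [hcard]
    have h1 : (p * q).minFac ≤ p := Nat.minFac_le_of_dvd hp.two_le (Dvd.intro _ rfl)
    have h2 : (p * q).minFac.Prime := Nat.minFac_prime (by nlinarith [hp.two_le, hq.two_le])
    have h3 : (p * q).minFac ∣ p * q := Nat.minFac_dvd _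
    rcases (Nat.Prime.dvd_mul h2).mp h3 with h | h
    · exact (Nat.prime_dvd_prime_iff_eq h2 hp).mp h
    · have := (Nat.prime_dvd_prime_iff_eq h2 hq).mp h
      omega
  have hRn : R.Normal := Subgroup.normal_of_index_eq_minFac_card (by rw [hRindex, hminFac])
  -- elements of order dividing `q` lie in `R`
  have hRuniq : ∀ x : A, x ^ q = 1 → x ∈ R := by
    intro x hx
    rw [← QuotientGroup.eq_one_iff]
    have h1 : orderOf (x : A ⧸ R) ∣ q := by
      apply orderOf_dvd_of_pow_eq_one
      rw [← QuotientGroup.mk_pow, hx]; rfl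
    have h2 : orderOf (x : A ⧸ R) ∣ p := by
      have := orderOf_dvd_natCard (x : A ⧸ R)
      rwa [← Subgroup.index_eq_card, hRindex] at this
    exact orderOf_eq_one_iff.mp (Nat.eq_one_of_dvd_coprimes hcop h1 h2)
  have hyR : y ∉ R := by
    intro h
    have := Subgroup.orderOf_dvd_natCard R h
    rw [hy, hRcard] at this
    exact hpq.ne ((Nat.prime_dvd_prime_iff_eq hp hq).mp this)
  have hRne : R ≠ ⊥ := by
    intro h
    rw [h, Subgroup.card_bot] at hRcard
    exact hq.one_lt.ne hRcard
  have h3 : ∀ u ∈ R, orderOf (u * y) = p := by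
    intro u hu
    have hdvd : orderOf (u * y) ∣ p * q := by rw [← hcard]; exact orderOf_dvd_natCard _
    obtain ⟨d1, d2, hd1, hd2, hd⟩ := (Nat.dvd_mul).mp hdvd
    have hyu : ∀ z : A, u * y = z → z ∈ R → False := by
      intro z hz hzR
      apply hyR
      have : y = u⁻¹ * z := by rw [← hz]; group
      rw [this]
      exact R.mul_mem (R.inv_mem hu) hzR
    rcases (Nat.dvd_prime hp).mp hd1 with h1 | h1 <;> rcases (Nat.dvd_prime hq).mp hd2 with h2 | h2
    · exfalso
      rw [h1, h2, mul_one] at hd
      exact hyu _ rfl (by rw [orderOf_eq_one_iff.mp hd.symm]; exact R.one_mem)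
    · exfalso
      rw [h1, h2, one_mul] at hd
      exact hyu _ rfl (hRuniq _ (by rw [hd, pow_orderOf_eq_one]))
    · rw [h1, h2, mul_one] at hd
      exact hd.symm
    · exfalso
      rw [h1, h2, ← hcard] at hd
      exact hnc (isCyclic_of_orderOf_eq_card _ hd.symm)
  have hexp : ∀ v : V, v ^ q = 1 := by
    intro v
    have := Helper60.pow_card_eq_one_of_fpf φ R y p hp hRne
      (fun u hu => hRn.conj_mem u hu y)
      (fun u _ hu1 => hfpf u hu1)
      (fun g hg => hfpf g (by
        intro h
        rw [h, orderOf_one] at hg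
        exact hp.one_lt.ne hg))
      h3 v
    rwa [hRcard] at this
  have hu₀1 : u₀ ≠ 1 := by
    intro h
    rw [h, orderOf_one] at hu₀
    exact hq.one_lt.ne hu₀
  exact fpf_not_dvd_card φ u₀ (by rw [← hu₀, pow_orderOf_eq_one]) (hfpf u₀ hu₀1)
    (dvd_card_of_exponent hq hexp)

/-- a group of order `p * q` acting fixed-point-freely on a nontrivial abelian group is cyclic -/
theorem isCyclic_of_fpf_of_card_pq {p q : ℕ} (hp : p.Prime) (hq : q.Prime)
    (hcard : Nat.card A = p * q)
    (hfpf : ∀ a : A, a ≠ 1 → ∀ v : V, φ a v = v → v = 1) : IsCyclic A := by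
  rcases lt_trichotomy p q with h | h | h
  · exact isCyclic_of_fpf_of_card_pq_lt φ hp hq h hcard hfpf
  · subst h
    haveI : Fact p.Prime := ⟨hp⟩
    haveI : IsMulCommutative A :=
      IsPGroup.isMulCommutative_of_card_eq_prime_sq (p := p) (by rw [hcard, sq])
    exact isCyclic_of_fpf_of_comm φ hfpf
  · exact isCyclic_of_fpf_of_card_pq_lt φ hq hp h (by rw [hcard, mul_comm]) hfpf

end main

end Cfsg.Agent.Helper1
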