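import Mathlib
import Cfsg.Agent.Helper29.BG10G
import Cfsg.Agent.Helper54.BGUnique3
import Cfsg.Agent.Helper67.CyclicSub

/-!
# B-G Lemma 12.17 (statement S1424), modulo Theorem 10.1 and Proposition 12.4(a)

`q ∈ σ(M)`, `X ≠ 1` a `q`-subgroup of `M`, `M* ∈ ℳ(N_G(X))`, `M* ≠ M`, `T` a Sylow `q`-subgroup of
`M ∩ M*` containing `X`.  Then `M*` is not conjugate to `M`, `N_G(T) ≤ M` and `T` is a Sylow
`q`-subgroup of `M*`.

Also: for `q ∈ σ(M)` every noncyclic `q`-subgroup `P` of `M` has `N_G(P) ≤ M`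
(B-G Theorem 12.12(c)); this only needs 10.1 and 12.4(a).
-/

set_option autoImplicit false

namespace Cfsg.Agent.Helper1.BG12

open Cfsg Cfsg.Agent.Helper29.BG10

variable {G : Type*} [Group G] [Finite G]

/-- a relative Sylow subgroup is a maximal `q`-subgroup -/
theorem eq_of_isSylowIn_le {q : ℕ} [Fact q.Prime] {T Y N : Subgroup G} (hT : IsSylowIn q T N)
    (hTY : T ≤ Y) (hYN : Y ≤ N) (hY : IsPGroup q Y) : Y = T := by
  obtain ⟨a, -, ha⟩ :=
    Cfsg.Agent.Helper84.exists_conj_le_of_relIndex N T Y hT.1 hT.2.1 hT.2.2 hYN hY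
  have hle : Nat.card Y ≤ Nat.card T := by
    have h1 : cj a Y ≤ T := by
      intro x hx
      have := ha _ (mem_cj.1 hx)
      have e : a * (a⁻¹ * x * a) * a⁻¹ = x := by group
      rwa [e] at this
    have := Subgroup.card_le_of_le h1
    rwa [card_cj] at this
  exact (Subgroup.eq_of_le_of_card_ge hTY hle).symm

/-- the hypothesis form of B-G Proposition 12.4(a) for the prime `q` and the maximal subgroup `M` -/
def CentSq (q : ℕ) (M : Subgroup G) : Prop :=
  ∀ A : Subgroup G, A ≤ M → Cfsg.IsElementaryAbelian q A → Nat.card A = q ^ 2 →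
    Subgroup.centralizer (A : Set G) ≤ M

/-- **B-G Theorem 12.12(c)**: for `q ∈ σ(M)` a noncyclic `q`-subgroup of `M` has its normalizer
in `M`. -/
theorem normalizer_le_of_not_isCyclic (hG : Cfsg.IsMinSimpleOddOrder G) (hU : UniquenessThm G)
    {M : Subgroup G} (hM : IsCoatom M) {q : ℕ} [hqp : Fact q.Prime] (hq : q ∈ Cfsg.sigma M)
    (h124 : CentSq q M) {P : Subgroup G} (hPq : IsPGroup q P) (hPM : P ≤ M)
    (hPnc : ¬ IsCyclic P) : Subgroup.normalizer (P : Set G) ≤ M := by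
  have hq2 : q ≠ 2 := by
    intro h2
    have hdvd : q ∣ Nat.card G := hq.2.1.trans (Subgroup.card_subgroup_dvd_card M)
    rw [h2] at hdvd
    exact (Nat.not_even_iff_odd.2 hG.1) (even_iff_two_dvd.2 hdvd)
  have hP1 : P ≠ ⊥ := by
    intro h
    apply hPnc
    rw [h]
    infer_instance
  obtain ⟨V, hVP, -, hVc, hVe, hVcard, -⟩ :=
    Cfsg.Agent.Helper54.BGU.exists_normal_sq hq2 hPq hPnc
  have hVea : Cfsg.IsElementaryAbelian q V :=
    ⟨⟨⟨fun a b => Subtype.ext (hVc a a.2 b b.2)⟩⟩, hVe⟩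
  have hCV : Subgroup.centralizer (V : Set G) ≤ M := h124 V (hVP.trans hPM) hVea hVcard
  have hCP : Subgroup.centralizer (P : Set G) ≤ M :=
    (Subgroup.centralizer_le (show (V : Set G) ⊆ P from hVP)).trans hCV
  have h101 := (thm_10_1 hG hU M hM hq P hPq hP1 hPM).2
  rw [h101]
  exact sup_le inf_le_left hCP

/-- **B-G Lemma 12.17** in relative-Sylow form. -/
theorem lemma_12_17 (hG : Cfsg.IsMinSimpleOddOrder G) (hU : UniquenessThm G)
    {M : Subgroup G} (hM : IsCoatom M) {q : ℕ} [hqp : Fact q.Prime] (hq : q ∈ Cfsg.sigma M)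
    (h124 : CentSq q M) {X : Subgroup G} (hXq : IsPGroup q X) (hX1 : X ≠ ⊥) (hXM : X ≤ M)
    {Mstar : Subgroup G} (hne : Mstar ≠ M)
    (hNX : Subgroup.normalizer (X : Set G) ≤ Mstar)
    {T : Subgroup G} (hT : IsSylowIn q T (M ⊓ Mstar)) (hXT : X ≤ T) :
    (∀ g : G, Mstar ≠ cj g M) ∧ Subgroup.normalizer (T : Set G) ≤ M ∧
      ¬ q ∣ T.relIndex Mstar := by
  have hctx := sigmaCtx_of hG hU hM hq
  have hTM : T ≤ M := hT.1.trans inf_le_left
  have hTMs : T ≤ Mstar := hT.1.trans inf_le_right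
  have hXMs : X ≤ Mstar := Subgroup.le_normalizer.trans hNX
  -- (1) not conjugate
  have h1 : ∀ g : G, Mstar ≠ cj g M := by
    intro g hg
    have hXg : cj g⁻¹ X ≤ M := by
      rw [cj_le_iff, inv_inv, ← hg]; exact hXMs
    obtain ⟨m, hmM, c, hc, hgc⟩ := (thm_10_1 hG hU M hM hq X hXq hX1 hXM).1 g⁻¹ hXg
    have hg' : g = c⁻¹ * m⁻¹ := by
      have : g = (g⁻¹)⁻¹ := by simp
      rw [this, hgc]; group
    have hcj : cj g M = cj c⁻¹ M := by
      rw [hg', cj_mul, cj_eq_self_of_mem (M.inv_mem hmM)]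
    have hcMs : c⁻¹ ∈ Mstar :=
      hNX (Subgroup.centralizer_le_normalizer _ (Subgroup.inv_mem _ hc))
    rw [hg, hcj, mem_cj] at hcMs
    have hcM : c⁻¹ ∈ M := by
      have e : (c⁻¹)⁻¹ * c⁻¹ * c⁻¹ = c⁻¹ := by group
      rwa [e] at hcMs
    apply hne
    rw [hg, hcj, cj_eq_self_of_mem hcM]
  -- (2) the normalizer of T
  have h2 : Subgroup.normalizer (T : Set G) ≤ M := by
    by_cases hTc : IsCyclic T
    · -- X is characteristic in the cyclic group T
      have hNTX : Subgroup.normalizer (T : Set G) ≤ Subgroup.normalizer (X : Set G) := by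
        intro g hg
        have hgT : cj g T = T := cj_eq_of_mem_normalizer hg
        have hgX : cj g X ≤ T := by
          rw [← hgT]; exact cj_mono hXT
        have hXX : cj g X = X :=
          Cfsg.Agent.Helper67.eq_of_card_eq_of_le_cyclic T _ _ hgX hXT (card_cj g X)
        exact mem_normalizer_of_cj_eq hXX
      obtain ⟨Q, hTQ, hQ⟩ := exists_isSylowIn_ge hTM hT.2.1
      rcases eq_or_lt_of_le hTQ with hTQe | hTQlt
      · rw [hTQe]; exact hctx.sylNorm Q hQ
      · exfalso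
        have hlt := Cfsg.Agent.Helper31.bgt_lt_inf_normalizer_of_lt hQ.2.1 hTQlt
        have hYle : Q ⊓ Subgroup.normalizer (T : Set G) ≤ M ⊓ Mstar :=
          le_inf (inf_le_left.trans hQ.1) (inf_le_right.trans (hNTX.trans hNX))
        have := eq_of_isSylowIn_le hT hlt.le hYle (hQ.2.1.to_le inf_le_left)
        exact hlt.ne this.symm
    · exact normalizer_le_of_not_isCyclic hG hU hM hq h124 hT.2.1 hTM hTc
  refine ⟨h1, h2, ?_⟩
  -- (3) T is Sylow in M*
  intro hdvd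
  obtain ⟨Q, hTQ, hQ⟩ := exists_isSylowIn_ge hTMs hT.2.1
  rcases eq_or_lt_of_le hTQ with hTQe | hTQlt
  · rw [hTQe] at hdvd; exact hQ.2.2 hdvd
  · have hlt := Cfsg.Agent.Helper31.bgt_lt_inf_normalizer_of_lt hQ.2.1 hTQlt
    have hYle : Q ⊓ Subgroup.normalizer (T : Set G) ≤ M ⊓ Mstar :=
      le_inf (inf_le_right.trans h2) (inf_le_left.trans hQ.1)
    have := eq_of_isSylowIn_le hT hlt.le hYle (hQ.2.1.to_le inf_le_left)
    exact hlt.ne this.symm

end Cfsg.Agent.Helper1.BG12
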