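import Mathlib
import Cfsg.Agent.Helper1.BG1212B
import Cfsg.Agent.Helper54.BG1213W2bW
import Cfsg.Agent.Helper54.BG1213Frob
import Cfsg.Agent.Helper54.BG1213W2a
import Cfsg.Agent.Helper91.BGPFPlus
import Cfsg.Agent.Helper31.BGTrans
import Cfsg.Agent.S1409
import Cfsg.Agent.S1414
import Cfsg.Agent.S1416
import Cfsg.Agent.S1417

/-!
# Bender–Glauberman Theorem 12.12: the per-prime data when all Sylow `p`-subgroups
(`p ∈ τ₂(M)`) of `G` are abelian

Glue between the abstract theorem `PPCtx.concl` of `BG1212B` and the boxes S1403–S1420, the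
libraries of helper54 (W2a, W2b, FROB) and helper91 (PF+).
-/

set_option autoImplicit false

namespace Cfsg.Agent.Helper1.BG1212

open Cfsg

variable {G : Type*} [Group G]

/-! ### general lemmas -/

/-- a Sylow `p`-subgroup of a subgroup `E`, as a subgroup of `G` -/
theorem exists_sylow_in [Finite G] (E : Subgroup G) (p : ℕ) [Fact p.Prime] :
    ∃ S : Subgroup G, S ≤ E ∧ IsPGroup p S ∧
      ∀ Q : Subgroup G, S ≤ Q → Q ≤ E → IsPGroup p Q → Q ≤ S := by
  obtain ⟨P⟩ : Nonempty (Sylow p ↥E) := inferInstance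
  refine ⟨(P : Subgroup ↥E).map E.subtype, Subgroup.map_subtype_le _, P.isPGroup'.map _, ?_⟩
  intro Q hSQ hQE hQ
  have hQ' : IsPGroup p (Q.subgroupOf E) := hQ.comap_subtype
  have hle : (P : Subgroup ↥E) ≤ Q.subgroupOf E := by
    intro x hx
    rw [Subgroup.mem_subgroupOf]
    exact hSQ ⟨x, hx, rfl⟩
  have heq : Q.subgroupOf E = P := P.is_maximal' hQ' hle
  intro q hq
  exact ⟨⟨q, hQE hq⟩, by rw [← heq, SetLike.mem_coe, Subgroup.mem_subgroupOf]; exact hq, rfl⟩

/-- every `p`-element of `E` lies in a normal Sylow `p`-subgroup of `E` -/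
theorem mem_of_normal_sylow_in {E S : Subgroup G} {p : ℕ} [Fact p.Prime] (hSE : S ≤ E)
    (hSp : IsPGroup p S)
    (hSmax : ∀ Q : Subgroup G, S ≤ Q → Q ≤ E → IsPGroup p Q → Q ≤ S)
    (hES : E ≤ Subgroup.normalizer (S : Set G)) {x : G} (hxE : x ∈ E)
    (hx : ∃ k : ℕ, x ^ p ^ k = 1) : x ∈ S := by
  have hxp : IsPGroup p (Subgroup.zpowers x) := by
    obtain ⟨k, hk⟩ := hx
    rintro ⟨_, j, rfl⟩
    refine ⟨k, Subtype.ext ?_⟩
    simp only [Subgroup.coe_pow, Subgroup.coe_one]
    rw [← zpow_natCast, ← zpow_mul, mul_comm, zpow_mul, zpow_natCast, hk, one_zpow]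
  have hle : Subgroup.zpowers x ≤ Subgroup.normalizer (S : Set G) :=
    (Subgroup.zpowers_le).mpr (hES hxE)
  have hP : IsPGroup p (Subgroup.zpowers x ⊔ S : Subgroup G) :=
    IsPGroup.to_sup_of_normal_right' hxp hSp hle
  have := hSmax _ le_sup_right (sup_le ((Subgroup.zpowers_le).mpr hxE) hSE) hP
  exact this (Subgroup.mem_sup_left (Subgroup.mem_zpowers x))

/-- a `p`-subgroup is abelian when the Sylow `p`-subgroups are -/
theorem comm_of_isPGroup_of_sylow_comm [Finite G] {p : ℕ} [Fact p.Prime]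
    (hSyl : ∀ P : Sylow p G, IsMulCommutative (P : Subgroup G)) {S : Subgroup G}
    (hS : IsPGroup p S) : ∀ x ∈ S, ∀ y ∈ S, x * y = y * x := by
  obtain ⟨P, hP⟩ := hS.exists_le_sylow
  intro x hx y hy
  haveI := hSyl P
  exact setLike_mul_comm (hP hx) (hP hy)

/-- a `q`-element lies in every normal subgroup of index prime to `q` -/
theorem mem_of_not_dvd_index {H : Type*} [Group H] [Finite H] (N : Subgroup H) [N.Normal]
    {q : ℕ} (hq : q.Prime) (hN : ¬ q ∣ N.index) {x : H} (hx : ∃ k : ℕ, x ^ q ^ k = 1) :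
    x ∈ N := by
  obtain ⟨k, hk⟩ := hx
  rw [← QuotientGroup.eq_one_iff]
  have h1 : orderOf (x : H ⧸ N) ∣ q ^ k := by
    apply orderOf_dvd_of_pow_eq_one
    rw [← QuotientGroup.mk_pow, hk, QuotientGroup.mk_one]
  have h2 : orderOf (x : H ⧸ N) ∣ N.index := by
    rw [Subgroup.index_eq_card]
    exact orderOf_dvd_natCard _
  obtain ⟨j, -, hj⟩ := (Nat.dvd_prime_pow hq).1 h1
  rcases Nat.eq_zero_or_pos j with h0 | h0
  · rw [h0, pow_zero] at hj
    exact orderOf_eq_one_iff.1 hj
  · exfalso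
    apply hN
    rw [hj] at h2
    exact (dvd_pow_self q h0.ne').trans h2

/-- elements of two subgroups normalizing each other with trivial intersection commute -/
theorem commute_of_inf_eq_bot {X Y : Subgroup G} (hXY : X ⊓ Y = ⊥) {x y : G} (hx : x ∈ X)
    (hy : y ∈ Y) (hxY : x ∈ Subgroup.normalizer (Y : Set G))
    (hyX : y ∈ Subgroup.normalizer (X : Set G)) : x * y = y * x := by
  have h1 : x * y * x⁻¹ * y⁻¹ ∈ X := by
    have : y * x⁻¹ * y⁻¹ ∈ X :=
      Cfsg.Agent.Helper24.conj_mem_of_mem_normalizer hyX (X.inv_mem hx)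
    have e : x * y * x⁻¹ * y⁻¹ = x * (y * x⁻¹ * y⁻¹) := by group
    rw [e]; exact X.mul_mem hx this
  have h2 : x * y * x⁻¹ * y⁻¹ ∈ Y := by
    have : x * y * x⁻¹ ∈ Y := Cfsg.Agent.Helper24.conj_mem_of_mem_normalizer hxY hy
    exact Y.mul_mem this (Y.inv_mem hy)
  have h3 : x * y * x⁻¹ * y⁻¹ ∈ X ⊓ Y := Subgroup.mem_inf.2 ⟨h1, h2⟩
  rw [hXY, Subgroup.mem_bot] at h3
  calc x * y = (x * y * x⁻¹ * y⁻¹) * (y * x) := by group
    _ = y * x := by rw [h3, one_mul]

/-! ### the glue -/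

open Cfsg.Agent.Helper68.BG12 Cfsg.Agent.Helper29.BG10 in
/-- for `q ∈ τ₂(M)` with abelian Sylow `q`-subgroups, `E` has a normal Sylow `q`-subgroup -/
theorem exists_normal_sylow_of_tau2 [Finite G] (hG : Cfsg.IsMinSimpleOddOrder G)
    (M : Subgroup G) (hM : IsCoatom M) (E : Subgroup G)
    (hE : Cfsg.IsComplIn E (Cfsg.sigmaCore M) M) (q : ℕ) [Fact q.Prime] (hq : q ∈ Cfsg.tau2 M)
    (hSyl : ∀ P : Sylow q G, IsMulCommutative (P : Subgroup G)) :
    ∃ A S : Subgroup G, (A ≤ E ∧ Cfsg.IsElementaryAbelian q A ∧ Nat.card A = q ^ 2) ∧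
      S ≤ E ∧ IsPGroup q S ∧ E ≤ Subgroup.normalizer (S : Set G) ∧
      ∀ x ∈ E, (∃ k : ℕ, x ^ q ^ k = 1) → x ∈ S := by
  have hU : UniquenessThm G := fun K hK hK2 hK3 => Cfsg.Agent.S1403.result hG K hK hK2 hK3
  have hctx := eCtx_of hG hU hM hE
  obtain ⟨A, hA⟩ := Cfsg.Agent.Helper71.BGHall.exists_elementaryAbelian_sq_le_compl hctx
    hq.2.1 hq.2.2.1 hq.2.2.2
  obtain ⟨S, hSE, hSq, hSmax⟩ := exists_sylow_in E q
  have hES := Cfsg.Agent.Helper54.W2.sylow_normal_of_tau2 hG M hM E hE q hq hSyl A hA S hSE hSq hSmax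
  exact ⟨A, S, hA, hSE, hSq, hES, fun x hxE hx => mem_of_normal_sylow_in hSE hSq hSmax hES hxE hx⟩

open Cfsg.Agent.Helper68.BG12 Cfsg.Agent.Helper29.BG10 Cfsg.Agent.Helper91.BGPF in
/-- **The per-prime data** for a prime `p ∈ τ₂(M)`, when the Sylow subgroups of `G` for all primes
of `τ₂(M)` are abelian. -/
theorem perPrime_of_abelian [Finite G] (hG : Cfsg.IsMinSimpleOddOrder G)
    (M : Subgroup G) (hM : IsCoatom M) (E : Subgroup G)
    (hE : Cfsg.IsComplIn E (Cfsg.sigmaCore M) M)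
    (hh : ∀ e ∈ E, e ≠ 1 →
      (∀ p : ℕ, p.Prime → p ∣ orderOf e → p ∈ Cfsg.tau1 M ∪ Cfsg.tau3 M) →
      Cfsg.sigmaCore M ⊓ Subgroup.centralizer ({e} : Set G) = ⊥)
    (hab : ∀ (q : ℕ) [Fact q.Prime], q ∈ Cfsg.tau2 M →
      ∀ P : Sylow q G, IsMulCommutative (P : Subgroup G))
    (p : ℕ) (hp : p ∈ Cfsg.tau2 M) : PerPrime M E p := by
  classical
  haveI : Fact p.Prime := ⟨hp.1⟩
  haveI : IsSimpleGroup G := hG.2.1
  have hU : UniquenessThm G := fun K hK hK2 hK3 => Cfsg.Agent.S1403.result hG K hK hK2 hK3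
  have hctx := eCtx_of hG hU hM hE
  obtain ⟨A, S, hA, hSE, hSp, hES, hSmax⟩ :=
    exists_normal_sylow_of_tau2 hG M hM E hE p hp (hab p hp)
  have hScomm := comm_of_isPGroup_of_sylow_comm (hab p hp) hSp
  have hSpow : ∀ x ∈ S, ∃ k : ℕ, x ^ p ^ k = 1 := by
    intro x hx
    obtain ⟨k, hk⟩ := hSp ⟨x, hx⟩
    exact ⟨k, by simpa using congrArg Subtype.val hk⟩
  by_cases hMs1 : Cfsg.sigmaCore M = ⊥
  · obtain ⟨g, hgS, hgmax⟩ := exists_max_order hp.1 S hSpow
    refine ⟨S, S, hSE, hES, hScomm, hSpow, hSmax, le_rfl, hES, ⟨g, hgS, hgmax⟩, ?_⟩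
    intro x _ _ _
    rw [hMs1, bot_inf_eq]
  -- the boxes
  have hAM : A ≤ M ∧ Cfsg.IsElementaryAbelian p A ∧ Nat.card A = p ^ 2 :=
    ⟨hA.1.trans hE.1, hA.2.1, hA.2.2⟩
  obtain ⟨hnil, -, -, hMsA, -, hgood1⟩ := Cfsg.Agent.S1417.result hG M hM p hp A hAM
  obtain ⟨⟨hEN, hpts⟩, ⟨hCMN, hMNE, hNM⟩, hbad⟩ := Cfsg.Agent.S1418.result hG M hM E hE p hp A hA
  have hAp : IsPGroup p A := by
    intro a
    exact ⟨1, Subtype.ext (by simpa using hA.2.1.2 a a.2)⟩
  have hNab := Cfsg.Agent.Helper54.W2.commutator_mem_centralizer hG hA.2.1 hA.2.2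
    (fun x hx hxk => Cfsg.Agent.Helper54.W2.mem_centralizer_of_pElement (hab p hp) hAp hx hxk)
  have hMN : M ≤ Subgroup.normalizer ((Cfsg.sigmaCore M : Subgroup G) : Set G) := by
    apply le_normalizer_of_conj_mem
    intro m hm x hx
    exact conj_mem_sigmaCore hm hx
  have hcopE : (Nat.card E).Coprime (Nat.card (Cfsg.sigmaCore M)) :=
    Nat.coprime_of_dvd fun k hk hkm hkn =>
      hctx.not_sigma_of_dvd k hk hkm (hctx.sigma_of_dvd k hk hkn)
  have h08 : H1408 G := fun M hM p _ hp hr2 hr1 => Cfsg.Agent.S1408.result hG M hM p hp hr2 hr1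
  have h09 : H1409 G := fun M hM p _ hp X hX hNX => Cfsg.Agent.S1409.result hG M hM p hp X hX hNX
  have h14 : F1414 G := fun M hM => Cfsg.Agent.S1414.result hG M hM
  have h16 : F1416 G := fun M hM p _ A hA => Cfsg.Agent.S1416.result hG M hM p A hA
  have h17 : F1417 G := fun M hM p _ hp A hA => Cfsg.Agent.S1417.result hG M hM p hp A hA
  have h18 : F1418 G := fun M hM E hE p _ hp A hA => Cfsg.Agent.S1418.result hG M hM E hE p hp A hA
  have hctxP : PPCtx (Cfsg.sigmaCore M) E A S p (Cfsg.tau1 M) := by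
    refine
      { prime := hp.1
        AE := hA.1
        Aexp := hA.2.1.2
        Acard := hA.2.2
        SE := hSE
        ES := hES
        Scomm := hScomm
        Spow := hSpow
        Smax := hSmax
        omega := ?_
        EN := hEN
        CE := by rw [← hMNE]; exact hCMN
        Nab := hNab
        goodinv := ?_
        good1 := hgood1
        MsA := hMsA
        T1prime := fun r hr => hr.1
        pT1 := fun h => hp.2.2.2 h.2.2.2.2
        cent := ?_
        frob := ?_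
        pf := ?_ }
    · -- omega
      intro x hxE hxp
      by_cases hx1 : x = 1
      · rw [hx1]; exact A.one_mem
      apply hpts (Subgroup.zpowers x) (Subgroup.zpowers_le.2 hxE) _ (Subgroup.mem_zpowers x)
      rw [Nat.card_zpowers]
      rcases (Nat.dvd_prime hp.1).1 (orderOf_dvd_of_pow_eq_one hxp) with h | h
      · exact absurd (orderOf_eq_one_iff.1 h) hx1
      · exact h
    · -- goodinv
      intro X hXA hXcard hinv
      by_contra hne
      obtain ⟨-, huniq⟩ := hbad X hXA hXcard hne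
      have hX1 : X ≠ ⊥ := by
        intro e
        rw [e, Subgroup.card_bot] at hXcard
        exact hp.1.one_lt.ne hXcard
      have hXp : IsPGroup p X := IsPGroup.of_card (n := 1) (by rw [hXcard, pow_one])
      have hXtop : X ≠ ⊤ := isPGroup_ne_top hG hXp
      have hNtop := Cfsg.Agent.Helper31.bgt_normalizer_ne_top_of_simple hX1 hXtop
      obtain ⟨L, hL, hNL⟩ := (eq_top_or_exists_le_coatom _).resolve_left hNtop
      have hLM : L = M := huniq L hL ((Subgroup.centralizer_le_normalizer _).trans hNL)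
      exact hNM (hinv.trans (hLM ▸ hNL))
    · -- cent
      intro q hq hqp hq1 x hxE hxk
      by_cases hx1 : x = 1
      · rw [hx1]; exact Subgroup.one_mem _
      have hqE : q ∣ Nat.card E := by
        obtain ⟨k, hk⟩ := hxk
        have h1 : orderOf x ∣ q ^ k := orderOf_dvd_of_pow_eq_one hk
        obtain ⟨j, -, hj⟩ := (Nat.dvd_prime_pow hq).1 h1
        have hj0 : j ≠ 0 := by
          rintro rfl
          rw [pow_zero] at hj
          exact hx1 (orderOf_eq_one_iff.1 hj)
        have h2 : orderOf x ∣ Nat.card E := Cfsg.Agent.Helper24.orderOf_dvd_card_of_mem hxE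
        exact (dvd_pow_self q hj0).trans (hj ▸ h2)
      rcases mem_tau_of_dvd hctx hq hqE with h13 | h2
      · rcases h13 with h1 | h3
        · exact absurd h1 hq1
        · have hnd := hctx.not_dvd_index_commutator h3
          obtain ⟨k, hk⟩ := hxk
          have hx' : (⟨x, hxE⟩ : E) ∈ commutator ↥E :=
            mem_of_not_dvd_index _ hq hnd ⟨k, Subtype.ext (by simpa using hk)⟩
          have hx'' : x ∈ ⁅E, E⁆ := by
            rw [← Subgroup.map_subtype_commutator]
            exact ⟨⟨x, hxE⟩, hx', rfl⟩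
          have hle : ⁅E, E⁆ ≤ Subgroup.centralizer (A : Set G) := by
            rw [Subgroup.commutator_le]
            intro a ha b hb
            rw [commutatorElement_def]
            exact hNab a (hEN ha) b (hEN hb)
          exact hle hx''
      · have : Fact q.Prime := ⟨hq⟩
        obtain ⟨-, Sq, -, hSqE, hSqq, hESq, hSqmax⟩ :=
          exists_normal_sylow_of_tau2 hG M hM E hE q h2 (hab q h2)
        have hxSq := hSqmax x hxE hxk
        have hinf : Sq ⊓ A = ⊥ := by
          rw [eq_bot_iff]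
          intro y hy
          obtain ⟨hy1, hy2⟩ := Subgroup.mem_inf.1 hy
          rw [Subgroup.mem_bot]
          obtain ⟨i, hi⟩ := hSqq ⟨y, hy1⟩
          have hyq : y ^ q ^ i = 1 := by simpa using congrArg Subtype.val hi
          have hyp : y ^ p = 1 := hA.2.1.2 y hy2
          have h1 : orderOf y ∣ Nat.gcd (q ^ i) p :=
            Nat.dvd_gcd (orderOf_dvd_of_pow_eq_one hyq) (orderOf_dvd_of_pow_eq_one hyp)
          have h2 : Nat.gcd (q ^ i) p = 1 :=
            Nat.Coprime.pow_left _ ((Nat.coprime_primes hq hp.1).2 hqp)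
          rw [h2] at h1
          exact orderOf_eq_one_iff.1 (Nat.dvd_one.1 h1)
        rw [Subgroup.mem_centralizer_iff]
        intro a ha
        exact (commute_of_inf_eq_bot hinf hxSq ha (hEN hxE) (hESq (hA.1 ha))).symm
    · -- frob
      intro r hr y hyE hyr Y hYA hY1 hyY hfpf
      have hrp : r.Prime := hr.1
      have hy1 : y ≠ 1 := by
        rintro rfl
        rw [orderOf_one] at hyr
        exact hrp.one_lt.ne hyr
      have hfix : Cfsg.sigmaCore M ⊓ Subgroup.centralizer ({y} : Set G) = ⊥ := by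
        apply hh y hyE hy1
        intro q hq hqy
        rw [hyr] at hqy
        have : q = r := (Nat.prime_dvd_prime_iff_eq hq hrp).1 hqy
        subst this
        exact Or.inl hr
      apply Cfsg.Agent.Helper54.W2.frob_trick hG.1 hrp (by rw [← hyr]; exact pow_orderOf_eq_one y)
        hnil hMs1 ((hYA.trans hA.1).trans (hE.1.trans hMN)) (hMN (hE.1 hyE)) hyY ?_ hfpf ?_
      · exact Nat.Coprime.coprime_dvd_left (Subgroup.card_dvd_of_le (hYA.trans hA.1)) hcopE
      · intro u hu hyu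
        have : u ∈ Cfsg.sigmaCore M ⊓ Subgroup.centralizer ({y} : Set G) := by
          refine Subgroup.mem_inf.2 ⟨hu, ?_⟩
          rw [Subgroup.mem_centralizer_iff]
          intro w hw
          rw [Set.mem_singleton_iff] at hw
          subst hw
          exact hyu
        rw [hfix, Subgroup.mem_bot] at this
        exact this
    · -- pf
      intro r hr R hRE hRr z hzR hz1 hzC hRC
      have : Fact r.Prime := ⟨hr.1⟩
      exact exists_partial_fix_frozen hG hU h08 h09 h14 h16 h17 h18 hM hE hp (hab p hp) hA hr hRE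
        hRr hzR hz1 hzC hRC
  obtain ⟨Z, hZS, hEZ, hg, hgood⟩ := hctxP.concl
  exact ⟨S, Z, hSE, hES, hScomm, hSpow, hSmax, hZS, hEZ, hg, hgood⟩

end Cfsg.Agent.Helper1.BG1212
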