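import Cfsg.Prelude.Def_Solvable
import Mathlib.GroupTheory.Sylow

set_option autoImplicit false

namespace Cfsg.Agent.Helper1

open Pointwise

variable {G : Type*} [Group G]

theorem pCore_normal (p : ℕ) : (Cfsg.pCore p G).Normal :=
  Subgroup.sSup_normal _ (fun _ h => h.1)

theorem pCore_isPGroup (p : ℕ) [Fact p.Prime] : IsPGroup p (Cfsg.pCore p G) :=
  Sylow.sSup_of_normal _ (fun _ h => h.2) (fun _ h => h.1)

theorem le_pCore {p : ℕ} {N : Subgroup G} (hN : N.Normal) (hp : IsPGroup p N) :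
    N ≤ Cfsg.pCore p G :=
  le_sSup ⟨hN, hp⟩

theorem pCore_le_sylow {p : ℕ} [Fact p.Prime] (P : Sylow p G) : Cfsg.pCore p G ≤ P :=
  haveI := pCore_normal (G := G) p
  (pCore_isPGroup p).le_sylow_of_normal P

theorem iInf_sylow_normal (p : ℕ) : (⨅ P : Sylow p G, (P : Subgroup G)).Normal := by
  constructor
  intro x hx g
  rw [Subgroup.mem_iInf] at hx ⊢
  intro P
  have h1 := hx (g⁻¹ • P)
  rw [Sylow.smul_def, Sylow.pointwise_smul_def, Subgroup.mem_pointwise_smul_iff_inv_smul_mem] at h1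
  simpa [MulAut.smul_def, MulAut.conj_apply] using h1

theorem pCore_eq_iInf_sylow (p : ℕ) [Fact p.Prime] :
    Cfsg.pCore p G = ⨅ P : Sylow p G, (P : Subgroup G) := by
  apply le_antisymm
  · exact le_iInf fun P => pCore_le_sylow P
  · apply le_pCore (iInf_sylow_normal p)
    obtain ⟨P⟩ : Nonempty (Sylow p G) := inferInstance
    exact P.2.to_le (iInf_le _ P)

end Cfsg.Agent.Helper1
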