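import Mathlib

/-!
# Diagonal homomorphisms (Shapiro-type fixed points) (helper1)

A finite group `Ξ` acts on a group `𝔾` by automorphisms `θ`.  `F ≤ 𝔾` is a subgroup, `Ξ₁ ≤ Ξ` a subgroup
fixing `F` pointwise, and the translates of `F` under elements outside `Ξ₁` commute elementwise with
`F`.  Then `f ↦ ∏_{c ∈ Ξ/Ξ₁} θ_c f` is a homomorphism `F →* 𝔾` with `Ξ`-fixed values, and
`δ f = f * r` with `r` in the subgroup generated by the other translates.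
-/

set_option autoImplicit false

namespace Cfsg.Agent.Helper1.Diag

open Subgroup

variable {𝔾 : Type*} [Group 𝔾] {Ξ : Type*} [Group Ξ] [Finite Ξ]

/-- the set of elements of the translates of `F` by elements outside `Ξ₁` -/
def others (θ : Ξ →* MulAut 𝔾) (F : Subgroup 𝔾) (Ξ₁ : Subgroup Ξ) : Set 𝔾 :=
  {y : 𝔾 | ∃ x : Ξ, x ∉ Ξ₁ ∧ ∃ f' ∈ F, y = θ x f'}

omit [Finite Ξ] in
theorem closure_others_le_centralizer (θ : Ξ →* MulAut 𝔾) (F : Subgroup 𝔾) (Ξ₁ : Subgroup Ξ)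
    (h2 : ∀ x : Ξ, x ∉ Ξ₁ → ∀ f ∈ F, ∀ f' ∈ F, Commute f (θ x f')) :
    closure (others θ F Ξ₁) ≤ centralizer (F : Set 𝔾) := by
  rw [closure_le]
  rintro _ ⟨x, hx, f', hf', rfl⟩
  rw [SetLike.mem_coe, mem_centralizer_iff]
  intro f hf
  exact (h2 x hx f hf f' hf').eq

theorem exists_diag (θ : Ξ →* MulAut 𝔾) (F : Subgroup 𝔾) (Ξ₁ : Subgroup Ξ)
    (h1 : ∀ s ∈ Ξ₁, ∀ f ∈ F, θ s f = f)
    (h2 : ∀ x : Ξ, x ∉ Ξ₁ → ∀ f ∈ F, ∀ f' ∈ F, Commute f (θ x f')) :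
    ∃ δ : ↥F →* 𝔾, (∀ (x : Ξ) (f : ↥F), θ x (δ f) = δ f) ∧
      (∀ f : ↥F, ∃ r ∈ closure (others θ F Ξ₁), δ f = (f : 𝔾) * r) ∧
      (∀ f : ↥F, δ f ∈ closure {y : 𝔾 | ∃ x : Ξ, y = θ x (f : 𝔾)}) := by
  classical
  haveI : Fintype (Ξ ⧸ Ξ₁) := Fintype.ofFinite _
  let ϕ : Ξ ⧸ Ξ₁ → (↥F →* 𝔾) := fun c => (θ (Quotient.out c)).toMonoidHom.comp F.subtype
  have hϕ : ∀ (c : Ξ ⧸ Ξ₁) (f : ↥F), ϕ c f = θ (Quotient.out c) (f : 𝔾) := fun _ _ => rfl
  have hmk : ∀ c : Ξ ⧸ Ξ₁, (QuotientGroup.mk (Quotient.out c) : Ξ ⧸ Ξ₁) = c :=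
    fun c => QuotientGroup.out_eq' c
  have hout : ∀ c c' : Ξ ⧸ Ξ₁, c ≠ c' → (Quotient.out c)⁻¹ * Quotient.out c' ∉ Ξ₁ := by
    intro c c' hne hmem
    apply hne
    have := QuotientGroup.eq.2 hmem
    rwa [hmk, hmk] at this
  have hcomm : Pairwise fun c c' : Ξ ⧸ Ξ₁ => ∀ f f' : ↥F, Commute (ϕ c f) (ϕ c' f') := by
    intro c c' hne f f'
    have h3 := h2 _ (hout c c' hne) f f.2 f' f'.2
    have h4 := h3.map (θ (Quotient.out c)).toMonoidHom
    rw [hϕ, hϕ]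
    have h5 : (θ (Quotient.out c)) ((θ ((Quotient.out c)⁻¹ * Quotient.out c')) (f' : 𝔾)) =
        θ (Quotient.out c') (f' : 𝔾) := by
      rw [← MulAut.mul_apply, ← map_mul, mul_inv_cancel_left]
    simpa [h5] using h4
  let Φ := MonoidHom.noncommPiCoprod ϕ hcomm
  let δ : ↥F →* 𝔾 := Φ.comp (Pi.monoidHom fun _ => MonoidHom.id ↥F)
  have hδ : ∀ f : ↥F, δ f = Finset.univ.noncommProd (fun c => ϕ c f)
      (fun _ _ _ _ h => hcomm h _ _) := fun _ => rfl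
  refine ⟨δ, ?_, ?_, ?_⟩
  · intro x f
    let σ : Equiv.Perm (Ξ ⧸ Ξ₁) := MulAction.toPerm x
    have hσ : ∀ c, σ c = x • c := fun _ => rfl
    let P : ((Ξ ⧸ Ξ₁) → ↥F) →* ((Ξ ⧸ Ξ₁) → ↥F) :=
      Pi.monoidHom (fun c => Pi.evalMonoidHom (fun _ => ↥F) (σ.symm c))
    have hP : ∀ (c : Ξ ⧸ Ξ₁) (g : ↥F), P (Pi.mulSingle c g) = Pi.mulSingle (σ c) g := by
      intro c g
      funext c'
      show (Pi.mulSingle c g : (Ξ ⧸ Ξ₁) → ↥F) (σ.symm c') = (Pi.mulSingle (σ c) g : (Ξ ⧸ Ξ₁) → ↥F) c'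
      by_cases hc : c' = σ c
      · subst hc
        rw [Equiv.symm_apply_apply, Pi.mulSingle_eq_same, Pi.mulSingle_eq_same]
      · have hc2 : σ.symm c' ≠ c := by
          intro h
          apply hc
          rw [← h, Equiv.apply_symm_apply]
        rw [Pi.mulSingle_eq_of_ne hc2, Pi.mulSingle_eq_of_ne hc]
    have key : (θ x).toMonoidHom.comp Φ = Φ.comp P := by
      apply MonoidHom.pi_ext
      intro c g
      rw [MonoidHom.comp_apply, MonoidHom.comp_apply, hP]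
      show (θ x) (Φ (Pi.mulSingle c g)) = Φ (Pi.mulSingle (σ c) g)
      rw [MonoidHom.noncommPiCoprod_mulSingle, MonoidHom.noncommPiCoprod_mulSingle, hϕ, hϕ]
      have hs : (Quotient.out (σ c))⁻¹ * (x * Quotient.out c) ∈ Ξ₁ := by
        rw [← QuotientGroup.eq, hmk, hσ]
        conv_lhs => rw [← hmk c]
        rfl
      have h6 : x * Quotient.out c = Quotient.out (σ c) *
          ((Quotient.out (σ c))⁻¹ * (x * Quotient.out c)) := by group
      rw [← MulAut.mul_apply, ← map_mul, h6, map_mul, MulAut.mul_apply, h1 _ hs _ g.2]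
    have h7 := DFunLike.congr_fun key (fun _ => f)
    rw [MonoidHom.comp_apply, MonoidHom.comp_apply] at h7
    have h8 : P (fun _ => f) = fun _ => f := by
      funext c'
      rfl
    rw [h8] at h7
    exact h7
  · intro f
    set c₀ : Ξ ⧸ Ξ₁ := QuotientGroup.mk 1 with hc₀
    have hc₀out : Quotient.out c₀ ∈ Ξ₁ := by
      have h9 : (QuotientGroup.mk (Quotient.out c₀) : Ξ ⧸ Ξ₁) = QuotientGroup.mk 1 := hmk c₀
      have := QuotientGroup.eq.1 h9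
      simpa using Ξ₁.inv_mem this
    have hsplit := Finset.mul_noncommProd_erase Finset.univ (Finset.mem_univ c₀)
      (fun c => ϕ c f) (fun _ _ _ _ h => hcomm h _ _)
    refine ⟨(Finset.univ.erase c₀).noncommProd (fun c => ϕ c f)
      (fun _ _ _ _ h => hcomm h _ _), ?_, ?_⟩
    · apply Subgroup.noncommProd_mem
      intro c hc
      apply Subgroup.subset_closure
      refine ⟨Quotient.out c, ?_, f, f.2, rfl⟩
      intro hmem
      apply (Finset.mem_erase.1 hc).1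
      rw [← hmk c, hc₀, QuotientGroup.eq]
      simpa using hmem
    · rw [hδ, ← hsplit, hϕ, h1 _ hc₀out _ f.2]
  · intro f
    rw [hδ]
    apply Subgroup.noncommProd_mem
    intro c _
    apply Subgroup.subset_closure
    exact ⟨Quotient.out c, rfl⟩

end Cfsg.Agent.Helper1.Diag
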