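import Mathlib
import Cfsg.Prelude.Def_PLocal
import Cfsg.Agent.Helper1.AutInv
import Cfsg.Agent.Helper11.OffenderDecomp
import Cfsg.Agent.S0616
import Cfsg.Agent.S0617

/-!
# The structure theorem for failure of factorization, repackaged (helper1)

Consequences of `S0616` and `S0617` in a convenient form: for the minimal nontrivially acting best
offenders `A` of a faithful pair `(V, H)`, the subgroups `E_A = [O_{p'}(H), A] A` are normal in `H`,
pairwise equal or commuting, `E_{A'}` centralizes `[V, E_A]` when different, and they are independent.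
-/

set_option autoImplicit false

namespace Cfsg.Agent.Helper1.FF

open Subgroup Cfsg.Agent.Helper1.AutInv

variable {G : Type*} [Group G]

theorem map_conj_eq_of_mem_normalizer {A : Subgroup G} {g : G} (hg : g ∈ normalizer (A : Set G)) :
    A.map (MulAut.conj g).toMonoidHom = A := by
  ext x
  constructor
  · rintro ⟨a, ha, rfl⟩
    exact (mem_normalizer_iff.1 hg a).1 ha
  · intro hx
    refine ⟨g⁻¹ * x * g, ?_, by simp [mul_assoc]⟩
    have := (mem_normalizer_iff.1 (inv_mem hg) x).1 hx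
    simpa using this

theorem mem_normalizer_of_map_conj_eq {A : Subgroup G} {g : G}
    (h : A.map (MulAut.conj g).toMonoidHom = A) : g ∈ normalizer (A : Set G) := by
  rw [mem_normalizer_iff]
  intro x
  constructor
  · intro hx
    rw [← h]
    exact ⟨x, hx, rfl⟩
  · intro hx
    rw [← h] at hx
    obtain ⟨a, ha, h2⟩ := hx
    have : a = x := by
      have h3 : g * a * g⁻¹ = g * x * g⁻¹ := h2
      have h4 := congrArg (fun y => g⁻¹ * y * g) h3
      simpa [mul_assoc] using h4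
    rw [← this]; exact ha

/-- the hypotheses of KS 9.3.7 -/
structure FFHyp (p : ℕ) (V H : Subgroup G) : Prop where
  hV : Cfsg.IsElementaryAbelian p V
  hHV : H ≤ normalizer (V : Set G)
  hf : H ⊓ centralizer (V : Set G) = ⊥
  hS1 : centralizer (Cfsg.pPrimeCore p ↥H : Set ↥H) ≤ Cfsg.pPrimeCore p ↥H
  hS3 : H = ⨆ A : {A : Subgroup G // A ≤ H ∧ Cfsg.IsBestOffenderOn p V A}, (A : Subgroup G)
  hH1 : H ≠ ⊥

/-- the index type of the structure theorem -/
abbrev Idx (p : ℕ) (V H : Subgroup G) : Type _ :=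
  {E : Subgroup G // ∃ A : Subgroup G, A ≤ H ∧ Cfsg.IsBestOffenderOn p V A ∧ ⁅V, A⁆ ≠ ⊥ ∧
    (∀ B : Subgroup G, B ≤ A → Cfsg.IsBestOffenderOn p V B → ⁅V, B⁆ ≠ ⊥ → B = A) ∧
    E = ⁅((Cfsg.pPrimeCore p ↥H).map H.subtype), A⁆ ⊔ A}

variable [Finite G] {p : ℕ} [Fact p.Prime] {V H : Subgroup G}

/-- the index attached to a minimal offender -/
def idx {A : Subgroup G} (hA : IsMinOff p V H A) : Idx p V H :=
  ⟨EE p H A, A, hA.1, hA.2.1, hA.2.2.1, hA.2.2.2, rfl⟩

omit [Finite G] [Fact p.Prime] in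
theorem coe_idx {A : Subgroup G} (hA : IsMinOff p V H A) : ((idx hA : Idx p V H) : Subgroup G) = EE p H A :=
  rfl

omit [Finite G] [Fact p.Prime] in
theorem exists_minOff_of_idx (i : Idx p V H) : ∃ A, IsMinOff p V H A ∧ (i : Subgroup G) = EE p H A := by
  obtain ⟨E, A, h1, h2, h3, h4, h5⟩ := i
  exact ⟨A, ⟨h1, h2, h3, h4⟩, h5⟩

namespace FFHyp

variable (hyp : FFHyp p V H)
include hyp

omit [Finite G] [Fact p.Prime] in
theorem V_inf_H : V ⊓ H = ⊥ := by
  rw [eq_bot_iff, ← hyp.hf]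
  refine le_inf inf_le_right (inf_le_left.trans ?_)
  intro v hv
  rw [mem_centralizer_iff]
  intro w hw
  exact (Cfsg.Agent.Helper10.isElementaryAbelian_iff.1 hyp.hV).1 w hw v hv

theorem s616 {A : Subgroup G} (hA : IsMinOff p V H A) :
    (p = 2 ∨ p = 3) ∧ Nonempty (↥(EE p H A) ≃* Matrix.SpecialLinearGroup (Fin 2) (ZMod p)) ∧
    Nat.card ↥(⁅V, EE p H A⁆) = p ^ 2 ∧
    ⁅V, EE p H A⁆ ⊓ (V ⊓ centralizer ((EE p H A : Subgroup G) : Set G)) = ⊥ ∧
    ⁅V, EE p H A⁆ ⊔ (V ⊓ centralizer ((EE p H A : Subgroup G) : Set G)) = V ∧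
    ⁅EE p H A, H ⊓ centralizer ((⁅V, EE p H A⁆ : Subgroup G) : Set G)⁆ = ⊥ ∧
    (EE p H A) ⊓ (H ⊓ centralizer ((⁅V, EE p H A⁆ : Subgroup G) : Set G)) = ⊥ ∧
    (EE p H A) ⊔ (H ⊓ centralizer ((⁅V, EE p H A⁆ : Subgroup G) : Set G)) = H ∧
    ⁅V, H ⊓ centralizer ((⁅V, EE p H A⁆ : Subgroup G) : Set G)⁆ ≤
      V ⊓ centralizer ((EE p H A : Subgroup G) : Set G) :=
  Cfsg.Agent.S0616.result V H hyp.hV hyp.hHV hyp.hf hyp.hS1 hyp.hS3 hyp.hH1 A hA.1 hA.2.1 hA.2.2.1
    hA.2.2.2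

theorem p23 : p = 2 ∨ p = 3 :=
  (Cfsg.Agent.S0617.result V H hyp.hV hyp.hHV hyp.hf hyp.hS1 hyp.hS3 hyp.hH1).1

theorem EE_le {A : Subgroup G} (hA : IsMinOff p V H A) : EE p H A ≤ H := by
  have := (hyp.s616 hA).2.2.2.2.2.2.2.1
  exact le_sup_left.trans (le_of_eq this)

theorem commute_EE_D {A : Subgroup G} (hA : IsMinOff p V H A) :
    ∀ e ∈ EE p H A, ∀ c ∈ H ⊓ centralizer ((⁅V, EE p H A⁆ : Subgroup G) : Set G), e * c = c * e := by
  have h := (hyp.s616 hA).2.2.2.2.2.1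
  rw [Subgroup.commutator_eq_bot_iff_le_centralizer] at h
  intro e he c hc
  exact (mem_centralizer_iff.1 (h he) c hc).symm

theorem H_le_normalizer_EE {A : Subgroup G} (hA : IsMinOff p V H A) :
    H ≤ normalizer ((EE p H A : Subgroup G) : Set G) := by
  have hsup := (hyp.s616 hA).2.2.2.2.2.2.2.1
  have hcomm := (hyp.s616 hA).2.2.2.2.2.1
  conv_lhs => rw [← hsup]
  apply sup_le Subgroup.le_normalizer
  rw [Subgroup.commutator_eq_bot_iff_le_centralizer, Subgroup.le_centralizer_iff] at hcomm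
  exact hcomm.trans (Subgroup.centralizer_le_normalizer _)

theorem exists_decomp {A : Subgroup G} (hA : IsMinOff p V H A) {h : G} (hh : h ∈ H) :
    ∃ e ∈ EE p H A, ∃ c ∈ H ⊓ centralizer ((⁅V, EE p H A⁆ : Subgroup G) : Set G), h = e * c := by
  have hsup := (hyp.s616 hA).2.2.2.2.2.2.2.1
  have hh' : h ∈ EE p H A ⊔ (H ⊓ centralizer ((⁅V, EE p H A⁆ : Subgroup G) : Set G)) := by
    rw [hsup]; exact hh
  exact Cfsg.Agent.Helper11.exists_mul_of_mem_sup_of_commute (hyp.commute_EE_D hA) hh'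

theorem EE_inf_centralizer_UU {A : Subgroup G} (hA : IsMinOff p V H A) :
    EE p H A ⊓ centralizer ((⁅V, EE p H A⁆ : Subgroup G) : Set G) = ⊥ := by
  have h := (hyp.s616 hA).2.2.2.2.2.2.1
  rw [eq_bot_iff, ← h]
  exact le_inf inf_le_left (le_inf (inf_le_left.trans (hyp.EE_le hA)) inf_le_right)

theorem UU_le {A : Subgroup G} (hA : IsMinOff p V H A) : ⁅V, EE p H A⁆ ≤ V := by
  rw [Subgroup.commutator_le]
  intro v hv e he
  have hn := hyp.hHV (hyp.EE_le hA he)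
  rw [commutatorElement_def]
  have h1 : e * v⁻¹ * e⁻¹ ∈ V := (mem_normalizer_iff.1 hn _).1 (V.inv_mem hv)
  have : v * e * v⁻¹ * e⁻¹ = v * (e * v⁻¹ * e⁻¹) := by group
  rw [this]
  exact V.mul_mem hv h1

theorem H_le_normalizer_UU {A : Subgroup G} (hA : IsMinOff p V H A) :
    H ≤ normalizer ((⁅V, EE p H A⁆ : Subgroup G) : Set G) := by
  intro h hh
  apply mem_normalizer_of_map_conj_eq
  rw [Subgroup.map_commutator, map_conj_eq_of_mem_normalizer (hyp.hHV hh),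
    map_conj_eq_of_mem_normalizer (hyp.H_le_normalizer_EE hA hh)]

theorem iSup_idx : (⨆ i : Idx p V H, (i : Subgroup G)) = H :=
  (Cfsg.Agent.S0617.result V H hyp.hV hyp.hHV hyp.hf hyp.hS1 hyp.hS3 hyp.hH1).2.2.2.1

theorem indep_E : iSupIndep (fun i : Idx p V H => (i : Subgroup G)) :=
  (Cfsg.Agent.S0617.result V H hyp.hV hyp.hHV hyp.hf hyp.hS1 hyp.hS3 hyp.hH1).2.2.1

theorem indep_U : iSupIndep (fun o : Option (Idx p V H) =>
    o.elim (V ⊓ centralizer (H : Set G)) (fun E => ⁅V, (E : Subgroup G)⁆)) :=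
  (Cfsg.Agent.S0617.result V H hyp.hV hyp.hHV hyp.hf hyp.hS1 hyp.hS3 hyp.hH1).2.2.2.2.1

theorem disjoint_EE_of_ne {A A' : Subgroup G} (hA : IsMinOff p V H A) (hA' : IsMinOff p V H A')
    (hne : EE p H A ≠ EE p H A') : Disjoint (EE p H A) (EE p H A') := by
  have hne' : idx hA ≠ idx hA' := fun h => hne (congrArg Subtype.val h)
  exact hyp.indep_E.pairwiseDisjoint hne'

theorem commute_EE_of_ne {A A' : Subgroup G} (hA : IsMinOff p V H A) (hA' : IsMinOff p V H A')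
    (hne : EE p H A ≠ EE p H A') : ∀ e ∈ EE p H A, ∀ e' ∈ EE p H A', Commute e e' := by
  intro e he e' he'
  have hd := hyp.disjoint_EE_of_ne hA hA' hne
  have h1 : e * e' * e⁻¹ * e'⁻¹ ∈ EE p H A := by
    have hn := hyp.H_le_normalizer_EE hA (hyp.EE_le hA' he')
    have : e' * e⁻¹ * e'⁻¹ ∈ EE p H A := (mem_normalizer_iff.1 hn _).1 (inv_mem he)
    have h2 : e * e' * e⁻¹ * e'⁻¹ = e * (e' * e⁻¹ * e'⁻¹) := by group
    rw [h2]
    exact mul_mem he this
  have h2 : e * e' * e⁻¹ * e'⁻¹ ∈ EE p H A' := by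
    have hn := hyp.H_le_normalizer_EE hA' (hyp.EE_le hA he)
    have : e * e' * e⁻¹ ∈ EE p H A' := (mem_normalizer_iff.1 hn _).1 he'
    exact mul_mem this (inv_mem he')
  have h3 := (Subgroup.disjoint_def.1 hd) h1 h2
  show e * e' = e' * e
  have h4 := congrArg (fun y => y * e' * e) h3
  simpa [mul_assoc] using h4

theorem EE_le_centralizer_UU_of_ne {A A' : Subgroup G} (hA : IsMinOff p V H A)
    (hA' : IsMinOff p V H A') (hne : EE p H A ≠ EE p H A') :
    EE p H A' ≤ centralizer ((⁅V, EE p H A⁆ : Subgroup G) : Set G) := by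
  have hne' : (some (idx hA) : Option (Idx p V H)) ≠ some (idx hA') :=
    fun h => hne (congrArg Subtype.val (Option.some.inj h))
  have hd : Disjoint (⁅V, EE p H A⁆) (⁅V, EE p H A'⁆) := hyp.indep_U.pairwiseDisjoint hne'
  intro e' he'
  rw [mem_centralizer_iff]
  intro u hu
  have h1 : u * e' * u⁻¹ * e'⁻¹ ∈ ⁅V, EE p H A⁆ := by
    have hn := hyp.H_le_normalizer_UU hA (hyp.EE_le hA' he')
    have : e' * u⁻¹ * e'⁻¹ ∈ ⁅V, EE p H A⁆ := (mem_normalizer_iff.1 hn _).1 (inv_mem hu)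
    have h2 : u * e' * u⁻¹ * e'⁻¹ = u * (e' * u⁻¹ * e'⁻¹) := by group
    rw [h2]
    exact mul_mem hu this
  have h2 : u * e' * u⁻¹ * e'⁻¹ ∈ ⁅V, EE p H A'⁆ :=
    Subgroup.commutator_mem_commutator (hyp.UU_le hA hu) he'
  have h3 := (Subgroup.disjoint_def.1 hd) h1 h2
  have h4 := congrArg (fun y => y * e' * u) h3
  simpa [mul_assoc] using h4

end FFHyp

end Cfsg.Agent.Helper1.FF
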