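import Mathlib
import Cfsg.Prelude.Def_PLocal
import Cfsg.Agent.Helper1.FFStruct
import Cfsg.Agent.Helper1.DiagHom
import Cfsg.Agent.Helper62.S3Free

/-!
# A coprime `q`-group acting on the structure of KS 9.3.7 (helper1)

`𝕏` is a `q`-subgroup normalizing `V` and `H`, with `q ∤ |H|`.  Then `𝕏` permutes the subgroups
`E_A`, the stabilizer of `E_A` centralizes `E_A` and `[V, E_A]`, and the diagonal homomorphism on
`F_A = [V, E_A] E_A` has `𝕏`-fixed values.
-/

set_option autoImplicit false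

namespace Cfsg.Agent.Helper1.FF

open Subgroup Cfsg.Agent.Helper1.AutInv

theorem card_SL2_two : Nat.card (Matrix.SpecialLinearGroup (Fin 2) (ZMod 2)) = 6 := by
  rw [Nat.card_eq_fintype_card]; decide

theorem card_SL2_three : Nat.card (Matrix.SpecialLinearGroup (Fin 2) (ZMod 3)) = 24 := by
  rw [Nat.card_eq_fintype_card]; decide

variable {G : Type*} [Group G]

theorem le_centralizer_sup_iff {A B C : Subgroup G} :
    A ≤ centralizer ((B ⊔ C : Subgroup G) : Set G) ↔
      A ≤ centralizer (B : Set G) ∧ A ≤ centralizer (C : Set G) := by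
  rw [le_centralizer_iff, sup_le_iff, ← le_centralizer_iff, ← le_centralizer_iff (H := A)]

variable [Finite G] {p : ℕ} [Fact p.Prime] {V H : Subgroup G}

namespace FFHyp

variable (hyp : FFHyp p V H)
include hyp

theorem card_EE {A : Subgroup G} (hA : IsMinOff p V H A) :
    Nat.card (EE p H A) = 6 ∨ Nat.card (EE p H A) = 24 := by
  obtain ⟨e⟩ := (hyp.s616 hA).2.1
  rcases hyp.p23 with h2 | h3
  · left
    subst h2
    rw [Nat.card_congr e.toEquiv, card_SL2_two]
  · right
    subst h3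
    rw [Nat.card_congr e.toEquiv, card_SL2_three]

theorem exists_minOff : ∃ A : Subgroup G, IsMinOff p V H A := by
  have h1 : Nonempty (Idx p V H) := by
    by_contra hcon
    rw [not_nonempty_iff] at hcon
    apply hyp.hH1
    rw [← hyp.iSup_idx]
    exact iSup_of_empty _
  obtain ⟨i⟩ := h1
  obtain ⟨A, hA, -⟩ := exists_minOff_of_idx i
  exact ⟨A, hA⟩

/-- a prime not dividing `|H|` is at least 5 -/
theorem q_ne {q : ℕ} (hq : ¬ q ∣ Nat.card H) : q ≠ 2 ∧ q ≠ 3 := by
  obtain ⟨A, hA⟩ := hyp.exists_minOff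
  have h1 : Nat.card (EE p H A) ∣ Nat.card H := Subgroup.card_dvd_of_le (hyp.EE_le hA)
  constructor
  · rintro rfl
    apply hq
    rcases hyp.card_EE hA with h | h <;> rw [h] at h1 <;> exact dvd_trans (by norm_num) h1
  · rintro rfl
    apply hq
    rcases hyp.card_EE hA with h | h <;> rw [h] at h1 <;> exact dvd_trans (by norm_num) h1

theorem minOff_conj {A : Subgroup G} (hA : IsMinOff p V H A) {x : G}
    (hxV : x ∈ normalizer (V : Set G)) (hxH : x ∈ normalizer (H : Set G)) :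
    IsMinOff p V H (A.map (MulAut.conj x).toMonoidHom) :=
  isMinOff_map (MulAut.conj x) (map_conj_eq_of_mem_normalizer hxV)
    (map_conj_eq_of_mem_normalizer hxH) hA

omit hyp in
theorem EE_conj (A : Subgroup G) {x : G} (hxH : x ∈ normalizer (H : Set G)) :
    (EE p H A).map (MulAut.conj x).toMonoidHom = EE p H (A.map (MulAut.conj x).toMonoidHom) :=
  EE_map (MulAut.conj x) (map_conj_eq_of_mem_normalizer hxH) A

omit hyp in
theorem UU_conj (A : Subgroup G) {x : G} (hxV : x ∈ normalizer (V : Set G))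
    (hxH : x ∈ normalizer (H : Set G)) :
    (⁅V, EE p H A⁆).map (MulAut.conj x).toMonoidHom =
      ⁅V, EE p H (A.map (MulAut.conj x).toMonoidHom)⁆ := by
  rw [Subgroup.map_commutator, map_conj_eq_of_mem_normalizer hxV, EE_conj A hxH]

variable (𝕏 : Subgroup G) {q : ℕ} [Fact q.Prime] (hXV : 𝕏 ≤ normalizer (V : Set G))
  (hXH : 𝕏 ≤ normalizer (H : Set G)) (hXq : IsPGroup q 𝕏) (hq : ¬ q ∣ Nat.card H)
include hXV hXH hXq hq

/-- the stabilizer of `E_A` in `𝕏` centralizes `[V, E_A]` -/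
theorem stab_le_centralizer_UU {A : Subgroup G} (hA : IsMinOff p V H A) :
    𝕏 ⊓ normalizer ((EE p H A : Subgroup G) : Set G) ≤
      centralizer ((⁅V, EE p H A⁆ : Subgroup G) : Set G) := by
  have hp : p.Prime := Fact.out
  have hqp : q.Prime := Fact.out
  obtain ⟨hq2, hq3⟩ := hyp.q_ne hq
  set 𝕏₁ := 𝕏 ⊓ normalizer ((EE p H A : Subgroup G) : Set G) with h𝕏₁
  set U := ⁅V, EE p H A⁆ with hU
  have hnorm : 𝕏₁ ≤ normalizer (U : Set G) := by
    intro s hs
    apply mem_normalizer_of_map_conj_eq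
    rw [hU, Subgroup.map_commutator, map_conj_eq_of_mem_normalizer (hXV (mem_inf.1 hs).1),
      map_conj_eq_of_mem_normalizer (mem_inf.1 hs).2]
  have hmod := Cfsg.Agent.Helper62.card_modEq_card_inf_centralizer 𝕏₁ U (hXq.to_le inf_le_left) hnorm
  have hcardU : Nat.card U = p ^ 2 := (hyp.s616 hA).2.2.1
  have hdvd : Nat.card ↥(U ⊓ centralizer (𝕏₁ : Set G)) ∣ p ^ 2 := by
    rw [← hcardU]; exact Subgroup.card_dvd_of_le inf_le_left
  obtain ⟨k, hk, hkc⟩ := (Nat.dvd_prime_pow hp).1 hdvd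
  rw [hcardU, hkc] at hmod
  have hk2 : k = 2 := by
    by_contra hne
    have hlt : k < 2 := lt_of_le_of_ne hk hne
    have hle : p ^ k ≤ p ^ 2 := Nat.pow_le_pow_right hp.pos hk
    have hd : q ∣ p ^ 2 - p ^ k := (Nat.modEq_iff_dvd' hle).1 hmod.symm
    rcases hyp.p23 with h2 | h3
    · subst h2
      interval_cases k
      · have : q ∣ 3 := by simpa using hd
        exact hq3 ((Nat.prime_dvd_prime_iff_eq hqp Nat.prime_three).1 this)
      · have : q ∣ 2 := by simpa using hd
        exact hq2 ((Nat.prime_dvd_prime_iff_eq hqp Nat.prime_two).1 this)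
    · subst h3
      interval_cases k
      · have h8 : q ∣ 2 ^ 3 := by
          have : q ∣ 8 := by simpa using hd
          simpa using this
        have := hqp.dvd_of_dvd_pow h8
        exact hq2 ((Nat.prime_dvd_prime_iff_eq hqp Nat.prime_two).1 this)
      · have h6 : q ∣ 2 * 3 := by
          have : q ∣ 6 := by simpa using hd
          simpa using this
        rcases (Nat.Prime.dvd_mul hqp).1 h6 with h | h
        · exact hq2 ((Nat.prime_dvd_prime_iff_eq hqp Nat.prime_two).1 h)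
        · exact hq3 ((Nat.prime_dvd_prime_iff_eq hqp Nat.prime_three).1 h)
  subst hk2
  have heq : U ⊓ centralizer (𝕏₁ : Set G) = U :=
    Subgroup.eq_of_le_of_card_ge inf_le_left (by rw [hkc, hcardU])
  rw [le_centralizer_iff, ← heq]
  exact inf_le_right

/-- the stabilizer of `E_A` in `𝕏` centralizes `E_A` -/
theorem stab_le_centralizer_EE {A : Subgroup G} (hA : IsMinOff p V H A) :
    𝕏 ⊓ normalizer ((EE p H A : Subgroup G) : Set G) ≤
      centralizer ((EE p H A : Subgroup G) : Set G) := by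
  intro s hs
  have hsU := hyp.stab_le_centralizer_UU 𝕏 hXV hXH hXq hq hA hs
  have hsN := (mem_inf.1 hs).2
  rw [mem_centralizer_iff]
  intro e he
  have h1 : s * e * s⁻¹ * e⁻¹ ∈ EE p H A :=
    mul_mem ((mem_normalizer_iff.1 hsN e).1 he) (inv_mem he)
  have h2 : s * e * s⁻¹ * e⁻¹ ∈ centralizer ((⁅V, EE p H A⁆ : Subgroup G) : Set G) := by
    have heN : e ∈ normalizer ((⁅V, EE p H A⁆ : Subgroup G) : Set G) :=
      hyp.H_le_normalizer_UU hA (hyp.EE_le hA he)
    rw [mem_centralizer_iff]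
    intro u hu
    have hu1 : e⁻¹ * u * e ∈ ⁅V, EE p H A⁆ := by
      have := (mem_normalizer_iff.1 (inv_mem heN) u).1 hu
      simpa using this
    have hc1 := mem_centralizer_iff.1 hsU _ hu1
    have hc2 := mem_centralizer_iff.1 hsU _ hu
    -- s commutes with u and with e⁻¹ u e
    have hc1' : s⁻¹ * (e⁻¹ * u * e) = (e⁻¹ * u * e) * s⁻¹ := by
      have := congrArg (fun y => s⁻¹ * y * s⁻¹) hc1
      simpa [mul_assoc] using this
    calc u * (s * e * s⁻¹ * e⁻¹) = (u * s) * e * s⁻¹ * e⁻¹ := by group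
      _ = (s * u) * e * s⁻¹ * e⁻¹ := by rw [hc2]
      _ = s * e * ((e⁻¹ * u * e) * s⁻¹) * e⁻¹ := by group
      _ = s * e * (s⁻¹ * (e⁻¹ * u * e)) * e⁻¹ := by rw [hc1']
      _ = s * e * s⁻¹ * e⁻¹ * u := by group
  have h3 : s * e * s⁻¹ * e⁻¹ ∈ EE p H A ⊓ centralizer ((⁅V, EE p H A⁆ : Subgroup G) : Set G) :=
    mem_inf.2 ⟨h1, h2⟩
  rw [hyp.EE_inf_centralizer_UU hA, mem_bot] at h3
  have h4 := congrArg (fun y => y * e * s) h3
  simpa [mul_assoc] using h4.symm

end FFHyp

end Cfsg.Agent.Helper1.FF
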