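import Mathlib
import Cfsg.Prelude.Def_PLocal
import Cfsg.Agent.Helper1.FFOrbit

/-!
# The diagonal copy of `[V, E_A] E_A` in the fixed points of `𝕏` (helper1)
-/

set_option autoImplicit false

namespace Cfsg.Agent.Helper1.FF

open Subgroup Cfsg.Agent.Helper1.AutInv

variable {G : Type*} [Group G]

/-- `F_A = [V, E_A] E_A` -/
def FA (p : ℕ) (V H A : Subgroup G) : Subgroup G := ⁅V, EE p H A⁆ ⊔ EE p H A

variable [Finite G] {p : ℕ} [Fact p.Prime] {V H : Subgroup G}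

namespace FFHyp

variable (hyp : FFHyp p V H)
include hyp

theorem UU_comm {A A' : Subgroup G} (hA : IsMinOff p V H A) (hA' : IsMinOff p V H A') :
    ⁅V, EE p H A'⁆ ≤ centralizer ((⁅V, EE p H A⁆ : Subgroup G) : Set G) := by
  intro u' hu'
  rw [mem_centralizer_iff]
  intro u hu
  exact (Cfsg.Agent.Helper10.isElementaryAbelian_iff.1 hyp.hV).1 u (hyp.UU_le hA hu) u'
    (hyp.UU_le hA' hu')

theorem exists_mul_of_mem_FA {A : Subgroup G} (hA : IsMinOff p V H A) {g : G}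
    (hg : g ∈ FA p V H A) : ∃ u ∈ ⁅V, EE p H A⁆, ∃ e ∈ EE p H A, g = u * e := by
  have h1 : EE p H A ≤ normalizer ((⁅V, EE p H A⁆ : Subgroup G) : Set G) :=
    (hyp.EE_le hA).trans (hyp.H_le_normalizer_UU hA)
  have h2 : g ∈ ((⁅V, EE p H A⁆ ⊔ EE p H A : Subgroup G) : Set G) := hg
  rw [Subgroup.coe_mul_of_right_le_normalizer_left _ _ h1] at h2
  obtain ⟨u, hu, e, he, rfl⟩ := h2
  exact ⟨u, hu, e, he, rfl⟩

theorem FA_inf_centralizer {A : Subgroup G} (hA : IsMinOff p V H A) :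
    FA p V H A ⊓ centralizer ((FA p V H A : Subgroup G) : Set G) = ⊥ := by
  rw [eq_bot_iff]
  intro g hg
  obtain ⟨hgF, hgC⟩ := mem_inf.1 hg
  obtain ⟨u, hu, e, he, rfl⟩ := hyp.exists_mul_of_mem_FA hA hgF
  have hUF : ⁅V, EE p H A⁆ ≤ FA p V H A := le_sup_left
  have hEF : EE p H A ≤ FA p V H A := le_sup_right
  -- `e` centralizes `U`
  have he1 : e ∈ centralizer ((⁅V, EE p H A⁆ : Subgroup G) : Set G) := by
    rw [mem_centralizer_iff]
    intro w hw
    have h1 := mem_centralizer_iff.1 hgC w (hUF hw)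
    have h2 : w * u = u * w :=
      (Cfsg.Agent.Helper10.isElementaryAbelian_iff.1 hyp.hV).1 w (hyp.UU_le hA hw) u (hyp.UU_le hA hu)
    have h3 : u * (w * e) = u * (e * w) := by
      calc u * (w * e) = (u * w) * e := by group
        _ = (w * u) * e := by rw [h2]
        _ = w * (u * e) := by group
        _ = u * e * w := h1
        _ = u * (e * w) := by group
    exact mul_left_cancel h3
  have he2 : e ∈ EE p H A ⊓ centralizer ((⁅V, EE p H A⁆ : Subgroup G) : Set G) := mem_inf.2 ⟨he, he1⟩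
  rw [hyp.EE_inf_centralizer_UU hA, mem_bot] at he2
  subst he2
  rw [mul_one] at hgC ⊢
  have hu1 : u ∈ ⁅V, EE p H A⁆ ⊓ (V ⊓ centralizer ((EE p H A : Subgroup G) : Set G)) := by
    refine mem_inf.2 ⟨hu, mem_inf.2 ⟨hyp.UU_le hA hu, ?_⟩⟩
    rw [mem_centralizer_iff]
    intro e' he'
    exact mem_centralizer_iff.1 hgC e' (hEF he')
  rw [(hyp.s616 hA).2.2.2.1] at hu1
  exact hu1

variable (𝕏 : Subgroup G) {q : ℕ} [Fact q.Prime] (hXV : 𝕏 ≤ normalizer (V : Set G))
  (hXH : 𝕏 ≤ normalizer (H : Set G)) (hXq : IsPGroup q 𝕏) (hq : ¬ q ∣ Nat.card H)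
include hXV hXH hXq hq

theorem exists_diag {A : Subgroup G} (hA : IsMinOff p V H A) :
    ∃ δ : ↥(FA p V H A) →* G, Function.Injective δ ∧
      (∀ x ∈ 𝕏, ∀ f : ↥(FA p V H A), x * δ f * x⁻¹ = δ f) ∧
      (∀ f : ↥(FA p V H A), ∃ r ∈ centralizer ((FA p V H A : Subgroup G) : Set G),
        δ f = (f : G) * r) ∧
      (∀ f : ↥(FA p V H A), δ f ∈ closure {y : G | ∃ x ∈ 𝕏, y = x * (f : G) * x⁻¹}) := by
  set θ : ↥𝕏 →* MulAut G := (MulAut.conj).comp 𝕏.subtype with hθ
  have hθa : ∀ (x : ↥𝕏) (g : G), θ x g = (x : G) * g * (x : G)⁻¹ := fun _ _ => rfl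
  set Ξ₁ : Subgroup ↥𝕏 := (normalizer ((EE p H A : Subgroup G) : Set G)).subgroupOf 𝕏 with hΞ₁
  have hstab : 𝕏 ⊓ normalizer ((EE p H A : Subgroup G) : Set G) ≤
      centralizer ((FA p V H A : Subgroup G) : Set G) := by
    unfold FA
    rw [le_centralizer_sup_iff]
    exact ⟨hyp.stab_le_centralizer_UU 𝕏 hXV hXH hXq hq hA,
      hyp.stab_le_centralizer_EE 𝕏 hXV hXH hXq hq hA⟩
  have h1 : ∀ s ∈ Ξ₁, ∀ f ∈ FA p V H A, θ s f = f := by
    intro s hs f hf
    rw [hθa]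
    have hs' : (s : G) ∈ 𝕏 ⊓ normalizer ((EE p H A : Subgroup G) : Set G) :=
      mem_inf.2 ⟨s.2, mem_subgroupOf.1 hs⟩
    have := mem_centralizer_iff.1 (hstab hs') f hf
    rw [← this]; group
  have h2 : ∀ x : ↥𝕏, x ∉ Ξ₁ → ∀ f ∈ FA p V H A, ∀ f' ∈ FA p V H A, Commute f (θ x f') := by
    intro x hx f hf f' hf'
    have hxV := hXV x.2
    have hxH := hXH x.2
    have hA' := hyp.minOff_conj hA hxV hxH
    set A' := A.map (MulAut.conj (x : G)).toMonoidHom with hA'def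
    have hne : EE p H A ≠ EE p H A' := by
      intro heq
      apply hx
      rw [hΞ₁, mem_subgroupOf]
      apply mem_normalizer_of_map_conj_eq
      rw [EE_conj A hxH]
      exact heq.symm
    have hmem : θ x f' ∈ FA p V H A' := by
      have h3 : θ x f' ∈ (FA p V H A).map (MulAut.conj (x : G)).toMonoidHom := ⟨f', hf', rfl⟩
      unfold FA at h3 ⊢
      rwa [Subgroup.map_sup, UU_conj A hxV hxH, EE_conj A hxH] at h3
    have hcent : FA p V H A' ≤ centralizer ((FA p V H A : Subgroup G) : Set G) := by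
      unfold FA
      rw [le_centralizer_sup_iff]
      constructor
      · apply sup_le (hyp.UU_comm hA hA')
        exact hyp.EE_le_centralizer_UU_of_ne hA hA' hne
      · apply sup_le
        · rw [le_centralizer_iff]
          exact hyp.EE_le_centralizer_UU_of_ne hA' hA hne.symm
        · intro e' he'
          rw [mem_centralizer_iff]
          intro e he
          exact (hyp.commute_EE_of_ne hA hA' hne e he e' he').eq
    exact (mem_centralizer_iff.1 (hcent hmem) f hf)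
  obtain ⟨δ, hδ1, hδ2, hδ3⟩ := Diag.exists_diag θ (FA p V H A) Ξ₁ h1 h2
  have hothers := Diag.closure_others_le_centralizer θ (FA p V H A) Ξ₁ h2
  refine ⟨δ, ?_, ?_, ?_, ?_⟩
  · rw [injective_iff_map_eq_one]
    intro f hf
    obtain ⟨r, hr, hfr⟩ := hδ2 f
    rw [hf] at hfr
    have h3 : (f : G) = r⁻¹ := eq_inv_of_mul_eq_one_left hfr.symm
    have h4 : (f : G) ∈ FA p V H A ⊓ centralizer ((FA p V H A : Subgroup G) : Set G) := by
      refine mem_inf.2 ⟨f.2, ?_⟩
      rw [h3]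
      exact inv_mem (hothers hr)
    rw [hyp.FA_inf_centralizer hA, mem_bot] at h4
    exact Subtype.ext h4
  · intro x hx f
    have := hδ1 ⟨x, hx⟩ f
    rwa [hθa] at this
  · intro f
    obtain ⟨r, hr, hfr⟩ := hδ2 f
    exact ⟨r, hothers hr, hfr⟩
  · intro f
    refine closure_mono ?_ (hδ3 f)
    rintro _ ⟨x, rfl⟩
    exact ⟨x, x.2, hθa x _⟩

end FFHyp

end Cfsg.Agent.Helper1.FF
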