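import Mathlib
import Cfsg.Prelude.Def_PLocal
import Cfsg.Agent.Helper1.FFDiag
import Cfsg.Agent.Helper10.Basic

/-!
# Fixed points of a coprime `q`-group on the structure of KS 9.3.7 (helper1)

* `exists_plane`: the fixed points of `𝕏` contain a plane `W ≤ V` and `D ≤ H`, `D ≅ SL(2,p)` faithful
  on `W`.
* `le_sup_fixed`: `H` is generated by a Sylow `p`-subgroup and `C_H(𝕏)`.
-/

set_option autoImplicit false

namespace Cfsg.Agent.Helper1.FF

open Subgroup Cfsg.Agent.Helper1.AutInv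
open scoped commutatorElement

variable {G : Type*} [Group G] [Finite G] {p : ℕ} [Fact p.Prime] {V H : Subgroup G}

namespace FFHyp

variable (hyp : FFHyp p V H)
variable (𝕏 : Subgroup G) {q : ℕ} [Fact q.Prime] (hXV : 𝕏 ≤ normalizer (V : Set G))
  (hXH : 𝕏 ≤ normalizer (H : Set G)) (hXq : IsPGroup q 𝕏) (hq : ¬ q ∣ Nat.card H)
include hyp hXV hXH hXq hq

omit [Finite G] [Fact p.Prime] hyp hXV hXH hXq hq [Fact q.Prime] in
theorem closure_conj_le {𝕏 N : Subgroup G} (hN : 𝕏 ≤ normalizer (N : Set G)) {f : G} (hf : f ∈ N) :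
    closure {y : G | ∃ x ∈ 𝕏, y = x * f * x⁻¹} ≤ N := by
  rw [closure_le]
  rintro _ ⟨x, hx, rfl⟩
  exact (mem_normalizer_iff.1 (hN hx) f).1 hf

omit [Finite G] [Fact p.Prime] hyp hXV hXH hXq hq [Fact q.Prime] in
theorem mem_centralizer_of_conj_eq {𝕏 : Subgroup G} {g : G} (h : ∀ x ∈ 𝕏, x * g * x⁻¹ = g) :
    g ∈ centralizer (𝕏 : Set G) := by
  rw [mem_centralizer_iff]
  intro x hx
  have := h x hx
  calc x * g = x * g * x⁻¹ * x := by group
    _ = g * x := by rw [this]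

theorem exists_plane :
    ∃ W D : Subgroup G, W ≤ V ⊓ centralizer (𝕏 : Set G) ∧ D ≤ H ⊓ centralizer (𝕏 : Set G) ∧
      Cfsg.IsElementaryAbelian p W ∧ Nat.card W = p ^ 2 ∧ D ≤ normalizer (W : Set G) ∧
      D ⊓ centralizer (W : Set G) = ⊥ ∧
      Nonempty (↥D ≃* Matrix.SpecialLinearGroup (Fin 2) (ZMod p)) := by
  obtain ⟨A, hA⟩ := hyp.exists_minOff
  set F := FA p V H A with hF
  set U := ⁅V, EE p H A⁆ with hU
  set E := EE p H A with hE
  obtain ⟨δ, hinj, hfix, hr, hcl⟩ := hyp.exists_diag 𝕏 hXV hXH hXq hq hA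
  have hUF : U ≤ F := le_sup_left
  have hEF : E ≤ F := le_sup_right
  have hUV : U ≤ V := hyp.UU_le hA
  have hEH : E ≤ H := hyp.EE_le hA
  have hEU : E ≤ normalizer (U : Set G) := hEH.trans (hyp.H_le_normalizer_UU hA)
  obtain ⟨e⟩ := (hyp.s616 hA).2.1
  refine ⟨(U.subgroupOf F).map δ, (E.subgroupOf F).map δ, ?_, ?_, ?_, ?_, ?_, ?_, ?_⟩
  · rintro _ ⟨u, hu, rfl⟩
    refine mem_inf.2 ⟨?_, mem_centralizer_of_conj_eq (fun x hx => hfix x hx u)⟩
    exact closure_conj_le hXV (hUV (mem_subgroupOf.1 hu)) (hcl u)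
  · rintro _ ⟨e', he', rfl⟩
    refine mem_inf.2 ⟨?_, mem_centralizer_of_conj_eq (fun x hx => hfix x hx e')⟩
    exact closure_conj_le hXH (hEH (mem_subgroupOf.1 he')) (hcl e')
  · apply Cfsg.Agent.Helper10.isElementaryAbelian_map
    exact Cfsg.Agent.Helper10.isElementaryAbelian_comap
      (Cfsg.Agent.Helper10.isElementaryAbelian_mono hyp.hV hUV) F.subtype F.subtype_injective
  · rw [Cfsg.Agent.Helper10.card_map_of_injective _ δ hinj,
      Nat.card_congr (Subgroup.subgroupOfEquivOfLe hUF).toEquiv]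
    exact (hyp.s616 hA).2.2.1
  · rintro _ ⟨e', he', rfl⟩
    apply Cfsg.Agent.Helper10.mem_normalizer_of_finite
    rintro _ ⟨u, hu, rfl⟩
    refine ⟨e' * u * e'⁻¹, ?_, by simp⟩
    rw [SetLike.mem_coe, mem_subgroupOf]
    have := (mem_normalizer_iff.1 (hEU (mem_subgroupOf.1 he')) (u : G)).1 (mem_subgroupOf.1 hu)
    simpa using this
  · rw [eq_bot_iff]
    rintro _ ⟨⟨e', he', rfl⟩, hc⟩
    have he1 : (e' : G) ∈ centralizer (U : Set G) := by
      rw [mem_centralizer_iff]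
      intro u hu
      have h1 := mem_centralizer_iff.1 hc (δ ⟨u, hUF hu⟩) ⟨⟨u, hUF hu⟩, mem_subgroupOf.2 hu, rfl⟩
      rw [← map_mul, ← map_mul] at h1
      have h2 := hinj h1
      exact congrArg Subtype.val h2
    have he2 : (e' : G) ∈ E ⊓ centralizer (U : Set G) := mem_inf.2 ⟨mem_subgroupOf.1 he', he1⟩
    rw [hyp.EE_inf_centralizer_UU hA, mem_bot] at he2
    have he3 : e' = 1 := Subtype.ext he2
    rw [he3, map_one]
    exact one_mem _
  · exact ⟨((Subgroup.equivMapOfInjective (E.subgroupOf F) δ hinj).symm.trans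
      (Subgroup.subgroupOfEquivOfLe hEF)).trans e⟩

theorem comm_mem_sup_fixed (P : Subgroup G) {A : Subgroup G} (hA : IsMinOff p V H A) (hAP : A ≤ P) :
    ∀ a ∈ A, ∀ e ∈ EE p H A, ⁅a, e⁆ ∈ P ⊔ (H ⊓ centralizer (𝕏 : Set G)) := by
  obtain ⟨δ, hinj, hfix, hr, hcl⟩ := hyp.exists_diag 𝕏 hXV hXH hXq hq hA
  have hEF : EE p H A ≤ FA p V H A := le_sup_right
  have hAE : A ≤ EE p H A := le_sup_right
  have hEH : EE p H A ≤ H := hyp.EE_le hA
  intro a ha e he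
  obtain ⟨r, hrc, hδ⟩ := hr ⟨e, hEF he⟩
  have hra : r * a = a * r := (mem_centralizer_iff.1 hrc a (hEF (hAE ha))).symm
  have hre : r * e = e * r := (mem_centralizer_iff.1 hrc e (hEF he)).symm
  have hra' : r * a⁻¹ = a⁻¹ * r := by
    have := congrArg (fun y => a⁻¹ * y * a⁻¹) hra
    simpa [mul_assoc] using this.symm
  have h1 : a * (e * r) * a⁻¹ * (e * r)⁻¹ = a * e * a⁻¹ * e⁻¹ := by
    calc a * (e * r) * a⁻¹ * (e * r)⁻¹ = a * e * (r * a⁻¹) * r⁻¹ * e⁻¹ := by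
          rw [mul_inv_rev]; group
      _ = a * e * (a⁻¹ * r) * r⁻¹ * e⁻¹ := by rw [hra']
      _ = a * e * a⁻¹ * e⁻¹ := by group
  have h2 : δ ⟨e, hEF he⟩ ∈ P ⊔ (H ⊓ centralizer (𝕏 : Set G)) := by
    apply (le_sup_right : H ⊓ centralizer (𝕏 : Set G) ≤ P ⊔ (H ⊓ centralizer (𝕏 : Set G)))
    refine mem_inf.2 ⟨?_, mem_centralizer_of_conj_eq (fun x hx => hfix x hx ⟨e, hEF he⟩)⟩
    exact closure_conj_le (f := e) hXH (hEH he) (hcl ⟨e, hEF he⟩)
  have h3 : a ∈ P ⊔ (H ⊓ centralizer (𝕏 : Set G)) :=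
    (le_sup_left : P ≤ P ⊔ (H ⊓ centralizer (𝕏 : Set G))) (hAP ha)
  rw [commutatorElement_def, ← h1]
  rw [hδ] at h2
  exact mul_mem (mul_mem (mul_mem h3 h2) (inv_mem h3)) (inv_mem h2)

theorem le_sup_fixed (P : Subgroup G)
    (hP : ∀ A : Subgroup G, IsMinOff p V H A →
      ∃ h ∈ H, A.map (MulAut.conj h).toMonoidHom ≤ P) :
    H ≤ P ⊔ (H ⊓ centralizer (𝕏 : Set G)) := by
  set L := P ⊔ (H ⊓ centralizer (𝕏 : Set G)) with hL
  have hHH : H ≤ normalizer (H : Set G) := le_normalizer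
  conv_lhs => rw [← hyp.iSup_idx]
  apply iSup_le
  intro i
  obtain ⟨A₀, hA₀, hi⟩ := exists_minOff_of_idx i
  obtain ⟨h, hh, hAP⟩ := hP A₀ hA₀
  set A := A₀.map (MulAut.conj h).toMonoidHom with hAdef
  have hA : IsMinOff p V H A := hyp.minOff_conj hA₀ (hyp.hHV hh) (hHH hh)
  have hEE : EE p H A = EE p H A₀ := by
    rw [hAdef, ← EE_conj A₀ (hHH hh)]
    exact map_conj_eq_of_mem_normalizer (hyp.H_le_normalizer_EE hA₀ hh)
  rw [hi, ← hEE]
  have hAE : A ≤ EE p H A := le_sup_right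
  have key : ∀ a ∈ A, ∀ e ∈ EE p H A, ⁅a, e⁆ ∈ L :=
    hyp.comm_mem_sup_fixed 𝕏 hXV hXH hXq hq P hA hAP
  unfold EE
  apply sup_le
  · rw [Subgroup.commutator_le]
    intro q₀ hq₀ a ha
    have hq₀H : q₀ ∈ H := Subgroup.map_subtype_le _ hq₀
    obtain ⟨e₁, he₁, c₁, hc₁, rfl⟩ := hyp.exists_decomp hA hq₀H
    have hca : a * c₁ = c₁ * a := hyp.commute_EE_D hA a (hAE ha) c₁ hc₁
    have h1 : ⁅e₁ * c₁, a⁆ = (⁅a, e₁⁆)⁻¹ := by
      rw [commutatorElement_inv, commutatorElement_def, commutatorElement_def]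
      have hca' : c₁ * a = a * c₁ := hca.symm
      calc e₁ * c₁ * a * (e₁ * c₁)⁻¹ * a⁻¹ = e₁ * (c₁ * a) * c₁⁻¹ * e₁⁻¹ * a⁻¹ := by
            rw [mul_inv_rev]; group
        _ = e₁ * (a * c₁) * c₁⁻¹ * e₁⁻¹ * a⁻¹ := by rw [hca']
        _ = e₁ * a * e₁⁻¹ * a⁻¹ := by group
    rw [h1]
    exact inv_mem (key a ha e₁ he₁)
  · exact hAP.trans le_sup_left

end FFHyp

end Cfsg.Agent.Helper1.FF
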