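import Mathlib
import Cfsg.Prelude.Def_Transfer
import Cfsg.Agent.Helper10.Thompson

/-!
# Transfer to the holomorph (helper1)

For a normal subgroup `V` of `G`, the conjugation action gives `pi : G →* Hol V` into the holomorph
`V ⋊ Aut V`, whose kernel is `C_G(V)`, and `VV V` is the copy of `V` in the holomorph.  The image of
`G` acts faithfully on `VV V`.  These lemmas move cardinalities of centralizers and images back and
forth, so that statements about faithful pairs `(V, H)` apply to `(V, G / C_G(V))`.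
-/

set_option autoImplicit false

namespace Cfsg.Agent.Helper1.Hol

open Subgroup

variable {G : Type*} [Group G] (V : Subgroup G) [hVn : V.Normal]

/-- the holomorph of `V` -/
abbrev HolG : Type _ := ↥V ⋊[MonoidHom.id (MulAut ↥V)] MulAut ↥V

instance [Finite G] : Finite (HolG V) := Finite.of_equiv _ SemidirectProduct.equivProd.symm

/-- conjugation action of `G` on `V`, inside the holomorph -/
def pi : G →* HolG V := SemidirectProduct.inr.comp (MulAut.conjNormal (H := V))

/-- the embedding of `V` in the holomorph -/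
def iota : ↥V →* HolG V := SemidirectProduct.inl

/-- the copy of `V` in the holomorph -/
def VV : Subgroup (HolG V) := (iota V).range

theorem iota_injective : Function.Injective (iota V) := SemidirectProduct.inl_injective

theorem conj_eq (g : G) (w : ↥V) :
    pi V g * iota V w * (pi V g)⁻¹ = iota V (MulAut.conjNormal g w) := by
  show SemidirectProduct.inr (MulAut.conjNormal g) * SemidirectProduct.inl w *
    (SemidirectProduct.inr (MulAut.conjNormal g))⁻¹ = SemidirectProduct.inl (MulAut.conjNormal g w)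
  rw [← map_inv]
  exact (SemidirectProduct.inl_aut (φ := MonoidHom.id (MulAut ↥V)) (MulAut.conjNormal g) w).symm

theorem comm_iff (g : G) (w : ↥V) :
    pi V g * iota V w = iota V w * pi V g ↔ g * (w : G) = (w : G) * g := by
  constructor
  · intro h
    have h1 : pi V g * iota V w * (pi V g)⁻¹ = iota V w := by rw [h, mul_inv_cancel_right]
    rw [conj_eq] at h1
    have h2 := congrArg Subtype.val (iota_injective V h1)
    rw [MulAut.conjNormal_apply] at h2
    calc g * (w : G) = g * (w : G) * g⁻¹ * g := by group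
      _ = (w : G) * g := by rw [h2]
  · intro h
    have h1 : MulAut.conjNormal g w = w := by
      apply Subtype.ext
      rw [MulAut.conjNormal_apply, h]; group
    have h2 := conj_eq V g w
    rw [h1] at h2
    calc pi V g * iota V w = pi V g * iota V w * (pi V g)⁻¹ * pi V g := by
          rw [inv_mul_cancel_right]
      _ = iota V w * pi V g := by rw [h2]

theorem ker_pi : (pi V).ker = centralizer (V : Set G) := by
  ext g
  rw [MonoidHom.mem_ker, mem_centralizer_iff]
  constructor
  · intro hg w hw
    have h1 : pi V g * iota V ⟨w, hw⟩ = iota V ⟨w, hw⟩ * pi V g := by rw [hg, one_mul, mul_one]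
    exact ((comm_iff V g ⟨w, hw⟩).1 h1).symm
  · intro hg
    have h1 : MulAut.conjNormal g = (1 : MulAut ↥V) := by
      ext w
      rw [MulAut.conjNormal_apply, MulAut.one_apply, ← hg w w.2]; group
    show SemidirectProduct.inr (MulAut.conjNormal g) = 1
    rw [h1, map_one]

theorem VV_elemAb {p : ℕ} (hV : Cfsg.IsElementaryAbelian p V) :
    Cfsg.IsElementaryAbelian p (VV V) := by
  refine ⟨⟨⟨?_⟩⟩, ?_⟩
  · rintro ⟨_, ⟨w₁, rfl⟩⟩ ⟨_, ⟨w₂, rfl⟩⟩
    apply Subtype.ext
    show iota V w₁ * iota V w₂ = iota V w₂ * iota V w₁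
    rw [← map_mul, ← map_mul]
    congr 1
    exact hV.1.is_comm.comm w₁ w₂
  · rintro _ ⟨w, rfl⟩
    rw [← map_pow]
    have : w ^ p = 1 := Subtype.ext (by simpa using hV.2 (w : G) w.2)
    rw [this, map_one]

theorem map_le_normalizer (A : Subgroup G) : A.map (pi V) ≤ normalizer (VV V : Set (HolG V)) := by
  rintro _ ⟨g, -, rfl⟩
  have key : ∀ g : G, ∀ x ∈ VV V, pi V g * x * (pi V g)⁻¹ ∈ VV V := by
    rintro g _ ⟨w, rfl⟩
    exact ⟨_, (conj_eq V g w).symm⟩
  rw [mem_normalizer_iff]
  intro x
  constructor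
  · exact key g x
  · intro hx
    have := key g⁻¹ _ hx
    rw [map_inv] at this
    simpa [mul_assoc] using this

theorem range_le_normalizer : (pi V).range ≤ normalizer (VV V : Set (HolG V)) := by
  rw [MonoidHom.range_eq_map]
  exact map_le_normalizer V ⊤

theorem range_inf_centralizer : (pi V).range ⊓ centralizer (VV V : Set (HolG V)) = ⊥ := by
  rw [eq_bot_iff]
  rintro _ ⟨⟨g, rfl⟩, hc⟩
  rw [mem_bot, ← MonoidHom.mem_ker, ker_pi, mem_centralizer_iff]
  intro w hw
  have h1 := mem_centralizer_iff.1 hc (iota V ⟨w, hw⟩) ⟨_, rfl⟩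
  exact ((comm_iff V g ⟨w, hw⟩).1 h1.symm).symm

theorem VV_inf_centralizer_map (A : Subgroup G) :
    VV V ⊓ centralizer ((A.map (pi V) : Subgroup (HolG V)) : Set (HolG V)) =
      ((V ⊓ centralizer (A : Set G)).subgroupOf V).map (iota V) := by
  ext x
  constructor
  · rintro ⟨⟨w, rfl⟩, hx⟩
    refine ⟨w, ?_, rfl⟩
    rw [SetLike.mem_coe, mem_subgroupOf]
    refine mem_inf.2 ⟨w.2, ?_⟩
    rw [mem_centralizer_iff]
    intro a ha
    have h3 := mem_centralizer_iff.1 hx (pi V a) ⟨a, ha, rfl⟩
    exact (comm_iff V a w).1 h3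
  · rintro ⟨w, hw, rfl⟩
    rw [SetLike.mem_coe, mem_subgroupOf] at hw
    refine mem_inf.2 ⟨⟨w, rfl⟩, ?_⟩
    rw [mem_centralizer_iff]
    rintro _ ⟨a, ha, rfl⟩
    have h3 := mem_centralizer_iff.1 (mem_inf.1 hw).2 a ha
    exact (comm_iff V a w).2 h3

theorem card_map_iota (W : Subgroup ↥V) : Nat.card (W.map (iota V)) = Nat.card W :=
  Cfsg.Agent.Helper10.card_map_of_injective W (iota V) (iota_injective V)

omit hVn in
theorem card_subgroupOf_of_le {W : Subgroup G} (hW : W ≤ V) :
    Nat.card (W.subgroupOf V) = Nat.card W :=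
  Nat.card_congr (subgroupOfEquivOfLe hW).toEquiv

theorem card_VV_inf_centralizer_map (A : Subgroup G) :
    Nat.card ↥(VV V ⊓ centralizer ((A.map (pi V) : Subgroup (HolG V)) : Set (HolG V))) =
      Nat.card ↥(V ⊓ centralizer (A : Set G)) := by
  rw [VV_inf_centralizer_map, card_map_iota, card_subgroupOf_of_le V inf_le_left]

theorem card_VV : Nat.card (VV V) = Nat.card V := by
  have h1 : VV V = (⊤ : Subgroup ↥V).map (iota V) := MonoidHom.range_eq_map (iota V)
  rw [h1, card_map_iota]
  exact Nat.card_congr (Subgroup.topEquiv).toEquiv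

theorem card_map_pi (A : Subgroup G) :
    Nat.card (A.map (pi V)) = (centralizer (V : Set G)).relIndex A := by
  rw [← ker_pi, relIndex_ker]

theorem card_map_pi_mul [Finite G] (A : Subgroup G) :
    Nat.card (A.map (pi V)) * Nat.card ↥(A ⊓ centralizer (V : Set G)) = Nat.card A := by
  rw [card_map_pi, inf_comm, mul_comm]
  have h1 := Subgroup.relIndex_mul_relIndex ⊥ (centralizer (V : Set G) ⊓ A) A bot_le inf_le_right
  rw [Subgroup.relIndex_bot_left, Subgroup.relIndex_bot_left, Subgroup.inf_relIndex_right] at h1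
  exact h1

theorem comap_map_pi (A : Subgroup G) :
    (A.map (pi V)).comap (pi V) = A ⊔ centralizer (V : Set G) := by
  rw [Subgroup.comap_map_eq, ker_pi]

end Cfsg.Agent.Helper1.Hol
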