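import Mathlib
import Cfsg.Prelude.Def_PLocal
import Cfsg.Agent.Helper1.Hol
import Cfsg.Agent.Helper11.OffenderFF
import Cfsg.Agent.Helper11.PSolvable
import Cfsg.Agent.Helper62.PSolvDual
import Cfsg.Agent.Helper54.PConstrained

/-!
# The faithful pair `(V, G / C_G(V))` in the holomorph (helper1)

For a `p`-solvable group `G` with a normal elementary abelian `p`-subgroup `V` such that
`O_p(G / C_G(V)) = 1`, the image of `G` in the holomorph of `V` satisfies helper11's `FFSetting`,
hence there are no over-offenders: `|A| |C_V(A)| ≤ |A ∩ C_G(V)| |V|` for elementary abelian `A`.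
-/

set_option autoImplicit false

namespace Cfsg.Agent.Helper1.Hol

open Subgroup

variable {G : Type*} [Group G] [Finite G] (V : Subgroup G) [hVn : V.Normal]

/-- transport of `O_p = 1` across an isomorphism -/
theorem pCore_eq_bot_of_mulEquiv' {H : Type*} [Group H] {H' : Type*} [Group H'] {p : ℕ}
    (e : H ≃* H') (h : Cfsg.pCore p H = ⊥) : Cfsg.pCore p H' = ⊥ := by
  rw [eq_bot_iff]
  intro y hy
  have h1 : e (e.symm y) ∈ Cfsg.pCore p H' := by rw [MulEquiv.apply_symm_apply]; exact hy
  have h2 := (Cfsg.Agent.Helper54.mem_pCore_equiv (p := p) e).1 h1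
  rw [h, Subgroup.mem_bot] at h2
  rw [Subgroup.mem_bot]
  have := congrArg e h2
  rwa [MulEquiv.apply_symm_apply, map_one] at this

/-- the image of `G` in the holomorph is isomorphic to `G / C_G(V)` -/
noncomputable def quotEquivRange : G ⧸ centralizer (V : Set G) ≃* ↥(pi V).range :=
  (QuotientGroup.quotientMulEquivOfEq (ker_pi V).symm).trans
    (QuotientGroup.quotientKerEquivRange (pi V))

theorem pCore_range_eq_bot {p : ℕ}
    (hO : Cfsg.pCore p (G ⧸ centralizer (V : Set G)) = ⊥) : Cfsg.pCore p ↥(pi V).range = ⊥ :=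
  pCore_eq_bot_of_mulEquiv' (quotEquivRange V) hO

theorem isPSolvable_range {p : ℕ} [Fact p.Prime] (hsep : Cfsg.IsPSolvable p G) :
    Cfsg.IsPSolvable p ↥(pi V).range :=
  Cfsg.Agent.Helper11.isPSolvable_of_surjective (pi V).rangeRestrict
    (pi V).rangeRestrict_surjective hsep

/-- hypothesis `S1` for the image of `G` -/
theorem range_S1 {p : ℕ} [Fact p.Prime] (hsep : Cfsg.IsPSolvable p G)
    (hO : Cfsg.pCore p (G ⧸ centralizer (V : Set G)) = ⊥) :
    centralizer (Cfsg.pPrimeCore p ↥(pi V).range : Set ↥(pi V).range) ≤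
      Cfsg.pPrimeCore p ↥(pi V).range :=
  Cfsg.Agent.Helper62.centralizer_pPrimeCore_le_of_isPSolvable (isPSolvable_range V hsep)
    (pCore_range_eq_bot V hO)

theorem ffSetting_range {p : ℕ} [Fact p.Prime] (hsep : Cfsg.IsPSolvable p G)
    (hV : Cfsg.IsElementaryAbelian p V)
    (hO : Cfsg.pCore p (G ⧸ centralizer (V : Set G)) = ⊥) :
    Cfsg.Agent.Helper11.FFSetting p (VV V) (pi V).range
      ((Cfsg.pPrimeCore p ↥(pi V).range).map (pi V).range.subtype) :=
  Cfsg.Agent.Helper11.ffSetting_of_hyps (VV V) (pi V).range (VV_elemAb V hV)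
    (range_le_normalizer V) (range_inf_centralizer V) (range_S1 V hsep hO)

/-- **No over-offenders**, non-faithful form. -/
theorem card_mul_card_fixed_le {p : ℕ} [Fact p.Prime] (hsep : Cfsg.IsPSolvable p G)
    (hV : Cfsg.IsElementaryAbelian p V)
    (hO : Cfsg.pCore p (G ⧸ centralizer (V : Set G)) = ⊥)
    (A : Subgroup G) (hA : Cfsg.IsElementaryAbelian p A) :
    Nat.card A * Nat.card ↥(V ⊓ centralizer (A : Set G)) ≤
      Nat.card ↥(A ⊓ centralizer (V : Set G)) * Nat.card V := by
  have hS := ffSetting_range V hsep hV hO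
  have hA' : Cfsg.IsElementaryAbelian p (A.map (pi V)) :=
    Cfsg.Agent.Helper10.isElementaryAbelian_map hA (pi V)
  have hA'' := (Cfsg.Agent.Helper10.isElementaryAbelian_iff).1 hA'
  have hAM : A.map (pi V) ≤ (pi V).range := by
    rintro _ ⟨a, -, rfl⟩
    exact ⟨a, rfl⟩
  have key := Cfsg.Agent.Helper11.card_mul_card_fixed_le hS (Nat.card (A.map (pi V)))
    (A.map (pi V)) rfl hAM hA''.1 hA''.2
  rw [card_VV_inf_centralizer_map, card_VV] at key
  calc Nat.card A * Nat.card ↥(V ⊓ centralizer (A : Set G))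
      = Nat.card ↥(A ⊓ centralizer (V : Set G)) *
          (Nat.card (A.map (pi V)) * Nat.card ↥(V ⊓ centralizer (A : Set G))) := by
        rw [← card_map_pi_mul V A]; ring
    _ ≤ Nat.card ↥(A ⊓ centralizer (V : Set G)) * Nat.card V := Nat.mul_le_mul_left _ key

end Cfsg.Agent.Helper1.Hol
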