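import Mathlib
import Cfsg.Prelude.Def_PLocal
import Cfsg.Agent.Helper1.FFTransfer
import Cfsg.Agent.Lib.Cores

/-!
# The pair `(V, J(G) C_G(V) / C_G(V))` in the holomorph (helper1)

Support for KS 9.3.8 -- 9.3.10: the image `H` of `J(G)` in the holomorph of a normal elementary
abelian `V` with `O_p(G/C_G(V)) = 1` satisfies the hypotheses of the structure theorem for failure of
factorization (faithful, `C_H(O_{p'}(H)) ≤ O_{p'}(H)`, generated by best offenders).
-/

set_option autoImplicit false

namespace Cfsg.Agent.Helper1.Hol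

open Subgroup

/-- A subgroup of a `p`-soluble group is `p`-soluble (as in `Cfsg.Agent.S4176`). -/
theorem isPSolvable_subgroup' {G : Type*} [Group G] {p : ℕ} [hp : Fact p.Prime] (B : Subgroup G)
    (h : Cfsg.IsPSolvable p G) : Cfsg.IsPSolvable p B := by
  obtain ⟨n, K, h0, hlast, hmono, hnorm, hstep⟩ := h
  refine ⟨n, fun i => (K i).subgroupOf B, ?_, ?_, ?_, ?_, ?_⟩
  · simp [h0]
  · simp [hlast]
  · intro i j hij
    exact Subgroup.comap_mono (hmono hij)
  · intro i; exact (hnorm i).subgroupOf B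
  · intro i
    haveI := hnorm i.castSucc
    have hle : K i.castSucc ≤ K i.succ := hmono (Fin.castSucc_lt_succ).le
    have hdvd : ((K i.castSucc).subgroupOf B).relIndex ((K i.succ).subgroupOf B) ∣
        (K i.castSucc).relIndex (K i.succ) := by
      rw [← Subgroup.inf_subgroupOf_right (K i.castSucc) B,
        ← Subgroup.inf_subgroupOf_right (K i.succ) B,
        Subgroup.relIndex_subgroupOf inf_le_right]
      have h1 : K i.castSucc ⊓ B = K i.castSucc ⊓ (K i.succ ⊓ B) := by
        rw [← inf_assoc, inf_of_le_left hle]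
      rw [h1, Subgroup.inf_relIndex_right]
      exact Cfsg.Agent.Helper11.relIndex_dvd_relIndex_of_le_right inf_le_left
    exact Cfsg.Agent.Helper11.ppow_or_coprime_of_dvd hp.out hdvd (hstep i)

/-- `O_p` of a subgroup normalized by `M` is trivial when `O_p(M)` is. -/
theorem pCore_eq_bot_of_le_normalizer {X : Type*} [Group X] {p : ℕ} [Fact p.Prime]
    {H M : Subgroup X} (hHM : H ≤ M) (hMH : M ≤ normalizer (H : Set X))
    (hM : Cfsg.pCore p ↥M = ⊥) : Cfsg.pCore p ↥H = ⊥ := by
  haveI hn : (H.subgroupOf M).Normal := Subgroup.normal_subgroupOf_of_le_normalizer hMH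
  haveI hc : (Cfsg.pCore p ↥(H.subgroupOf M)).Characteristic :=
    Cfsg.Agent.Lib.pCore_characteristic p
  have hnorm : ((Cfsg.pCore p ↥(H.subgroupOf M)).map (H.subgroupOf M).subtype).Normal :=
    ConjAct.normal_of_characteristic_of_normal
  have hp : IsPGroup p ↥((Cfsg.pCore p ↥(H.subgroupOf M)).map (H.subgroupOf M).subtype) :=
    (Cfsg.Agent.Lib.isPGroup_pCore p).map _
  have hle := Cfsg.Agent.Lib.le_pCore hnorm hp
  rw [hM, le_bot_iff, Subgroup.map_eq_bot_iff_of_injective _ (Subgroup.subtype_injective _)] at hle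
  exact pCore_eq_bot_of_mulEquiv' (Subgroup.subgroupOfEquivOfLe hHM) hle

variable {G : Type*} [Group G] [Finite G] (V : Subgroup G) [hVn : V.Normal]

/-- best offenders on `V` map to best offenders on the copy of `V` in the holomorph -/
theorem bestOffender_map {p : ℕ} {A : Subgroup G} (hA : Cfsg.IsBestOffenderOn p V A) :
    Cfsg.IsBestOffenderOn p (VV V) (A.map (pi V)) := by
  have hker : ∀ x ∈ centralizer (V : Set G), pi V x = 1 := by
    intro x hx
    rw [← MonoidHom.mem_ker, ker_pi]; exact hx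
  refine ⟨?_, ?_, ?_⟩
  · intro BB hBB
    set B := A ⊓ BB.comap (pi V) with hB
    have hBmap : B.map (pi V) = BB := by
      apply le_antisymm
      · rintro _ ⟨b, hb, rfl⟩
        exact (mem_inf.1 hb).2
      · intro y hy
        obtain ⟨a, ha, rfl⟩ := hBB hy
        exact ⟨a, mem_inf.2 ⟨ha, hy⟩, rfl⟩
    have hBC : B ⊓ centralizer (V : Set G) = A ⊓ centralizer (V : Set G) := by
      apply le_antisymm
      · exact inf_le_inf_right _ inf_le_left
      · intro x hx
        refine mem_inf.2 ⟨mem_inf.2 ⟨(mem_inf.1 hx).1, ?_⟩, (mem_inf.1 hx).2⟩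
        rw [mem_comap, hker x (mem_inf.1 hx).2]
        exact BB.one_mem
    have h1 := hA.1 B inf_le_left
    rw [← card_map_pi_mul V B, ← card_map_pi_mul V A, hBC, hBmap] at h1
    rw [← hBmap, card_VV_inf_centralizer_map, card_VV_inf_centralizer_map, hBmap]
    have hpos : 0 < Nat.card ↥(A ⊓ centralizer (V : Set G)) := Nat.card_pos
    have h2 : Nat.card ↥(A ⊓ centralizer (V : Set G)) *
        (Nat.card ↥BB * Nat.card ↥(V ⊓ centralizer (B : Set G))) ≤
        Nat.card ↥(A ⊓ centralizer (V : Set G)) *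
        (Nat.card ↥(A.map (pi V)) * Nat.card ↥(V ⊓ centralizer (A : Set G))) := by
      calc _ = Nat.card ↥BB * Nat.card ↥(A ⊓ centralizer (V : Set G)) *
            Nat.card ↥(V ⊓ centralizer (B : Set G)) := by ring
        _ ≤ _ := h1
        _ = _ := by ring
    exact Nat.le_of_mul_le_mul_left h2 hpos
  · rw [← Subgroup.map_commutator]
    intro y hy
    obtain ⟨x, hx, rfl⟩ := hy
    rw [hker x (hA.2.1 hx)]
    exact one_mem _
  · rintro _ ⟨a, ha, rfl⟩
    rw [← map_pow, hker _ (hA.2.2 a ha)]
    exact one_mem _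

end Cfsg.Agent.Helper1.Hol
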