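import Mathlib
import Cfsg.Prelude.Def_PLocal
import Cfsg.Agent.Helper1.FFPair
import Cfsg.Agent.S0602
import Cfsg.Agent.S0606
import Cfsg.Agent.S0616

/-!
# KS 9.3.8: failure of Thompson factorization in `p`-separable groups gives `SL(2,p)` (helper1)
-/

set_option autoImplicit false

namespace Cfsg.Agent.Helper1.Hol

open Subgroup

variable {G : Type*} [Group G] [Finite G] (V : Subgroup G) [hVn : V.Normal] {p : ℕ} [Fact p.Prime]

/-- the image of `J(G)` in the holomorph of `V` -/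
def JH (p : ℕ) : Subgroup (HolG V) := (Cfsg.thompsonSubgroup p G).map (pi V)

theorem JH_le_range : JH V p ≤ (pi V).range := by
  rintro _ ⟨a, -, rfl⟩
  exact ⟨a, rfl⟩

theorem JH_le_normalizer : JH V p ≤ normalizer (VV V : Set (HolG V)) := map_le_normalizer V _

theorem JH_inf_centralizer : JH V p ⊓ centralizer (VV V : Set (HolG V)) = ⊥ := by
  rw [eq_bot_iff, ← range_inf_centralizer V]
  exact inf_le_inf_right _ (JH_le_range V)

theorem thompson_normal : (Cfsg.thompsonSubgroup p G).Normal := by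
  haveI := (Cfsg.Agent.S0602.result (G := G) (p := p)).1
  exact Subgroup.normal_of_characteristic _

theorem range_le_normalizer_JH : (pi V).range ≤ normalizer (JH V p : Set (HolG V)) := by
  haveI := thompson_normal (G := G) (p := p)
  have key : ∀ g : G, ∀ x ∈ JH V p, pi V g * x * (pi V g)⁻¹ ∈ JH V p := by
    rintro g _ ⟨j, hj, rfl⟩
    refine ⟨g * j * g⁻¹, ?_, by simp⟩
    exact Subgroup.Normal.conj_mem inferInstance j hj g
  rintro _ ⟨g, rfl⟩
  rw [mem_normalizer_iff]
  intro x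
  constructor
  · exact key g x
  · intro hx
    have := key g⁻¹ _ hx
    rw [map_inv] at this
    simpa [mul_assoc] using this

theorem JH_S1 (hsep : Cfsg.IsPSolvable p G)
    (hO : Cfsg.pCore p (G ⧸ centralizer (V : Set G)) = ⊥) :
    centralizer (Cfsg.pPrimeCore p ↥(JH V p) : Set ↥(JH V p)) ≤ Cfsg.pPrimeCore p ↥(JH V p) := by
  have h1 : Cfsg.IsPSolvable p ↥(Cfsg.thompsonSubgroup p G) := isPSolvable_subgroup' _ hsep
  have h2 : Cfsg.IsPSolvable p ↥(JH V p) :=
    Cfsg.Agent.Helper11.isPSolvable_of_surjective ((pi V).subgroupMap (Cfsg.thompsonSubgroup p G))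
      ((pi V).subgroupMap_surjective _) h1
  have h3 : Cfsg.pCore p ↥(JH V p) = ⊥ :=
    pCore_eq_bot_of_le_normalizer (JH_le_range V) (range_le_normalizer_JH V)
      (pCore_range_eq_bot V hO)
  exact Cfsg.Agent.Helper62.centralizer_pPrimeCore_le_of_isPSolvable h2 h3

theorem JH_S3 (hV : Cfsg.IsElementaryAbelian p V) :
    JH V p = ⨆ A : {A : Subgroup (HolG V) // A ≤ JH V p ∧ Cfsg.IsBestOffenderOn p (VV V) A},
      (A : Subgroup (HolG V)) := by
  apply le_antisymm
  · unfold JH Cfsg.thompsonSubgroup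
    rw [Subgroup.map_le_iff_le_comap]
    apply sSup_le
    intro A hA
    rw [← Subgroup.map_le_iff_le_comap]
    have hbo : Cfsg.IsBestOffenderOn p (VV V) (A.map (pi V)) :=
      bestOffender_map V (Cfsg.Agent.S0606.result V hV A hA)
    exact le_iSup (fun A : {A : Subgroup (HolG V) // A ≤ (sSup (Cfsg.maxElementaryAbelianSubgroups p G)).map
      (pi V) ∧ Cfsg.IsBestOffenderOn p (VV V) A} => (A : Subgroup (HolG V)))
      ⟨A.map (pi V), Subgroup.map_mono (le_sSup hA), hbo⟩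
  · exact iSup_le fun A => A.2.1

theorem JH_ne_bot (hJ : ¬ Cfsg.thompsonSubgroup p G ≤ centralizer (V : Set G)) : JH V p ≠ ⊥ := by
  intro h
  apply hJ
  rw [← ker_pi V]
  intro j hj
  rw [MonoidHom.mem_ker]
  have : pi V j ∈ JH V p := ⟨j, hj, rfl⟩
  rw [h, mem_bot] at this
  exact this

/-- existence of a minimal nontrivially acting best offender -/
theorem exists_minimal_offender {X : Type*} [Group X] [Finite X] {p : ℕ} (W H : Subgroup X)
    (hf : H ⊓ centralizer (W : Set X) = ⊥)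
    (hS3 : H = ⨆ A : {A : Subgroup X // A ≤ H ∧ Cfsg.IsBestOffenderOn p W A}, (A : Subgroup X))
    (hH1 : H ≠ ⊥) :
    ∃ A : Subgroup X, A ≤ H ∧ Cfsg.IsBestOffenderOn p W A ∧ ⁅W, A⁆ ≠ ⊥ ∧
      ∀ B : Subgroup X, B ≤ A → Cfsg.IsBestOffenderOn p W B → ⁅W, B⁆ ≠ ⊥ → B = A := by
  classical
  set 𝒮 : Set (Subgroup X) := {A | A ≤ H ∧ Cfsg.IsBestOffenderOn p W A ∧ ⁅W, A⁆ ≠ ⊥} with h𝒮
  have hne : 𝒮.Nonempty := by
    by_contra hcon
    rw [Set.not_nonempty_iff_eq_empty] at hcon
    apply hH1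
    rw [hS3, eq_bot_iff]
    apply iSup_le
    rintro ⟨A, hAH, hA⟩
    by_contra hA1
    have : A ∈ 𝒮 := by
      refine ⟨hAH, hA, ?_⟩
      intro hc
      apply hA1
      rw [Subgroup.commutator_eq_bot_iff_le_centralizer, Subgroup.le_centralizer_iff] at hc
      show A ≤ ⊥
      rw [← hf]
      exact le_inf hAH hc
    rw [hcon] at this
    exact this
  obtain ⟨A, hA, hmin⟩ := Set.exists_min_image 𝒮 (fun A : Subgroup X => Nat.card A)
    (Set.toFinite _) hne
  refine ⟨A, hA.1, hA.2.1, hA.2.2, ?_⟩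
  intro B hBA hB hBW
  have hB𝒮 : B ∈ 𝒮 := ⟨hBA.trans hA.1, hB, hBW⟩
  exact Subgroup.eq_of_le_of_card_ge hBA (hmin B hB𝒮)

/-- **KS 9.3.8**, general form. -/
theorem exists_SL2_section (hsep : Cfsg.IsPSolvable p G) (hV : Cfsg.IsElementaryAbelian p V)
    (hO : Cfsg.pCore p (G ⧸ centralizer (V : Set G)) = ⊥)
    (hJ : ¬ Cfsg.thompsonSubgroup p G ≤ centralizer (V : Set G)) :
    (p = 2 ∨ p = 3) ∧ ∃ E : Subgroup G, centralizer (V : Set G) ≤ E ∧
      E ≤ Cfsg.thompsonSubgroup p G ⊔ centralizer (V : Set G) ∧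
      Cfsg.thompsonSubgroup p G ⊔ centralizer (V : Set G) ≤ normalizer (E : Set G) ∧
      ∃ hn : ((centralizer (V : Set G)).subgroupOf E).Normal,
        Nonempty ((↥E ⧸ (centralizer (V : Set G)).subgroupOf E) ≃*
          Matrix.SpecialLinearGroup (Fin 2) (ZMod p)) := by
  have hV' := VV_elemAb V hV
  have hHV := JH_le_normalizer V (p := p)
  have hf := JH_inf_centralizer V (p := p)
  have hS1 := JH_S1 V hsep hO
  have hS3 := JH_S3 V hV
  have hH1 := JH_ne_bot V hJ
  obtain ⟨A, hAH, hA, hAV, hmin⟩ := exists_minimal_offender (VV V) (JH V p) hf hS3 hH1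
  obtain ⟨hp23, ⟨e⟩, -, -, -, hcomm, -, hsup, -⟩ :=
    Cfsg.Agent.S0616.result (VV V) (JH V p) hV' hHV hf hS1 hS3 hH1 A hAH hA hAV hmin
  refine ⟨hp23, ?_⟩
  set E₁ : Subgroup (HolG V) :=
    ⁅((Cfsg.pPrimeCore p ↥(JH V p)).map (JH V p).subtype), A⁆ ⊔ A with hE₁
  set D : Subgroup (HolG V) :=
    JH V p ⊓ centralizer ((⁅VV V, E₁⁆ : Subgroup (HolG V)) : Set (HolG V)) with hD
  have hE₁H : E₁ ≤ JH V p := by rw [← hsup]; exact le_sup_left
  have hHN : JH V p ≤ normalizer (E₁ : Set (HolG V)) := by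
    rw [← hsup]
    apply sup_le Subgroup.le_normalizer
    rw [Subgroup.commutator_eq_bot_iff_le_centralizer, Subgroup.le_centralizer_iff] at hcomm
    exact hcomm.trans (Subgroup.centralizer_le_normalizer _)
  have hCn : (centralizer (V : Set G)).Normal := Subgroup.normal_centralizer
  refine ⟨E₁.comap (pi V), ?_, ?_, ?_, ?_⟩
  · rw [← ker_pi V]
    exact (pi V).ker_le_comap _
  · rw [← comap_map_pi V]
    exact Subgroup.comap_mono hE₁H
  · rw [← comap_map_pi V]
    exact (Subgroup.comap_mono hHN).trans (Subgroup.le_normalizer_comap (pi V))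
  · have hn : ((centralizer (V : Set G)).subgroupOf (E₁.comap (pi V))).Normal :=
      hCn.subgroupOf _
    refine ⟨hn, ?_⟩
    set φ : ↥(E₁.comap (pi V)) →* ↥E₁ := (pi V).subgroupComap E₁ with hφ
    have hφs : Function.Surjective φ := by
      rintro ⟨y, hy⟩
      obtain ⟨g, rfl⟩ := JH_le_range V (hE₁H hy)
      exact ⟨⟨g, hy⟩, rfl⟩
    have hker : φ.ker = (centralizer (V : Set G)).subgroupOf (E₁.comap (pi V)) := by
      ext x
      rw [MonoidHom.mem_ker, mem_subgroupOf, ← ker_pi V, MonoidHom.mem_ker]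
      constructor
      · intro h
        exact congrArg Subtype.val h
      · intro h
        exact Subtype.ext h
    exact ⟨((QuotientGroup.quotientMulEquivOfEq hker.symm).trans
      (QuotientGroup.quotientKerEquivOfSurjective φ hφs)).trans e⟩

end Cfsg.Agent.Helper1.Hol
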