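import Mathlib
import Cfsg.Prelude.Def_PLocal
import Cfsg.Agent.Helper1.FFMain
import Cfsg.Agent.Helper1.FFStruct
import Cfsg.Agent.S0600
import Cfsg.Agent.S0601
import Cfsg.Agent.S0608

/-!
# Library form of KS 9.3.8 (helper1)

For a `p`-solvable group `G` and a normal elementary abelian `V` with `O_p(G/C_G(V)) = 1` not
centralized by `J(G)`, the image `JH V p` of `J(G)` in the holomorph `HolG V` together with the copy
`VV V` of `V` satisfies `FF.FFHyp`, i.e. all hypotheses of `S0610`--`S0617`; so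
`Cfsg.Agent.S0617.result (VV V) (JH V p) h.hV h.hHV h.hf h.hS1 h.hS3 h.hH1` gives the decomposition
`J(G)C_G(V)/C_G(V) = E_1 × ⋯ × E_r`.  Translate back with `Hol.comap_map_pi`, `Hol.ker_pi`,
`Hol.VV_inf_centralizer_map`, `Hol.card_map_pi`.
-/

set_option autoImplicit false

namespace Cfsg.Agent.Helper1.Hol

open Subgroup

variable {G : Type*} [Group G] [Finite G] {p : ℕ} [Fact p.Prime]

/-- all hypotheses of the structure theorem hold for `(VV V, JH V p)` -/
theorem JH_ffHyp (V : Subgroup G) [V.Normal] (hsep : Cfsg.IsPSolvable p G)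
    (hV : Cfsg.IsElementaryAbelian p V)
    (hO : Cfsg.pCore p (G ⧸ centralizer (V : Set G)) = ⊥)
    (hJ : ¬ Cfsg.thompsonSubgroup p G ≤ centralizer (V : Set G)) :
    Cfsg.Agent.Helper1.FF.FFHyp p (VV V) (JH V p) :=
  ⟨VV_elemAb V hV, JH_le_normalizer V, JH_inf_centralizer V, JH_S1 V hsep hO, JH_S3 V hV,
    JH_ne_bot V hJ⟩

/-- the subgroup generated by the `Ω₁(Z(S))`, `S` Sylow -/
abbrev omegaZSup (p : ℕ) (G : Type*) [Group G] : Subgroup G :=
  ⨆ S : Sylow p G, Cfsg.omegaOne p ((S : Subgroup G) ⊓ centralizer ((S : Subgroup G) : Set G))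

/-- data for the canonical `V = ⟨Ω₁(Z(S))⟩` of a `p`-solvable group with `O_{p'}(G) = 1` that is not
Thompson factorizable. -/
theorem omegaZSup_data (hsep : Cfsg.IsPSolvable p G) (hO : Cfsg.pPrimeCore p G = ⊥)
    (hnf : ¬ Cfsg.IsThompsonFactorizable p G) :
    ∃ hn : (omegaZSup p G).Normal, Cfsg.IsElementaryAbelian p (omegaZSup p G) ∧
      Cfsg.pCore p (G ⧸ centralizer ((omegaZSup p G : Subgroup G) : Set G)) = ⊥ ∧
      ¬ Cfsg.thompsonSubgroup p G ≤ centralizer ((omegaZSup p G : Subgroup G) : Set G) := by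
  have hc := Cfsg.Agent.Helper11.centralizer_pCore_le_of_isPSolvable hsep hO
  obtain ⟨hVn, hVe, -⟩ := Cfsg.Agent.S0601.result hc
  haveI := hVn
  have hgen : omegaZSup p G = ⨆ S : Sylow p G, omegaZSup p G ⊓ centralizer ((S : Subgroup G) : Set G) := by
    apply le_antisymm
    · apply iSup_le
      intro S
      refine le_trans (le_inf (le_iSup (fun S : Sylow p G => Cfsg.omegaOne p ((S : Subgroup G) ⊓
        centralizer ((S : Subgroup G) : Set G))) S) ?_)
        (le_iSup (fun S : Sylow p G => omegaZSup p G ⊓ centralizer ((S : Subgroup G) : Set G)) S)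
      unfold Cfsg.omegaOne
      rw [closure_le]
      intro x hx
      exact (mem_inf.1 hx.1).2
    · exact iSup_le fun S => inf_le_left
  refine ⟨hVn, hVe, Cfsg.Agent.S0600.result _ hVe hgen, ?_⟩
  exact fun h => hnf ((Cfsg.Agent.S0608.result hO).2 h)

end Cfsg.Agent.Helper1.Hol
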