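import Mathlib
import Cfsg.Prelude.Def_PLocal
import Cfsg.Agent.Helper1.Hol

/-!
# Action of a normalizing subgroup on the holomorph of a characteristic subgroup (helper1)

`K ≤ G`, `X ≤ N_G(K)`, `N` a characteristic subgroup of the group `↥K`.  Then `X` acts on `↥K` and on
`↥N` by conjugation, which gives `xi : ↥X →* HolG N` with
`xi x * pi N k * (xi x)⁻¹ = pi N (x k x⁻¹)` and `xi x * iota N v * (xi x)⁻¹ = iota N (x v x⁻¹)`.
-/

set_option autoImplicit false

namespace Cfsg.Agent.Helper1.NormAct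

open Subgroup

variable {G : Type*} [Group G]

/-- conjugation action of the normalizer of `K` on `K` -/
def normConj (K : Subgroup G) : ↥(normalizer (K : Set G)) →* MulAut ↥K where
  toFun g :=
    { toFun := fun k => ⟨(g : G) * k * (g : G)⁻¹, (mem_normalizer_iff.1 g.2 k).1 k.2⟩
      invFun := fun k => ⟨(g : G)⁻¹ * k * (g : G), by
        have := (mem_normalizer_iff.1 (inv_mem g.2) k).1 k.2
        simpa using this⟩
      left_inv := fun k => Subtype.ext (by simp [mul_assoc])
      right_inv := fun k => Subtype.ext (by simp [mul_assoc])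
      map_mul' := fun k k' => Subtype.ext (by simp [mul_assoc]) }
  map_one' := by
    ext k
    simp
  map_mul' := fun g g' => by
    ext k
    simp [mul_assoc]

@[simp]
theorem coe_normConj_apply (K : Subgroup G) (g : ↥(normalizer (K : Set G))) (k : ↥K) :
    ((normConj K g k : ↥K) : G) = (g : G) * k * (g : G)⁻¹ := rfl

variable {Γ : Type*} [Group Γ]

theorem map_mem_of_characteristic (N : Subgroup Γ) [hN : N.Characteristic] (φ : Γ ≃* Γ) {n : Γ}
    (hn : n ∈ N) : φ n ∈ N := by
  have h := hN.fixed φ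
  have h2 : n ∈ N.comap φ.toMonoidHom := by rw [h]; exact hn
  exact h2

/-- restriction of automorphisms to a characteristic subgroup -/
def autRestrict (N : Subgroup Γ) [hN : N.Characteristic] : MulAut Γ →* MulAut ↥N where
  toFun φ :=
    { toFun := fun n => ⟨φ n, map_mem_of_characteristic N φ n.2⟩
      invFun := fun n => ⟨φ.symm n, map_mem_of_characteristic N φ.symm n.2⟩
      left_inv := fun n => Subtype.ext (by simp)
      right_inv := fun n => Subtype.ext (by simp)
      map_mul' := fun n n' => Subtype.ext (by simp) }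
  map_one' := by
    ext n
    simp
  map_mul' := fun φ ψ => by
    ext n
    simp

@[simp]
theorem coe_autRestrict_apply (N : Subgroup Γ) [hN : N.Characteristic] (φ : MulAut Γ) (n : ↥N) :
    ((autRestrict N φ n : ↥N) : Γ) = φ n := rfl

open scoped Pointwise in
/-- `⟨Ω₁(Z(S)) : S Sylow⟩` is characteristic -/
theorem omegaZSup_characteristic (p : ℕ) :
    (⨆ S : Sylow p Γ, Cfsg.omegaOne p ((S : Subgroup Γ) ⊓ centralizer ((S : Subgroup Γ) : Set Γ))).Characteristic := by
  rw [characteristic_iff_map_le]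
  intro φ
  rw [Subgroup.map_iSup]
  apply iSup_le
  intro S
  refine le_trans ?_ (le_iSup (fun S : Sylow p Γ => Cfsg.omegaOne p ((S : Subgroup Γ) ⊓
    centralizer ((S : Subgroup Γ) : Set Γ))) ((φ : MulAut Γ) • S))
  unfold Cfsg.omegaOne
  rw [MonoidHom.map_closure, closure_le]
  rintro _ ⟨x, ⟨hx, hxp⟩, rfl⟩
  apply Subgroup.subset_closure
  have hmem : ∀ y : Γ, y ∈ (S : Subgroup Γ) → φ y ∈ (((φ : MulAut Γ) • S : Sylow p Γ) : Subgroup Γ) := by
    intro y hy
    rw [Sylow.pointwise_smul_def]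
    exact ⟨y, hy, rfl⟩
  have hmem' : ∀ z : Γ, z ∈ (((φ : MulAut Γ) • S : Sylow p Γ) : Subgroup Γ) →
      ∃ y ∈ (S : Subgroup Γ), φ y = z := by
    intro z hz
    rw [Sylow.pointwise_smul_def] at hz
    obtain ⟨y, hy, rfl⟩ := hz
    exact ⟨y, hy, rfl⟩
  refine ⟨mem_inf.2 ⟨hmem x (mem_inf.1 hx).1, ?_⟩, ?_⟩
  · rw [mem_centralizer_iff]
    intro z hz
    obtain ⟨y, hy, rfl⟩ := hmem' z hz
    have := mem_centralizer_iff.1 (mem_inf.1 hx).2 y hy
    show φ y * φ x = φ x * φ y
    rw [← map_mul, ← map_mul, this]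
  · show φ x ^ p = 1
    rw [← map_pow, hxp, map_one]

section xi

variable (K X : Subgroup G) (hXK : X ≤ normalizer (K : Set G)) (N : Subgroup ↥K)
  [hNc : N.Characteristic]

instance : N.Normal := Subgroup.normal_of_characteristic N

/-- the action of `X` on the characteristic subgroup `N` of `K` -/
def beta : ↥X →* MulAut ↥N :=
  (autRestrict N).comp ((normConj K).comp (Subgroup.inclusion hXK))

/-- the action of `X` on `K` -/
def alpha : ↥X →* MulAut ↥K := (normConj K).comp (Subgroup.inclusion hXK)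

@[simp]
theorem coe_alpha_apply (x : ↥X) (k : ↥K) :
    ((alpha K X hXK x k : ↥K) : G) = (x : G) * k * (x : G)⁻¹ := rfl

@[simp]
theorem coe_beta_apply (x : ↥X) (n : ↥N) :
    (((beta K X hXK N x n : ↥N) : ↥K) : G) = (x : G) * ((n : ↥K) : G) * (x : G)⁻¹ := rfl

theorem beta_coe (x : ↥X) (n : ↥N) :
    ((beta K X hXK N x n : ↥N) : ↥K) = alpha K X hXK x (n : ↥K) := rfl

/-- `X` inside the holomorph of `N` -/
def xi : ↥X →* Hol.HolG N := SemidirectProduct.inr.comp (beta K X hXK N)

theorem xi_conj_iota (x : ↥X) (v : ↥N) :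
    xi K X hXK N x * Hol.iota N v * (xi K X hXK N x)⁻¹ = Hol.iota N (beta K X hXK N x v) := by
  show SemidirectProduct.inr (beta K X hXK N x) * SemidirectProduct.inl v *
    (SemidirectProduct.inr (beta K X hXK N x))⁻¹ = SemidirectProduct.inl (beta K X hXK N x v)
  rw [← map_inv]
  exact (SemidirectProduct.inl_aut (φ := MonoidHom.id (MulAut ↥N)) (beta K X hXK N x) v).symm

theorem xi_conj_pi (x : ↥X) (k : ↥K) :
    xi K X hXK N x * Hol.pi N k * (xi K X hXK N x)⁻¹ = Hol.pi N (alpha K X hXK x k) := by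
  show SemidirectProduct.inr (beta K X hXK N x) * SemidirectProduct.inr (MulAut.conjNormal k) *
    (SemidirectProduct.inr (beta K X hXK N x))⁻¹ =
    SemidirectProduct.inr (MulAut.conjNormal (alpha K X hXK x k))
  rw [← map_inv, ← map_mul, ← map_mul]
  congr 1
  ext v
  simp only [MulAut.mul_apply, MulAut.conjNormal_apply, coe_beta_apply, coe_alpha_apply,
    Subgroup.coe_mul, Subgroup.coe_inv]
  have h1 : ((((beta K X hXK N x)⁻¹ v : ↥N) : ↥K) : G) = (x : G)⁻¹ * ((v : ↥K) : G) * (x : G) := rfl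
  rw [h1]
  group

end xi

end Cfsg.Agent.Helper1.NormAct
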