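import Mathlib
import Cfsg.Prelude.Def_PLocal
import Cfsg.Agent.Helper1.NormAct
import Cfsg.Agent.Helper1.FFLib
import Cfsg.Agent.Helper1.FFFixed
import Cfsg.Agent.Helper1.CoprimeAction
import Cfsg.Agent.S0602

/-!
# Pull-back of the fixed-point structure to `K` with an acting `q`-group `X` (helper1)

`K, X ≤ G`, `X` an elementary abelian `q`-group normalizing `K`, `q ∤ |K|`.  `V0 = ⟨Ω₁(Z(S))⟩ ≤ ↥K`.
The image `XX` of `X` in the holomorph of `V0` is a `q`-group normalizing the copy of `V0` and the image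
of `J(K)`; fixed points of `XX` in the image of `K` lift to `C_K(X)`.
-/

set_option autoImplicit false

namespace Cfsg.Agent.Helper1.Pull

open Subgroup Cfsg.Agent.Helper1.Hol Cfsg.Agent.Helper1.NormAct

variable {G : Type*} [Group G]

/-- `V0 = ⟨Ω₁(Z(S)) : S ∈ Syl_p(K)⟩` as a subgroup of `↥K` -/
abbrev V0 (p : ℕ) (K : Subgroup G) : Subgroup ↥K := omegaZSup p ↥K

instance V0_characteristic (p : ℕ) (K : Subgroup G) : (V0 p K).Characteristic :=
  omegaZSup_characteristic p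

variable [Finite G] {p q : ℕ} [Fact p.Prime] [Fact q.Prime]
  (K X : Subgroup G) (hXK : X ≤ normalizer (K : Set G))

/-- the image of `X` in the holomorph -/
def XX (p : ℕ) : Subgroup (HolG (V0 p K)) := (xi K X hXK (V0 p K)).range

theorem XX_le_normalizer_VV :
    XX K X hXK p ≤ normalizer ((VV (V0 p K) : Subgroup (HolG (V0 p K))) : Set (HolG (V0 p K))) := by
  rintro _ ⟨x, rfl⟩
  apply Cfsg.Agent.Helper10.mem_normalizer_of_finite
  rintro _ ⟨v, rfl⟩
  exact ⟨_, (xi_conj_iota K X hXK (V0 p K) x v).symm⟩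

theorem alpha_mem_thompson (x : ↥X) {j : ↥K} (hj : j ∈ Cfsg.thompsonSubgroup p ↥K) :
    NormAct.alpha K X hXK x j ∈ Cfsg.thompsonSubgroup p ↥K := by
  haveI := (Cfsg.Agent.S0602.result (G := ↥K) (p := p)).1
  exact map_mem_of_characteristic _ (NormAct.alpha K X hXK x) hj

theorem XX_le_normalizer_JH :
    XX K X hXK p ≤ normalizer ((JH (V0 p K) p : Subgroup (HolG (V0 p K))) : Set (HolG (V0 p K))) := by
  rintro _ ⟨x, rfl⟩
  apply Cfsg.Agent.Helper10.mem_normalizer_of_finite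
  rintro _ ⟨j, hj, rfl⟩
  exact ⟨_, alpha_mem_thompson K X hXK x hj, (xi_conj_pi K X hXK (V0 p K) x j).symm⟩

theorem isPGroup_XX (hX : Cfsg.IsElementaryAbelian q X) : IsPGroup q (XX K X hXK p) := by
  have h1 : IsPGroup q ↥X := Cfsg.Agent.Helper10.isElementaryAbelian_isPGroup hX
  unfold XX
  rw [MonoidHom.range_eq_map]
  exact (h1.to_subgroup ⊤).map _

theorem not_dvd_card_JH (hq : ¬ q ∣ Nat.card K) : ¬ q ∣ Nat.card (JH (V0 p K) p) := by
  intro h
  apply hq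
  have h1 := card_map_pi_mul (V0 p K) (Cfsg.thompsonSubgroup p ↥K)
  have h2 : Nat.card (JH (V0 p K) p) ∣ Nat.card ↥(Cfsg.thompsonSubgroup p ↥K) :=
    Dvd.intro _ h1
  exact (h.trans h2).trans (Subgroup.card_subgroup_dvd_card _)

/-- `C_K(V0)` is `X`-invariant -/
theorem alpha_mem_centralizer (x : ↥X) {c : ↥K} (hc : c ∈ centralizer ((V0 p K : Subgroup ↥K) : Set ↥K)) :
    NormAct.alpha K X hXK x c ∈ centralizer ((V0 p K : Subgroup ↥K) : Set ↥K) := by
  rw [← ker_pi (V0 p K), MonoidHom.mem_ker] at hc ⊢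
  rw [← xi_conj_pi K X hXK (V0 p K) x c, hc]
  group

/-- fixed points of `XX` in the image of `K` come from `C_K(X)` -/
theorem lift_fixed (hX : Cfsg.IsElementaryAbelian q X) (hq : ¬ q ∣ Nat.card K)
    {d : HolG (V0 p K)} (hd : d ∈ (pi (V0 p K)).range)
    (hdX : d ∈ centralizer ((XX K X hXK p : Subgroup (HolG (V0 p K))) : Set (HolG (V0 p K)))) :
    ∃ k : ↥K, (k : G) ∈ centralizer (X : Set G) ∧ pi (V0 p K) k = d := by
  obtain ⟨k₀, rfl⟩ := hd
  set C : Subgroup ↥K := centralizer ((V0 p K : Subgroup ↥K) : Set ↥K) with hC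
  have hker : ∀ c : ↥K, c ∈ C ↔ pi (V0 p K) c = 1 := by
    intro c
    rw [hC, ← ker_pi (V0 p K), MonoidHom.mem_ker]
  have hAD : X ≤ normalizer ((C.map K.subtype : Subgroup G) : Set G) := by
    intro x hx
    apply Cfsg.Agent.Helper10.mem_normalizer_of_finite
    rintro _ ⟨c, hc, rfl⟩
    exact ⟨NormAct.alpha K X hXK ⟨x, hx⟩ c, alpha_mem_centralizer K X hXK ⟨x, hx⟩ hc, rfl⟩
  have hcop : (Nat.card X).Coprime (Nat.card (C.map K.subtype : Subgroup G)) := by
    obtain ⟨n, hn⟩ := Cfsg.Agent.Lib.isElementaryAbelian_card_eq_pow hX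
    rw [hn]
    apply Nat.Coprime.pow_left
    rw [Nat.Prime.coprime_iff_not_dvd Fact.out]
    intro h
    apply hq
    rw [Cfsg.Agent.Helper10.card_map_of_injective _ _ K.subtype_injective] at h
    exact h.trans (Subgroup.card_subgroup_dvd_card C)
  have hsolv : Group.IsSolvable ↥X := by
    apply Group.isSolvable_of_comm
    intro a b
    exact Subtype.ext (Cfsg.Agent.Lib.isElementaryAbelian_commute hX a.2 b.2)
  have hinv : ∀ a ∈ X, ∃ d' ∈ (C.map K.subtype : Subgroup G),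
      a * (k₀ : G) * a⁻¹ = d' * (k₀ : G) := by
    intro a ha
    refine ⟨((NormAct.alpha K X hXK ⟨a, ha⟩ k₀ * k₀⁻¹ : ↥K) : G),
      ⟨NormAct.alpha K X hXK ⟨a, ha⟩ k₀ * k₀⁻¹, ?_, rfl⟩, ?_⟩
    · rw [SetLike.mem_coe, hker, map_mul, map_inv, ← xi_conj_pi K X hXK (V0 p K) ⟨a, ha⟩ k₀]
      have h1 := mem_centralizer_iff.1 hdX (xi K X hXK (V0 p K) ⟨a, ha⟩) ⟨_, rfl⟩
      rw [h1]
      group
    · simp
  obtain ⟨d', ⟨c, hc, rfl⟩, hcen⟩ :=
    Cfsg.Agent.Helper1.exists_mem_coset_centralizer X (C.map K.subtype) hAD hcop (Or.inl hsolv)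
      (k₀ : G) hinv
  refine ⟨c * k₀, hcen, ?_⟩
  rw [map_mul, (hker c).1 hc, one_mul]

end Cfsg.Agent.Helper1.Pull
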