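import Mathlib
import Cfsg.Prelude.Def_PLocal
import Cfsg.Agent.Helper1.FFPull

/-!
# KS 9.3.10: a plane with `SL(2,p)` in the fixed points of a coprime `q`-group (helper1)
-/

set_option autoImplicit false

namespace Cfsg.Agent.Helper1.Pull

open Subgroup Cfsg.Agent.Helper1.Hol Cfsg.Agent.Helper1.NormAct

variable {G : Type*} [Group G] [Finite G] {p q : ℕ} [Fact p.Prime] [Fact q.Prime]

/-- `omegaZSup_data` with the normality instance as an argument -/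
theorem omegaZSup_data' {Γ : Type*} [Group Γ] [Finite Γ] {p : ℕ} [Fact p.Prime]
    [hn : (omegaZSup p Γ).Normal] (hsep : Cfsg.IsPSolvable p Γ) (hO : Cfsg.pPrimeCore p Γ = ⊥)
    (hnf : ¬ Cfsg.IsThompsonFactorizable p Γ) :
    Cfsg.IsElementaryAbelian p (omegaZSup p Γ) ∧
      Cfsg.pCore p (Γ ⧸ centralizer ((omegaZSup p Γ : Subgroup Γ) : Set Γ)) = ⊥ ∧
      ¬ Cfsg.thompsonSubgroup p Γ ≤ centralizer ((omegaZSup p Γ : Subgroup Γ) : Set Γ) := by
  obtain ⟨_, hVe, hOq, hJ⟩ := omegaZSup_data hsep hO hnf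
  exact ⟨hVe, hOq, hJ⟩

theorem exists_fixed_plane (K X : Subgroup G) (hXK : X ≤ normalizer (K : Set G))
    (hX : Cfsg.IsElementaryAbelian q X) (hq : ¬ q ∣ Nat.card K)
    (hsep : Cfsg.IsPSolvable p ↥K) (hO : Cfsg.pPrimeCore p ↥K = ⊥)
    (hnf : ¬ Cfsg.IsThompsonFactorizable p ↥K) :
    (p = 2 ∨ p = 3) ∧ ∃ W D : Subgroup G, W ≤ K ⊓ centralizer (X : Set G) ∧
      D ≤ K ⊓ centralizer (X : Set G) ∧ Cfsg.IsElementaryAbelian p W ∧ Nat.card W = p ^ 2 ∧
      D ≤ normalizer (W : Set G) ∧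
      ∃ hn : ((centralizer (W : Set G)).subgroupOf D).Normal,
        Nonempty ((↥D ⧸ (centralizer (W : Set G)).subgroupOf D) ≃*
          Matrix.SpecialLinearGroup (Fin 2) (ZMod p)) := by
  set V₀ := V0 p K with hV₀
  obtain ⟨hVe, hOq, hJ⟩ := omegaZSup_data' (Γ := ↥K) hsep hO hnf
  have hyp : Cfsg.Agent.Helper1.FF.FFHyp p (VV (V0 p K)) (JH (V0 p K) p) :=
    JH_ffHyp (V0 p K) hsep hVe hOq hJ
  obtain ⟨W, D, hWle, hDle, hWe, hWc, hDN, hDW, ⟨e⟩⟩ :=
    hyp.exists_plane (XX K X hXK p) (XX_le_normalizer_VV K X hXK) (XX_le_normalizer_JH K X hXK)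
      (isPGroup_XX K X hXK hX) (not_dvd_card_JH K hq)
  refine ⟨hyp.p23, ?_⟩
  set W₀ : Subgroup ↥V₀ := W.comap (iota V₀) with hW₀
  have hW₀map : W₀.map (iota V₀) = W := by
    rw [hW₀, Subgroup.map_comap_eq, inf_eq_right]
    exact hWle.trans inf_le_left
  set D_K : Subgroup ↥K := D.comap (pi V₀) ⊓ (centralizer (X : Set G)).subgroupOf K with hD_K
  -- elements of `W₀` commute with `X`
  have hw1 : ∀ w ∈ W₀, ∀ x ∈ X, x * ((w : ↥K) : G) = ((w : ↥K) : G) * x := by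
    intro w hw x hx
    have h1 : iota V₀ w ∈ centralizer ((XX K X hXK p : Subgroup (HolG V₀)) : Set (HolG V₀)) :=
      (mem_inf.1 (hWle hw)).2
    have h2 := mem_centralizer_iff.1 h1 (xi K X hXK V₀ ⟨x, hx⟩) ⟨_, rfl⟩
    have h3 : xi K X hXK V₀ ⟨x, hx⟩ * iota V₀ w * (xi K X hXK V₀ ⟨x, hx⟩)⁻¹ = iota V₀ w := by
      rw [h2]; group
    rw [xi_conj_iota] at h3
    have h4 := iota_injective V₀ h3
    have h5 : x * ((w : ↥K) : G) * x⁻¹ = ((w : ↥K) : G) := by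
      have := congrArg (fun v : ↥V₀ => ((v : ↥K) : G)) h4
      simpa using this
    calc x * ((w : ↥K) : G) = x * ((w : ↥K) : G) * x⁻¹ * x := by group
      _ = ((w : ↥K) : G) * x := by rw [h5]
  -- `D_K` maps onto `D`
  have hd1 : ∀ d ∈ D, ∃ k ∈ D_K, pi V₀ k = d := by
    intro d hd
    obtain ⟨hdJ, hdX⟩ := mem_inf.1 (hDle hd)
    obtain ⟨k, hkX, hk⟩ := lift_fixed K X hXK hX hq (JH_le_range V₀ hdJ) hdX
    refine ⟨k, mem_inf.2 ⟨?_, ?_⟩, hk⟩
    · rw [mem_comap, hk]; exact hd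
    · rw [mem_subgroupOf]; exact hkX
  have hpiD : ∀ k ∈ D_K, pi V₀ k ∈ D := fun k hk => (mem_inf.1 hk).1
  -- conjugation by `D_K` preserves `W₀`
  have hconj : ∀ k ∈ D_K, ∀ w ∈ W₀, (MulAut.conjNormal k w : ↥V₀) ∈ W₀ := by
    intro k hk w hw
    rw [hW₀, mem_comap, ← conj_eq]
    exact (mem_normalizer_iff.1 (hDN (hpiD k hk)) _).1 hw
  -- centralizing `W` is the same as being in the kernel
  have hc1 : ∀ k ∈ D_K, (∀ w ∈ W₀, (k : ↥K) * (w : ↥K) = (w : ↥K) * k) → pi V₀ k = 1 := by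
    intro k hk hcomm
    have h1 : pi V₀ k ∈ D ⊓ centralizer (W : Set (HolG V₀)) := by
      refine mem_inf.2 ⟨hpiD k hk, ?_⟩
      rw [mem_centralizer_iff, ← hW₀map]
      rintro _ ⟨w, hw, rfl⟩
      exact ((comm_iff V₀ k w).2 (hcomm w hw)).symm
    rw [hDW, mem_bot] at h1
    exact h1
  have hc2 : ∀ k : ↥K, pi V₀ k = 1 → ∀ w : ↥V₀, (k : ↥K) * (w : ↥K) = (w : ↥K) * k := by
    intro k hk w
    apply (comm_iff V₀ k w).1
    rw [hk, one_mul, mul_one]
  set W_G : Subgroup G := (W₀.map V₀.subtype).map K.subtype with hW_G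
  set D_G : Subgroup G := D_K.map K.subtype with hD_G
  have hDGK : D_G ≤ K := Subgroup.map_subtype_le _
  have hmemW : ∀ y ∈ W_G, ∃ w ∈ W₀, ((w : ↥K) : G) = y := by
    rintro _ ⟨_, ⟨w, hw, rfl⟩, rfl⟩
    exact ⟨w, hw, rfl⟩
  have hmemW' : ∀ w ∈ W₀, ((w : ↥K) : G) ∈ W_G := fun w hw => ⟨_, ⟨w, hw, rfl⟩, rfl⟩
  have hDnorm : D_G ≤ normalizer (W_G : Set G) := by
    rintro _ ⟨k, hk, rfl⟩
    apply Cfsg.Agent.Helper10.mem_normalizer_of_finite
    intro y hy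
    obtain ⟨w, hw, rfl⟩ := hmemW y hy
    exact hmemW' _ (hconj k hk w hw)
  -- the homomorphism `D_G → D`
  have hψmem : ∀ g : ↥D_G, (pi V₀).comp (Subgroup.inclusion hDGK) g ∈ D := by
    rintro ⟨_, k, hk, rfl⟩
    exact hpiD k hk
  set ψ : ↥D_G →* ↥D := ((pi V₀).comp (Subgroup.inclusion hDGK)).codRestrict D hψmem with hψ
  have hψsurj : Function.Surjective ψ := by
    rintro ⟨d, hd⟩
    obtain ⟨k, hk, hkd⟩ := hd1 d hd
    refine ⟨⟨(k : G), ⟨k, hk, rfl⟩⟩, ?_⟩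
    apply Subtype.ext
    exact hkd
  have hker : ψ.ker = (centralizer (W_G : Set G)).subgroupOf D_G := by
    ext g
    rw [MonoidHom.mem_ker, mem_subgroupOf]
    obtain ⟨_, k, hk, rfl⟩ := g
    constructor
    · intro h
      have h1 : pi V₀ k = 1 := congrArg Subtype.val h
      rw [mem_centralizer_iff]
      intro y hy
      obtain ⟨w, hw, rfl⟩ := hmemW y hy
      have := hc2 k h1 w
      exact (congrArg (fun z : ↥K => (z : G)) this).symm
    · intro h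
      apply Subtype.ext
      show pi V₀ k = 1
      apply hc1 k hk
      intro w hw
      apply Subtype.ext
      exact (mem_centralizer_iff.1 h _ (hmemW' w hw)).symm
  have hn : ((centralizer (W_G : Set G)).subgroupOf D_G).Normal := by
    rw [← hker]; exact ψ.normal_ker
  refine ⟨W_G, D_G, ?_, ?_, ?_, ?_, hDnorm, hn, ?_⟩
  · refine le_inf ((Subgroup.map_subtype_le _)) ?_
    intro y hy
    obtain ⟨w, hw, rfl⟩ := hmemW y hy
    rw [mem_centralizer_iff]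
    intro x hx
    exact hw1 w hw x hx
  · refine le_inf hDGK ?_
    rintro _ ⟨k, hk, rfl⟩
    exact mem_subgroupOf.1 (mem_inf.1 hk).2
  · apply Cfsg.Agent.Helper10.isElementaryAbelian_map
    apply Cfsg.Agent.Helper10.isElementaryAbelian_map
    exact Cfsg.Agent.Helper10.isElementaryAbelian_comap hWe (iota V₀) (iota_injective V₀)
  · rw [hW_G, Cfsg.Agent.Helper10.card_map_of_injective _ _ K.subtype_injective,
      Cfsg.Agent.Helper10.card_map_of_injective _ _ V₀.subtype_injective, ← hWc, ← hW₀map,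
      card_map_iota]
  · exact ⟨((QuotientGroup.quotientMulEquivOfEq hker.symm).trans
      (QuotientGroup.quotientKerEquivOfSurjective ψ hψsurj)).trans e⟩

end Cfsg.Agent.Helper1.Pull
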