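import Mathlib
import Cfsg.Prelude.Def_PLocal
import Cfsg.Agent.Helper1.FFPlane

/-!
# KS 9.3.9: generation by `N(J(S))`, `C(Ω₁Z(S))` and `C_K(X)` (helper1)
-/

set_option autoImplicit false

namespace Cfsg.Agent.Helper1.Pull

open Subgroup Cfsg.Agent.Helper1.Hol Cfsg.Agent.Helper1.NormAct

/-- Frattini for `J(Γ)`: `Γ = J(Γ) N_Γ(J(S))` -/
theorem thompson_sup_normalizer {Γ : Type*} [Group Γ] [Finite Γ] {p : ℕ} [Fact p.Prime]
    (S : Sylow p Γ) :
    Cfsg.thompsonSubgroup p Γ ⊔ normalizer (Cfsg.thompsonSubgroupOf p (S : Subgroup Γ) : Set Γ) = ⊤ := by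
  have hJn : (Cfsg.thompsonSubgroup p Γ).Normal := thompson_normal
  have hfr := Sylow.normalizer_sup_eq_top
    (Cfsg.Agent.Helper53.sylowInfNormal S (Cfsg.thompsonSubgroup p Γ))
  rw [Cfsg.Agent.Helper53.coe_sylowInfNormal, Subgroup.subgroupOf_map_subtype, sup_comm] at hfr
  rw [eq_top_iff, ← hfr]
  refine sup_le_sup le_rfl ?_
  intro n hn
  obtain ⟨A₀, hA₀, hA₀S⟩ := Cfsg.Agent.Helper11.exists_maxElAb_le_sylow S
  rw [Cfsg.Agent.Helper10.thompsonSubgroupOf_eq_sSup hA₀ hA₀S]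
  apply Cfsg.Agent.Helper11.mem_normalizer_of_conj_mem
  have hle : sSup {A : Subgroup Γ | A ∈ Cfsg.maxElementaryAbelianSubgroups p Γ ∧ A ≤ (S : Subgroup Γ)} ≤
      (sSup {A : Subgroup Γ | A ∈ Cfsg.maxElementaryAbelianSubgroups p Γ ∧
        A ≤ (S : Subgroup Γ)}).comap (MulAut.conj n).toMonoidHom := by
    apply sSup_le
    rintro A ⟨hA, hAS⟩
    rw [← Subgroup.map_le_iff_le_comap]
    apply le_sSup
    refine ⟨Cfsg.Agent.Helper10.map_mem_maxElementaryAbelian _ hA, ?_⟩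
    rintro _ ⟨a, ha, rfl⟩
    have haK : a ∈ Cfsg.thompsonSubgroup p Γ := Cfsg.Agent.Helper10.le_thompsonSubgroup hA ha
    have h1 : a ∈ (S : Subgroup Γ) ⊓ Cfsg.thompsonSubgroup p Γ := Subgroup.mem_inf.mpr ⟨hAS ha, haK⟩
    have h2 := (Subgroup.mem_normalizer_iff.mp hn a).mp h1
    exact (Subgroup.mem_inf.mp h2).1
  intro x hx
  exact hle hx

/-- `S ≤ N(J(S))` -/
theorem sylow_le_normalizer_thompsonSubgroupOf {Γ : Type*} [Group Γ] [Finite Γ] {p : ℕ} [Fact p.Prime]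
    (S : Subgroup Γ) : S ≤ normalizer (Cfsg.thompsonSubgroupOf p S : Set Γ) := by
  intro s hs
  apply Cfsg.Agent.Helper11.mem_normalizer_of_conj_mem
  rintro _ ⟨x, hx, rfl⟩
  have hchar : (Cfsg.thompsonSubgroup p ↥S).Characteristic :=
    (Cfsg.Agent.S0602.result (G := ↥S) (p := p)).1
  have hn : (Cfsg.thompsonSubgroup p ↥S).Normal := inferInstance
  refine ⟨⟨s, hs⟩ * x * ⟨s, hs⟩⁻¹, hn.conj_mem x hx ⟨s, hs⟩, ?_⟩
  simp

/-- a `p`-subgroup of the image of a normal subgroup `J` is conjugate, under the image of `J`, into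
the image of a given Sylow `p`-subgroup -/
theorem exists_conj_le_map_sylow {Γ : Type*} [Group Γ] [Finite Γ] {H₀ : Type*} [Group H₀] [Finite H₀]
    {p : ℕ} [Fact p.Prime] (π : Γ →* H₀) (J : Subgroup Γ) [J.Normal] (S : Sylow p Γ)
    (A : Subgroup H₀) (hAJ : A ≤ J.map π) (hA : IsPGroup p A) :
    ∃ h ∈ J.map π, A.map (MulAut.conj h).toMonoidHom ≤ (S : Subgroup Γ).map π := by
  set Q₀ : Sylow p ↥J := Cfsg.Agent.Helper53.sylowInfNormal S J with hQ₀
  have hsurj : Function.Surjective (π.subgroupMap J) := MonoidHom.subgroupMap_surjective π J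
  set Q₁ : Sylow p ↥(J.map π) := Q₀.mapSurjective hsurj with hQ₁
  have hA' : IsPGroup p (A.subgroupOf (J.map π)) :=
    hA.comap_of_injective (J.map π).subtype (Subgroup.subtype_injective _)
  obtain ⟨Q', hQ'⟩ := hA'.exists_le_sylow
  obtain ⟨g, hg⟩ := MulAction.exists_smul_eq ↥(J.map π) Q' Q₁
  refine ⟨(g : H₀), g.2, ?_⟩
  rintro _ ⟨a, ha, rfl⟩
  have h1 : (⟨a, hAJ ha⟩ : ↥(J.map π)) ∈ (Q' : Subgroup ↥(J.map π)) :=
    hQ' (mem_subgroupOf.2 ha)
  have h2 : g * ⟨a, hAJ ha⟩ * g⁻¹ ∈ ((g • Q' : Sylow p ↥(J.map π)) : Subgroup ↥(J.map π)) := by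
    rw [Cfsg.Agent.Helper11.mem_smul_sylow_iff]
    have : g⁻¹ * (g * ⟨a, hAJ ha⟩ * g⁻¹) * g = ⟨a, hAJ ha⟩ := by group
    rw [this]
    exact h1
  rw [hg, hQ₁, Sylow.coe_mapSurjective] at h2
  obtain ⟨j, hj, hjg⟩ := h2
  rw [hQ₀, Cfsg.Agent.Helper53.coe_sylowInfNormal, SetLike.mem_coe, mem_subgroupOf] at hj
  refine ⟨(j : Γ), hj, ?_⟩
  have := congrArg (fun z : ↥(J.map π) => (z : H₀)) hjg
  simpa using this

variable {G : Type*} [Group G] [Finite G] {p q : ℕ} [Fact p.Prime] [Fact q.Prime]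

theorem generation (K X : Subgroup G) (hXK : X ≤ normalizer (K : Set G))
    (hX : Cfsg.IsElementaryAbelian q X) (hq : ¬ q ∣ Nat.card K)
    (hsep : Cfsg.IsPSolvable p ↥K) (hO : Cfsg.pPrimeCore p ↥K = ⊥) (S : Sylow p ↥K) :
    (normalizer (Cfsg.thompsonSubgroupOf p (S : Subgroup ↥K) : Set ↥K) ⊔
      centralizer (Cfsg.omegaOne p ((S : Subgroup ↥K) ⊓
        centralizer ((S : Subgroup ↥K) : Set ↥K)) : Set ↥K) ⊔
      (centralizer (X : Set G)).subgroupOf K) = ⊤ := by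
  by_cases hnf : Cfsg.IsThompsonFactorizable p ↥K
  · rw [eq_top_iff]
    intro g _
    obtain ⟨x, hx, c, hc, n, hn, hg⟩ := hnf S g
    rw [hO, mem_bot] at hx
    rw [hx, one_mul] at hg
    rw [hg]
    refine mul_mem ?_ ?_
    · exact (le_sup_right.trans le_sup_left :
        centralizer (Cfsg.omegaOne p ((S : Subgroup ↥K) ⊓
          centralizer ((S : Subgroup ↥K) : Set ↥K)) : Set ↥K) ≤ _) hc
    · exact (le_sup_left.trans le_sup_left :
        normalizer (Cfsg.thompsonSubgroupOf p (S : Subgroup ↥K) : Set ↥K) ≤ _) hn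
  · obtain ⟨L, hL⟩ : ∃ L : Subgroup ↥K, L =
        normalizer (Cfsg.thompsonSubgroupOf p (S : Subgroup ↥K) : Set ↥K) ⊔
        centralizer (Cfsg.omegaOne p ((S : Subgroup ↥K) ⊓
          centralizer ((S : Subgroup ↥K) : Set ↥K)) : Set ↥K) ⊔
        (centralizer (X : Set G)).subgroupOf K := ⟨_, rfl⟩
    rw [← hL]
    have hNL : normalizer (Cfsg.thompsonSubgroupOf p (S : Subgroup ↥K) : Set ↥K) ≤ L := by
      rw [hL]; exact le_sup_left.trans le_sup_left
    have hCL : centralizer (Cfsg.omegaOne p ((S : Subgroup ↥K) ⊓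
          centralizer ((S : Subgroup ↥K) : Set ↥K)) : Set ↥K) ≤ L := by
      rw [hL]; exact le_sup_right.trans le_sup_left
    have hXL : (centralizer (X : Set G)).subgroupOf K ≤ L := by
      rw [hL]; exact le_sup_right
    obtain ⟨hVe, hOq, hJ⟩ := omegaZSup_data' (Γ := ↥K) hsep hO hnf
    have hyp : Cfsg.Agent.Helper1.FF.FFHyp p (VV (V0 p K)) (JH (V0 p K) p) :=
      JH_ffHyp (V0 p K) hsep hVe hOq hJ
    -- the kernel lies in `L`
    have hker : (pi (V0 p K)).ker ≤ L := by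
      rw [ker_pi]
      refine le_trans (centralizer_le ?_) hCL
      exact le_iSup (fun S : Sylow p ↥K => Cfsg.omegaOne p ((S : Subgroup ↥K) ⊓
        centralizer ((S : Subgroup ↥K) : Set ↥K))) S
    have hSL : (S : Subgroup ↥K) ≤ L :=
      (sylow_le_normalizer_thompsonSubgroupOf (p := p) (S : Subgroup ↥K)).trans hNL
    have hJn : (Cfsg.thompsonSubgroup p ↥K).Normal := thompson_normal
    -- minimal offenders are conjugate into the image of `S`
    have hP : ∀ A : Subgroup (HolG (V0 p K)),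
        Cfsg.Agent.Helper1.AutInv.IsMinOff p (VV (V0 p K)) (JH (V0 p K) p) A →
        ∃ h ∈ JH (V0 p K) p, A.map (MulAut.conj h).toMonoidHom ≤
          (S : Subgroup ↥K).map (pi (V0 p K)) := by
      intro A hA
      have hcard : Nat.card A = p :=
        (Cfsg.Agent.S0611.result (VV (V0 p K)) (JH (V0 p K) p) hyp.hV hyp.hHV hyp.hf hyp.hS1 hyp.hS3
          hyp.hH1 A hA.1 hA.2.1 hA.2.2.1 hA.2.2.2).1
      have hAp : IsPGroup p A := IsPGroup.of_card (n := 1) (by rw [hcard, pow_one])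
      exact exists_conj_le_map_sylow (pi (V0 p K)) (Cfsg.thompsonSubgroup p ↥K) S A hA.1 hAp
    have h1 := hyp.le_sup_fixed (XX K X hXK p) (XX_le_normalizer_VV K X hXK)
      (XX_le_normalizer_JH K X hXK) (isPGroup_XX K X hXK hX) (not_dvd_card_JH K hq)
      ((S : Subgroup ↥K).map (pi (V0 p K))) hP
    -- hence the image of `J` lies in the image of `L`
    have h2 : JH (V0 p K) p ≤ L.map (pi (V0 p K)) := by
      refine h1.trans (sup_le (Subgroup.map_mono hSL) ?_)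
      intro d hd
      obtain ⟨hdJ, hdX⟩ := mem_inf.1 hd
      obtain ⟨k, hkX, hk⟩ := lift_fixed K X hXK hX hq (JH_le_range (V0 p K) hdJ) hdX
      exact ⟨k, hXL (mem_subgroupOf.2 hkX), hk⟩
    have h3 : Cfsg.thompsonSubgroup p ↥K ≤ L := by
      have h4 : Cfsg.thompsonSubgroup p ↥K ≤ (L.map (pi (V0 p K))).comap (pi (V0 p K)) := by
        rw [← Subgroup.map_le_iff_le_comap]
        exact h2
      rw [Subgroup.comap_map_eq] at h4
      exact h4.trans (sup_le le_rfl hker)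
    rw [eq_top_iff, ← thompson_sup_normalizer (p := p) S]
    exact sup_le h3 hNL

end Cfsg.Agent.Helper1.Pull
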