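import Mathlib

/-!
# The averaging argument for a fixed-point-free automorphism of prime order (helper1)

`Z` a finite group acting on a finite commutative group `U`, both carrying compatible endomorphisms
`φZ`, `φU` with `φU` fixed-point-free, `φU ^ r = 1`, and `φZ ^ k` fixed-point-free for `0 < k < r`.
Then `Z` fixes `v ^ |Z|` for every `v : U`; if `|Z|` is prime to `|U|`, `Z` acts trivially on `U`.
-/

set_option autoImplicit false

namespace Cfsg.Agent.Helper1

open Finset

theorem list_prod_map_range_eq_finset_prod {U : Type*} [CommMonoid U] (f : ℕ → U) (r : ℕ) :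
    ((List.range r).map f).prod = ∏ k ∈ Finset.range r, f k := by
  induction r with
  | zero => simp
  | succ n ih => rw [List.range_succ, List.map_append, List.prod_append, ih, Finset.prod_range_succ]; simp

theorem fpf_average {Z U : Type*} [Group Z] [Fintype Z] [CommGroup U] (act : Z →* MulAut U)
    (r : ℕ) (φZ : Z →* Z) (φU : U →* U)
    (hfZ : ∀ k, 0 < k → k < r → ∀ z, φZ^[k] z = z → z = 1)
    (hfU : MonoidHom.FixedPointFree φU) [Finite U] (hrU : (⇑φU)^[r] = id)
    (hcompat : ∀ z u, φU (act z u) = act (φZ z) (φU u))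
    (hr : 0 < r) (v : U) (z' : Z) : act z' (v ^ Fintype.card Z) = v ^ Fintype.card Z := by
  classical
  -- iterates
  have hit : ∀ k z u, (⇑φU)^[k] (act z u) = act ((⇑φZ)^[k] z) ((⇑φU)^[k] u) := by
    intro k
    induction k with
    | zero => intro z u; rfl
    | succ n ih =>
      intro z u
      rw [Function.iterate_succ_apply', Function.iterate_succ_apply', Function.iterate_succ_apply', ih,
        hcompat]
  -- the basic identity for each `z`
  have h1 : ∀ z : Z, ∏ k ∈ Finset.range r, act (z⁻¹ * (⇑φZ)^[k] z) ((⇑φU)^[k] v) = 1 := by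
    intro z
    have h := hfU.prod_pow_eq_one hrU (act z v)
    rw [list_prod_map_range_eq_finset_prod] at h
    have h2 := congrArg (act z⁻¹) h
    rw [map_prod, map_one] at h2
    rw [← h2]
    apply Finset.prod_congr rfl
    intro k _
    rw [hit, map_mul, MulAut.mul_apply]
  -- the trace
  set T : U → U := fun x => ∏ z : Z, act z x with hT
  have hTfix : ∀ x, act z' (T x) = T x := by
    intro x
    rw [hT]
    simp only
    rw [map_prod]
    have : ∀ z : Z, act z' (act z x) = act (z' * z) x := by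
      intro z
      rw [map_mul, MulAut.mul_apply]
    simp_rw [this]
    exact Fintype.prod_equiv (Equiv.mulLeft z') _ _ (fun z => rfl)
  -- swap the products
  have h2 : ∏ k ∈ Finset.range r, ∏ z : Z, act (z⁻¹ * (⇑φZ)^[k] z) ((⇑φU)^[k] v) = 1 := by
    rw [Finset.prod_comm]
    exact Finset.prod_eq_one fun z _ => h1 z
  -- evaluate the inner products
  have h3 : ∀ k, 0 < k → k < r →
      ∏ z : Z, act (z⁻¹ * (⇑φZ)^[k] z) ((⇑φU)^[k] v) = T ((⇑φU)^[k] v) := by
    intro k hk0 hkr
    have hinj : Function.Injective (fun z : Z => z⁻¹ * (⇑φZ)^[k] z) := by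
      intro a b hab
      simp only at hab
      have hfix : (⇑φZ)^[k] (b * a⁻¹) = b * a⁻¹ := by
        rw [iterate_map_mul, iterate_map_inv]
        have : (⇑φZ)^[k] b = b * a⁻¹ * (⇑φZ)^[k] a := by
          rw [mul_assoc, hab, mul_inv_cancel_left]
        rw [this, mul_assoc, mul_inv_cancel, mul_one]
      have := hfZ k hk0 hkr _ hfix
      exact (mul_inv_eq_one.mp this).symm
    have hbij : Function.Bijective (fun z : Z => z⁻¹ * (⇑φZ)^[k] z) :=
      Finite.injective_iff_bijective.mp hinj
    exact Fintype.prod_bijective _ hbij _ _ (fun z => rfl)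
  -- conclude
  obtain ⟨n, rfl⟩ : ∃ n, r = n + 1 := ⟨r - 1, by omega⟩
  rw [Finset.prod_range_succ'] at h2
  have h4 : ∏ z : Z, act (z⁻¹ * (⇑φZ)^[0] z) ((⇑φU)^[0] v) = v ^ Fintype.card Z := by
    simp only [Function.iterate_zero, id_eq, inv_mul_cancel, map_one, MulAut.one_apply,
      Finset.prod_const, Finset.card_univ]
  rw [h4] at h2
  have h5 : ∏ k ∈ Finset.range n, ∏ z : Z, act (z⁻¹ * (⇑φZ)^[k + 1] z) ((⇑φU)^[k + 1] v) =
      ∏ k ∈ Finset.range n, T ((⇑φU)^[k + 1] v) := by
    apply Finset.prod_congr rfl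
    intro k hk
    exact h3 (k + 1) (Nat.succ_pos k) (Nat.succ_lt_succ (Finset.mem_range.mp hk))
  rw [h5] at h2
  have h6 : v ^ Fintype.card Z = (∏ k ∈ Finset.range n, T ((⇑φU)^[k + 1] v))⁻¹ :=
    eq_inv_of_mul_eq_one_right h2
  rw [h6, map_inv, map_prod]
  congr 1
  exact Finset.prod_congr rfl fun k _ => hTfix _

theorem fpf_average_trivial {Z U : Type*} [Group Z] [Fintype Z] [CommGroup U] (act : Z →* MulAut U)
    (r : ℕ) (φZ : Z →* Z) (φU : U →* U)
    (hfZ : ∀ k, 0 < k → k < r → ∀ z, φZ^[k] z = z → z = 1)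
    (hfU : MonoidHom.FixedPointFree φU) [Finite U] (hrU : (⇑φU)^[r] = id)
    (hcompat : ∀ z u, φU (act z u) = act (φZ z) (φU u))
    (hr : 0 < r) (hcop : (Nat.card U).Coprime (Fintype.card Z)) (v : U) (z' : Z) : act z' v = v := by
  obtain ⟨u, hu⟩ := (powCoprime hcop).surjective v
  have hu' : u ^ Fintype.card Z = v := hu
  rw [← hu']
  exact fpf_average act r φZ φU hfZ hfU hrU hcompat hr u z'

end Cfsg.Agent.Helper1
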