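import Cfsg.Agent.Helper1.FpfAbstract
import Cfsg.Agent.S0032

/-!
# Fixed-point-free automorphisms `φ` with `φ ^ r = 1`: invariant subgroups, restriction, quotients
(helper1)
-/

set_option autoImplicit false
set_option linter.unusedSectionVars false

namespace Cfsg.Agent.Helper1

open Subgroup

universe u

variable {G : Type u} [Group G]

/-- `φ` is fixed-point-free and `φ ^ r = 1` -/
def Fpf (r : ℕ) (φ : G ≃* G) : Prop :=
  MonoidHom.FixedPointFree (φ : G →* G) ∧ (⇑φ)^[r] = id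

/-- `H` is `φ`-invariant -/
def Inv (φ : G ≃* G) (H : Subgroup G) : Prop := H.map (φ : G →* G) = H

theorem Inv.mem_iff {φ : G ≃* G} {H : Subgroup G} (h : Inv φ H) {x : G} : φ x ∈ H ↔ x ∈ H := by
  constructor
  · intro hx
    rw [← h] at hx
    obtain ⟨y, hy, hyx⟩ := hx
    have : y = x := φ.injective hyx
    rwa [← this]
  · intro hx
    rw [← h]
    exact ⟨x, hx, rfl⟩

theorem inv_of_forall [Finite G] {φ : G ≃* G} {H : Subgroup G} (h : ∀ x ∈ H, φ x ∈ H) : Inv φ H := by
  unfold Inv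
  apply Subgroup.eq_of_le_of_card_ge
  · rintro _ ⟨x, hx, rfl⟩
    exact h x hx
  · exact (Subgroup.card_map_of_injective (f := (φ : G →* G)) φ.injective).ge

theorem inv_top (φ : G ≃* G) : Inv φ (⊤ : Subgroup G) := by
  unfold Inv
  rw [← MonoidHom.range_eq_map, MonoidHom.range_eq_top]
  exact φ.surjective

theorem inv_of_characteristic (φ : G ≃* G) (H : Subgroup G) [hH : H.Characteristic] : Inv φ H :=
  Subgroup.characteristic_iff_map_eq.mp hH φ

theorem Inv.normalizer {φ : G ≃* G} {H : Subgroup G} (h : Inv φ H) :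
    Inv φ (normalizer (H : Set G)) := by
  unfold Inv at h ⊢
  have := Subgroup.map_equiv_normalizer_eq H φ
  have h' : H.map φ.toMonoidHom = H := h
  rw [h'] at this
  exact this

theorem Inv.centralizer [Finite G] {φ : G ≃* G} {H : Subgroup G} (h : Inv φ H) :
    Inv φ (centralizer (H : Set G)) := by
  apply inv_of_forall
  intro x hx
  rw [Subgroup.mem_centralizer_iff] at hx ⊢
  intro y hy
  obtain ⟨y', rfl⟩ := φ.surjective y
  have hy' : y' ∈ H := h.mem_iff.mp hy
  rw [← map_mul, ← map_mul, hx y' hy']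

theorem Inv.sup {φ : G ≃* G} {H K : Subgroup G} (hH : Inv φ H) (hK : Inv φ K) : Inv φ (H ⊔ K) := by
  unfold Inv at *
  rw [Subgroup.map_sup, hH, hK]

theorem Inv.inf {φ : G ≃* G} {H K : Subgroup G} (hH : Inv φ H) (hK : Inv φ K) : Inv φ (H ⊓ K) := by
  unfold Inv at *
  rw [Subgroup.map_inf _ _ _ φ.injective, hH, hK]

/-- the restriction of `φ` to an invariant subgroup -/
noncomputable def resEquiv (φ : G ≃* G) (H : Subgroup G) (h : Inv φ H) : ↥H ≃* ↥H :=
  (φ.subgroupMap H).trans (MulEquiv.subgroupCongr h)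

@[simp]
theorem coe_resEquiv (φ : G ≃* G) (H : Subgroup G) (h : Inv φ H) (x : ↥H) :
    ((resEquiv φ H h x : ↥H) : G) = φ x := rfl

theorem coe_resEquiv_iterate (φ : G ≃* G) (H : Subgroup G) (h : Inv φ H) (k : ℕ) (x : ↥H) :
    (((⇑(resEquiv φ H h))^[k] x : ↥H) : G) = (⇑φ)^[k] x := by
  induction k with
  | zero => rfl
  | succ n ih => rw [Function.iterate_succ_apply', Function.iterate_succ_apply', coe_resEquiv, ih]

theorem Fpf.restrict {r : ℕ} {φ : G ≃* G} (hφ : Fpf r φ) (H : Subgroup G) (h : Inv φ H) :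
    Fpf r (resEquiv φ H h) := by
  refine ⟨?_, ?_⟩
  · intro x hx
    have h1 : φ (x : G) = x := congrArg Subtype.val hx
    have h2 := hφ.1 (x : G) h1
    exact Subtype.ext h2
  · funext x
    apply Subtype.ext
    rw [coe_resEquiv_iterate, hφ.2]
    rfl

/-- the automorphism induced on the quotient by an invariant normal subgroup -/
noncomputable def quotEquiv (φ : G ≃* G) (N : Subgroup G) [N.Normal] (h : Inv φ N) : G ⧸ N ≃* G ⧸ N :=
  QuotientGroup.congr N N φ h

@[simp]
theorem quotEquiv_mk (φ : G ≃* G) (N : Subgroup G) [N.Normal] (h : Inv φ N) (x : G) :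
    quotEquiv φ N h (x : G ⧸ N) = ((φ x : G) : G ⧸ N) := rfl

theorem quotEquiv_iterate_mk (φ : G ≃* G) (N : Subgroup G) [N.Normal] (h : Inv φ N) (k : ℕ) (x : G) :
    (⇑(quotEquiv φ N h))^[k] (x : G ⧸ N) = (((⇑φ)^[k] x : G) : G ⧸ N) := by
  induction k with
  | zero => rfl
  | succ n ih => rw [Function.iterate_succ_apply', Function.iterate_succ_apply', ih, quotEquiv_mk]

theorem Fpf.quotient [Finite G] {r : ℕ} {φ : G ≃* G} (hφ : Fpf r φ) (N : Subgroup G) [N.Normal]
    (h : Inv φ N) : Fpf r (quotEquiv φ N h) := by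
  refine ⟨?_, ?_⟩
  · intro x hx
    induction x using QuotientGroup.induction_on with
    | H x =>
      have h1 : ((φ x : G) : G ⧸ N) = (x : G ⧸ N) := hx
      have h2 : (φ x)⁻¹ * x ∈ N := QuotientGroup.eq.mp h1
      have h3 := Cfsg.Agent.S0032.result φ hφ.1 N (fun n hn => h.mem_iff.mpr hn) x h2
      exact (QuotientGroup.eq_one_iff x).mpr h3
  · funext x
    induction x using QuotientGroup.induction_on with
    | H x =>
      rw [quotEquiv_iterate_mk, hφ.2]
      rfl

/-- all nontrivial powers of `φ` are fixed-point-free -/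
theorem Fpf.pow_fpf {r : ℕ} (hr : r.Prime) {φ : G ≃* G} (hφ : Fpf r φ) (k : ℕ) (hk0 : 0 < k)
    (hkr : k < r) (x : G) (hx : (⇑φ)^[k] x = x) : x = 1 := by
  have h1 : Function.IsPeriodicPt (⇑φ) k x := hx
  have h2 : Function.IsPeriodicPt (⇑φ) r x := by
    show (⇑φ)^[r] x = x
    rw [hφ.2]
    rfl
  have h3 := h1.gcd h2
  have hcop : Nat.gcd k r = 1 :=
    (hr.coprime_iff_not_dvd.mpr (Nat.not_dvd_of_pos_of_lt hk0 hkr)).symm
  rw [hcop] at h3
  have h4 : (⇑φ)^[1] x = x := h3
  rw [Function.iterate_one] at h4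
  exact hφ.1 x h4

end Cfsg.Agent.Helper1
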