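import Cfsg.Agent.Helper1.FpfBasic

/-!
# Fixed-point-free automorphisms of prime order: an invariant subgroup `Z` normalizing (here: inside a group
with) an invariant normal abelian subgroup `N` of coprime order centralizes it (helper1)
-/

set_option autoImplicit false
set_option linter.unusedSectionVars false
set_option linter.style.haveILetI false

namespace Cfsg.Agent.Helper1

open Subgroup

universe u

variable {G : Type u} [Group G]

theorem Fpf.centralizes [Finite G] {r : ℕ} (hr : r.Prime) {φ : G ≃* G} (hφ : Fpf r φ)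
    (N : Subgroup G) [hNn : N.Normal] (hNc : ∀ a ∈ N, ∀ b ∈ N, a * b = b * a) (hN : Inv φ N)
    (Z : Subgroup G) (hZ : Inv φ Z) (hcop : (Nat.card N).Coprime (Nat.card Z)) :
    ∀ z ∈ Z, ∀ v ∈ N, z * v * z⁻¹ = v := by
  classical
  letI : CommGroup ↥N :=
    { (inferInstance : Group ↥N) with mul_comm := fun a b => Subtype.ext (hNc a a.2 b b.2) }
  haveI : Fintype ↥Z := Fintype.ofFinite _
  intro z hz v hv
  have hφZ := hφ.restrict Z hZ
  have hφN := hφ.restrict N hN
  have key := fpf_average_trivial (Z := ↥Z) (U := ↥N) ((MulAut.conjNormal (H := N)).comp Z.subtype) r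
    ((resEquiv φ Z hZ : ↥Z ≃* ↥Z) : ↥Z →* ↥Z) ((resEquiv φ N hN : ↥N ≃* ↥N) : ↥N →* ↥N)
    (fun k hk0 hkr z hz => hφZ.pow_fpf hr k hk0 hkr z hz) hφN.1 hφN.2
    (fun z u => by
      apply Subtype.ext
      simp only [MonoidHom.coe_coe, coe_resEquiv, MonoidHom.coe_comp, Function.comp_apply,
        Subgroup.coe_subtype, MulAut.conjNormal_apply, map_mul, map_inv])
    hr.pos (by rw [← Nat.card_eq_fintype_card]; exact hcop) ⟨v, hv⟩ ⟨z, hz⟩
  have := congrArg Subtype.val key
  simpa [MulAut.conjNormal_apply] using this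

end Cfsg.Agent.Helper1
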