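import Mathlib
import Cfsg.Prelude.Def_Solvable
import Cfsg.Agent.Helper63.Frobenius

set_option autoImplicit false

namespace Cfsg.Agent.Helper1

open Cfsg.Agent.Helper63

variable {G : Type*} [Group G]

/-- the Frobenius kernel is stable under conjugation -/
theorem frobeniusKernel_conj_mem (H : Subgroup G) {x : G} (hx : x ∈ Cfsg.frobeniusKernel H)
    (y : G) : y⁻¹ * x * y ∈ Cfsg.frobeniusKernel H := by
  rw [mem_frobeniusKernel_iff] at hx ⊢
  rcases hx with rfl | hx
  · left; group
  · right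
    intro g hg
    apply hx (y * g)
    have : (y * g)⁻¹ * x * (y * g) = g⁻¹ * (y⁻¹ * x * y) * g := by group
    rw [this]; exact hg

/-- `H ≠ ⊤`-free version: an element of a Frobenius complement lying in the kernel is trivial -/
theorem eq_one_of_mem_of_mem_frobeniusKernel (H : Subgroup G) {x : G} (hx : x ∈ H)
    (hxK : x ∈ Cfsg.frobeniusKernel H) : x = 1 := by
  rw [mem_frobeniusKernel_iff] at hxK
  rcases hxK with h | h
  · exact h
  · exfalso
    apply h 1
    simpa using hx

/-- For an involution `t` of a Frobenius complement `H` and `g ∉ H`, the product `t * t^g`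
lies in the Frobenius kernel. -/
theorem frob_invol_mul_conj_mem_kernel {H : Subgroup G} (hH : Cfsg.IsFrobeniusComplement H)
    {t : G} (ht : t ∈ H) (ht1 : t ≠ 1) (ht2 : t * t = 1) {g : G} (hg : g ∉ H) :
    t * (g * t * g⁻¹) ∈ Cfsg.frobeniusKernel H := by
  rw [mem_frobeniusKernel_iff]
  by_cases hz : t * (g * t * g⁻¹) = 1
  · left; exact hz
  right
  intro y hy
  have htinv : t⁻¹ = t := inv_eq_of_mul_eq_one_right ht2
  set u := g * t * g⁻¹ with hu
  have hu2 : u * u = 1 := by
    rw [hu]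
    have : g * t * g⁻¹ * (g * t * g⁻¹) = g * (t * t) * g⁻¹ := by group
    rw [this, ht2]; group
  have huinv : u⁻¹ = u := inv_eq_of_mul_eq_one_right hu2
  have hu1 : u ≠ 1 := by
    intro h
    apply ht1
    have : t = g⁻¹ * u * g := by rw [hu]; group
    rw [this, h]; group
  -- `z⁻¹ = u * t`
  have hzinv : (t * u)⁻¹ = u * t := by rw [mul_inv_rev, htinv, huinv]
  have hyinv : y⁻¹ * (u * t) * y ∈ H := by
    have := H.inv_mem hy
    rw [show (y⁻¹ * (t * u) * y)⁻¹ = y⁻¹ * (t * u)⁻¹ * y by group, hzinv] at this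
    exact this
  -- conjugating by `t * y`
  have h1 : (t * y)⁻¹ * (t * u) * (t * y) ∈ H := by
    have : (t * y)⁻¹ * (t * u) * (t * y) = y⁻¹ * (t⁻¹ * t * u * t) * y := by group
    rw [this, inv_mul_cancel, one_mul]; exact hyinv
  have h2 : (u * y)⁻¹ * (t * u) * (u * y) ∈ H := by
    have : (u * y)⁻¹ * (t * u) * (u * y) = y⁻¹ * (u⁻¹ * t * (u * u)) * y := by group
    rw [this, hu2, mul_one, huinv]; exact hyinv
  have h3 : y⁻¹ * (t * y) ∈ H := frob_conj_eq hH hz hy h1
  have h4 : y⁻¹ * (u * y) ∈ H := frob_conj_eq hH hz hy h2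
  have hyH : y ∈ H := by
    apply frob_mem_of_conj hH ht1 ht
    rw [mul_assoc]; exact h3
  have huH : u ∈ H := by
    have : u = y * (y⁻¹ * (u * y)) * y⁻¹ := by group
    rw [this]
    exact H.mul_mem (H.mul_mem hyH h4) (H.inv_mem hyH)
  apply hg
  apply frob_mem_of_conj hH hu1 huH
  have : g⁻¹ * u * g = t := by rw [hu]; group
  rw [this]; exact ht

/-- every element of the Frobenius kernel is `1` or of the form `t * t^g` with `g ∉ H`. -/
theorem frob_kernel_eq_invol_mul_conj [Finite G] {H : Subgroup G}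
    (hH : Cfsg.IsFrobeniusComplement H)
    {t : G} (ht : t ∈ H) (ht1 : t ≠ 1) (ht2 : t * t = 1) {k : G}
    (hk : k ∈ Cfsg.frobeniusKernel H) : k = 1 ∨ ∃ g, g ∉ H ∧ k = t * (g * t * g⁻¹) := by
  classical
  have htinv : t⁻¹ = t := inv_eq_of_mul_eq_one_right ht2
  have hout : ∀ q : G ⧸ H, q ≠ ((1 : G) : G ⧸ H) → q.out ∉ H := by
    intro q hq hmem
    apply hq
    rw [← QuotientGroup.out_eq' q, QuotientGroup.eq]
    simpa using hmem
  let f : G ⧸ H → Cfsg.frobeniusKernel H := fun q =>
    if hq : q = ((1 : G) : G ⧸ H) then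
      ⟨1, (mem_frobeniusKernel_iff H 1).mpr (Or.inl rfl)⟩
    else ⟨t * (q.out * t * q.out⁻¹), frob_invol_mul_conj_mem_kernel hH ht ht1 ht2 (hout q hq)⟩
  have hne : ∀ x : G, x ∉ H → t * (x * t * x⁻¹) ≠ 1 := by
    intro x hx h
    apply hx
    apply frob_mem_of_conj hH ht1 ht
    have h2 : x * t * x⁻¹ = t := by
      have := congrArg (fun z => t * z) h
      simp only [← mul_assoc, ht2, one_mul, mul_one] at this
      rw [this]
    have : x⁻¹ * t * x = x⁻¹ * (x * t * x⁻¹) * x := by rw [h2]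
    rw [this]
    have : x⁻¹ * (x * t * x⁻¹) * x = t := by group
    rw [this]; exact ht
  have hf : Function.Injective f := by
    intro q q' hqq
    by_cases hq : q = ((1 : G) : G ⧸ H) <;> by_cases hq' : q' = ((1 : G) : G ⧸ H)
    · rw [hq, hq']
    · exfalso
      simp only [f, hq, hq', dif_pos, dif_neg, not_false_eq_true] at hqq
      have := congrArg Subtype.val hqq
      exact hne _ (hout q' hq') this.symm
    · exfalso
      simp only [f, hq, hq', dif_pos, dif_neg, not_false_eq_true] at hqq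
      have := congrArg Subtype.val hqq
      exact hne _ (hout q hq) this
    · simp only [f, hq, hq', dif_neg, not_false_eq_true] at hqq
      have h1 := congrArg Subtype.val hqq
      simp only at h1
      have h2 : q.out * t * q.out⁻¹ = q'.out * t * q'.out⁻¹ := mul_left_cancel h1
      rw [← QuotientGroup.out_eq' q, ← QuotientGroup.out_eq' q', QuotientGroup.eq]
      apply frob_mem_of_conj hH ht1 ht
      have : (q.out⁻¹ * q'.out)⁻¹ * t * (q.out⁻¹ * q'.out)
          = q'.out⁻¹ * (q.out * t * q.out⁻¹) * q'.out := by group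
      rw [this, h2]
      have : q'.out⁻¹ * (q'.out * t * q'.out⁻¹) * q'.out = t := by group
      rw [this]; exact ht
  have hcard : Nat.card (Cfsg.frobeniusKernel H) ≤ Nat.card (G ⧸ H) := by
    rw [Nat.card_coe_set_eq, frob_card_kernel hH, Subgroup.index_eq_card]
  haveI : Finite (Cfsg.frobeniusKernel H) := Finite.of_injective _ Subtype.val_injective
  have hbij := hf.bijective_of_nat_card_le hcard
  obtain ⟨q, hq⟩ := hbij.2 ⟨k, hk⟩
  by_cases hq1 : q = ((1 : G) : G ⧸ H)
  · left
    simp only [f, hq1, dif_pos] at hq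
    exact (congrArg Subtype.val hq).symm
  · right
    simp only [f, hq1, dif_neg, not_false_eq_true] at hq
    exact ⟨q.out, hout q hq1, (congrArg Subtype.val hq).symm⟩

/-- an involution of a Frobenius complement inverts the Frobenius kernel -/
theorem frob_invol_inverts_kernel [Finite G] {H : Subgroup G}
    (hH : Cfsg.IsFrobeniusComplement H)
    {t : G} (ht : t ∈ H) (ht1 : t ≠ 1) (ht2 : t * t = 1) {k : G}
    (hk : k ∈ Cfsg.frobeniusKernel H) : t * k * t = k⁻¹ := by
  have htinv : t⁻¹ = t := inv_eq_of_mul_eq_one_right ht2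
  rcases frob_kernel_eq_invol_mul_conj hH ht ht1 ht2 hk with rfl | ⟨g, -, rfl⟩
  · simp [ht2]
  · have hu2 : (g * t * g⁻¹) * (g * t * g⁻¹) = 1 := by
      have : g * t * g⁻¹ * (g * t * g⁻¹) = g * (t * t) * g⁻¹ := by group
      rw [this, ht2]; group
    have huinv : (g * t * g⁻¹)⁻¹ = g * t * g⁻¹ := inv_eq_of_mul_eq_one_right hu2
    rw [mul_inv_rev, htinv, huinv, ← mul_assoc, ← mul_assoc, ht2, one_mul]

/-- any conjugate of an involution of a Frobenius complement inverts the Frobenius kernel -/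
theorem frob_conj_invol_inverts_kernel [Finite G] {H : Subgroup G}
    (hH : Cfsg.IsFrobeniusComplement H)
    {t : G} (ht : t ∈ H) (ht1 : t ≠ 1) (ht2 : t * t = 1) (g : G) {k : G}
    (hk : k ∈ Cfsg.frobeniusKernel H) : (g * t * g⁻¹) * k * (g * t * g⁻¹) = k⁻¹ := by
  have h := frob_invol_inverts_kernel hH ht ht1 ht2 (frobeniusKernel_conj_mem H hk g)
  have : g * t * g⁻¹ * k * (g * t * g⁻¹) = g * (t * (g⁻¹ * k * g) * t) * g⁻¹ := by group
  rw [this, h]; group

/-- if a Frobenius complement has an involution, the Frobenius kernel is a commuting set -/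
theorem frob_kernel_commute [Finite G] {H : Subgroup G}
    (hH : Cfsg.IsFrobeniusComplement H)
    {t : G} (ht : t ∈ H) (ht1 : t ≠ 1) (ht2 : t * t = 1) {a b : G}
    (ha : a ∈ Cfsg.frobeniusKernel H) (hb : b ∈ Cfsg.frobeniusKernel H) : a * b = b * a := by
  have htinv : t⁻¹ = t := inv_eq_of_mul_eq_one_right ht2
  rcases frob_kernel_eq_invol_mul_conj hH ht ht1 ht2 ha with rfl | ⟨g, -, rfl⟩
  · simp
  · have h1 := frob_conj_invol_inverts_kernel hH ht ht1 ht2 g hb
    have hb' : b⁻¹ ∈ Cfsg.frobeniusKernel H := by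
      rw [← frob_invol_inverts_kernel hH ht ht1 ht2 hb]
      have := frobeniusKernel_conj_mem H hb t
      rwa [htinv] at this
    have h2 := frob_invol_inverts_kernel hH ht ht1 ht2 hb'
    rw [inv_inv] at h2
    have hu2 : (g * t * g⁻¹) * (g * t * g⁻¹) = 1 := by
      have : g * t * g⁻¹ * (g * t * g⁻¹) = g * (t * t) * g⁻¹ := by group
      rw [this, ht2]; group
    -- `t * u * b = t * (u * b * u) * u = t * b⁻¹ * u = (t * b⁻¹ * t) * t * u = b * t * u`
    calc t * (g * t * g⁻¹) * b
        = t * ((g * t * g⁻¹) * b * (g * t * g⁻¹)) * (g * t * g⁻¹) := by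
          rw [mul_assoc t, mul_assoc t, mul_assoc ((g * t * g⁻¹) * b), hu2, mul_one, mul_assoc]
      _ = t * b⁻¹ * (g * t * g⁻¹) := by rw [h1]
      _ = (t * b⁻¹ * t) * (t * (g * t * g⁻¹)) := by
          rw [mul_assoc (t * b⁻¹), ← mul_assoc t t, ht2, one_mul]
      _ = b * (t * (g * t * g⁻¹)) := by rw [h2]

/-- **S0036**: if a Frobenius complement contains an involution, then the Frobenius kernel is closed
under multiplication. -/
theorem frob_kernel_mul_mem [Finite G] {H : Subgroup G}
    (hH : Cfsg.IsFrobeniusComplement H)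
    {t : G} (ht : t ∈ H) (ht1 : t ≠ 1) (ht2 : t * t = 1) {a b : G}
    (ha : a ∈ Cfsg.frobeniusKernel H) (hb : b ∈ Cfsg.frobeniusKernel H) :
    a * b ∈ Cfsg.frobeniusKernel H := by
  have htinv : t⁻¹ = t := inv_eq_of_mul_eq_one_right ht2
  by_contra hab
  rw [not_mem_frobeniusKernel_iff] at hab
  obtain ⟨hab1, y, hy⟩ := hab
  have ha' := frobeniusKernel_conj_mem H ha y
  have hb' := frobeniusKernel_conj_mem H hb y
  set a' := y⁻¹ * a * y with ha'def
  set b' := y⁻¹ * b * y with hb'def
  have hh : a' * b' = y⁻¹ * (a * b) * y := by rw [ha'def, hb'def]; group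
  have hhH : a' * b' ∈ H := by rw [hh]; exact hy
  have hh1 : a' * b' ≠ 1 := by
    intro h
    apply hab1
    have : a * b = y * (a' * b') * y⁻¹ := by rw [hh]; group
    rw [this, h]; group
  clear_value a' b'
  -- `H ≠ ⊤`
  have hex : ∃ g : G, g ∉ H := by
    by_contra hall
    push Not at hall
    exact hH.2.1 ((Subgroup.eq_top_iff' H).mpr hall)
  obtain ⟨g, hg⟩ := hex
  set s := g * t * g⁻¹ with hs
  have hs2 : s * s = 1 := by
    rw [hs]
    have : g * t * g⁻¹ * (g * t * g⁻¹) = g * (t * t) * g⁻¹ := by group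
    rw [this, ht2]; group
  have hsinv : s⁻¹ = s := inv_eq_of_mul_eq_one_right hs2
  have hs1 : s ≠ 1 := by
    intro h
    apply ht1
    have : t = g⁻¹ * s * g := by rw [hs]; group
    rw [this, h]; group
  have hsa := frob_conj_invol_inverts_kernel hH ht ht1 ht2 g ha'
  have hsb := frob_conj_invol_inverts_kernel hH ht ht1 ht2 g hb'
  have hcomm := frob_kernel_commute hH ht ht1 ht2 ha' hb'
  have hsh : s⁻¹ * (a' * b') * s = (a' * b')⁻¹ := by
    rw [hsinv]
    calc s * (a' * b') * s = s * a' * 1 * b' * s := by group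
      _ = s * a' * (s * s) * b' * s := by rw [hs2]
      _ = (s * a' * s) * (s * b' * s) := by group
      _ = a'⁻¹ * b'⁻¹ := by rw [hsa, hsb]
      _ = (a' * b')⁻¹ := by rw [hcomm, mul_inv_rev]
  have hsH : s ∈ H := by
    apply frob_mem_of_conj hH hh1 hhH
    rw [hsh]; exact H.inv_mem hhH
  apply hg
  apply frob_mem_of_conj hH hs1 hsH
  have : g⁻¹ * s * g = t := by rw [hs]; group
  rw [this]; exact ht

end Cfsg.Agent.Helper1
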