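import Mathlib

/-!
Gaschütz's theorem: crossed homomorphisms into an abelian normal subgroup (helper1).
-/

set_option autoImplicit false

namespace Cfsg.Agent.Helper1

open scoped IsMulCommutative

section crossed

variable {G : Type*} [Group G] [Finite G] (K : Subgroup G) [K.Normal] [IsMulCommutative K]

/-- A crossed homomorphism `f : H → K` (w.r.t. conjugation) vanishing on a subgroup `A ≤ H` of
index coprime to `|K|` is a coboundary. -/
theorem crossed_hom_coboundary (H A : Subgroup G)
    (hcop : (Nat.card K).Coprime (Nat.card (H ⧸ A.subgroupOf H)))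
    (f : G → G) (hfK : ∀ h ∈ H, f h ∈ K)
    (hf : ∀ h ∈ H, ∀ h' ∈ H, f (h * h') = f h * (h * f h' * h⁻¹))
    (hfA : ∀ a ∈ H, a ∈ A → f a = 1) : ∃ k ∈ K, ∀ h ∈ H, f h = k⁻¹ * (h * k * h⁻¹) := by
  classical
  haveI : Fintype (H ⧸ A.subgroupOf H) := Fintype.ofFinite _
  set n := Nat.card (H ⧸ A.subgroupOf H) with hn
  -- `f` as a function on the coset space
  let F : H ⧸ A.subgroupOf H → K := fun q =>
    Quotient.liftOn' q (fun x : H => (⟨f x, hfK x x.2⟩ : K)) (by
      intro x y hxy
      rw [QuotientGroup.leftRel_apply] at hxy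
      apply Subtype.ext
      change f (x : G) = f (y : G)
      have hy : (y : G) = (x : G) * ((x⁻¹ * y : H) : G) := by
        push_cast; group
      rw [hy, hf _ x.2 _ (x⁻¹ * y : H).2, hfA _ (x⁻¹ * y : H).2 (Subgroup.mem_subgroupOf.mp hxy)]
      group)
  have hF : ∀ x : H, F (x : H ⧸ A.subgroupOf H) = ⟨f x, hfK x x.2⟩ := fun x => rfl
  set e : K := ∏ q : H ⧸ A.subgroupOf H, F q with he
  -- the key identity
  have key : ∀ h : H, e = (⟨f h, hfK h h.2⟩ : K) ^ n * MulAut.conjNormal (h : G) e := by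
    intro h
    have h1 : ∀ q : H ⧸ A.subgroupOf H,
        F (h • q) = (⟨f h, hfK h h.2⟩ : K) * MulAut.conjNormal (h : G) (F q) := by
      intro q
      induction q using QuotientGroup.induction_on with
      | H x =>
        rw [MulAction.Quotient.smul_mk, hF, hF]
        apply Subtype.ext
        rw [Subgroup.coe_mul, MulAut.conjNormal_apply]
        change f ((h : G) * (x : G)) = _
        rw [hf _ h.2 _ x.2]
    have h2 : ∏ q : H ⧸ A.subgroupOf H, F (h • q) = e :=
      Equiv.prod_comp (MulAction.toPerm h) F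
    calc e = ∏ q : H ⧸ A.subgroupOf H, F (h • q) := h2.symm
      _ = ∏ q : H ⧸ A.subgroupOf H,
            ((⟨f h, hfK h h.2⟩ : K) * MulAut.conjNormal (h : G) (F q)) := by simp_rw [h1]
      _ = (⟨f h, hfK h h.2⟩ : K) ^ n * MulAut.conjNormal (h : G) e := by
          rw [Finset.prod_mul_distrib, Finset.prod_const, Finset.card_univ,
            ← Nat.card_eq_fintype_card, map_prod]
  -- choose `k` with `k ^ n = e⁻¹`
  obtain ⟨k, hk⟩ := (powCoprime hcop).surjective e⁻¹
  rw [powCoprime_apply] at hk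
  refine ⟨k, k.2, fun h hh => ?_⟩
  have h3 := key ⟨h, hh⟩
  have h4 : ((⟨f h, hfK h hh⟩ : K)) ^ n = (k⁻¹ * MulAut.conjNormal h k) ^ n := by
    rw [mul_pow, inv_pow, ← map_pow, hk, map_inv, inv_inv]
    exact eq_mul_inv_of_mul_eq h3.symm
  have h5 := (powCoprime hcop).injective h4
  have h6 := congrArg Subtype.val h5
  rw [Subgroup.coe_mul, MulAut.conjNormal_apply] at h6
  simpa using h6

end crossed

end Cfsg.Agent.Helper1
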