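import Mathlib

/-!
Gaschütz's theorem, existence part: complements from invariant sections (helper1).
-/

set_option autoImplicit false

namespace Cfsg.Agent.Helper1

open scoped IsMulCommutative

section exist

variable {G : Type*} [Group G] [Finite G] (K : Subgroup G) [K.Normal] [IsMulCommutative K]

/-- conjugation by an element of the abelian group `K` is trivial on `K` -/
theorem conjNormal_of_mem (k : K) (y : K) : MulAut.conjNormal (k : G) y = y := by
  apply Subtype.ext
  rw [MulAut.conjNormal_apply]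
  have := mul_comm' k y
  have h2 := congrArg Subtype.val this
  rw [Subgroup.coe_mul, Subgroup.coe_mul] at h2
  rw [h2, mul_inv_cancel_right]

/-- A crossed homomorphism `c : G → K` restricting to the `n`-th power map on `K`, with `n` coprime
to `|K|`, has a complement of `K` as its kernel. -/
theorem exists_complement_of_crossed_hom (n : ℕ) (hcop : (Nat.card K).Coprime n)
    (c : G → K) (hc : ∀ g h : G, c (g * h) = c g * MulAut.conjNormal g (c h))
    (hcK : ∀ k : K, c (k : G) = k ^ n) :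
    ∃ H : Subgroup G, Subgroup.IsComplement' K H := by
  have hc1 : c 1 = 1 := by
    have := hcK 1
    rwa [Subgroup.coe_one, one_pow] at this
  let H : Subgroup G :=
    { carrier := {g | c g = 1}
      one_mem' := hc1
      mul_mem' := by
        intro a b ha hb
        rw [Set.mem_setOf_eq] at ha hb ⊢
        rw [hc, ha, hb, map_one, one_mul]
      inv_mem' := by
        intro a ha
        rw [Set.mem_setOf_eq] at ha ⊢
        have := hc a⁻¹ a
        rw [inv_mul_cancel, hc1, ha, map_one, mul_one] at this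
        exact this.symm }
  have hH : ∀ g, g ∈ H ↔ c g = 1 := fun g => Iff.rfl
  refine ⟨H, ?_⟩
  apply Subgroup.isComplement'_of_disjoint_and_mul_eq_univ
  · rw [Subgroup.disjoint_def]
    intro x hxK hxH
    rw [hH] at hxH
    have h1 := hcK ⟨x, hxK⟩
    rw [hxH] at h1
    have h2 : (powCoprime hcop) (⟨x, hxK⟩ : K) = (powCoprime hcop) 1 := by
      rw [powCoprime_apply, powCoprime_apply, one_pow, ← h1]
    have h3 := (powCoprime hcop).injective h2
    exact congrArg Subtype.val h3
  · rw [Set.eq_univ_iff_forall]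
    intro g
    obtain ⟨k, hk⟩ := (powCoprime hcop).surjective (c g)
    rw [powCoprime_apply] at hk
    rw [Set.mem_mul]
    refine ⟨k, k.2, (k : G)⁻¹ * g, ?_, by group⟩
    rw [SetLike.mem_coe, hH]
    have h1 := hc ((k⁻¹ : K) : G) g
    rw [conjNormal_of_mem, hcK, inv_pow, hk, inv_mul_cancel] at h1
    rw [← h1, Subgroup.coe_inv]

/-- From a section `t` of `G → G/K` which is equivariant modulo `U`, build a crossed homomorphism
restricting to the `[G:U]`-th power map on `K`. -/
theorem exists_crossed_hom_of_section (U : Subgroup G)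
    (t : G → G) (ht1 : ∀ g, g⁻¹ * t g ∈ K)
    (ht2 : ∀ x y : G, ∀ u ∈ U, t (x * u) * (t (y * u))⁻¹ = t x * (t y)⁻¹)
    (ht3 : ∀ g, ∀ k ∈ K, t (g * k) = t g) :
    ∃ c : G → K, (∀ g h : G, c (g * h) = c g * MulAut.conjNormal g (c h)) ∧
      ∀ k : K, c (k : G) = k ^ U.index := by
  classical
  have hKn : K.Normal := inferInstance
  haveI : Fintype (G ⧸ U) := Fintype.ofFinite _
  have hδK : ∀ h g : G, h * t (h⁻¹ * g) * (t g)⁻¹ ∈ K := by
    intro h g
    have h1 := ht1 (h⁻¹ * g)
    have h2 := ht1 g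
    have : h * t (h⁻¹ * g) * (t g)⁻¹
        = g * (((h⁻¹ * g)⁻¹ * t (h⁻¹ * g)) * (g⁻¹ * t g)⁻¹) * g⁻¹ := by group
    rw [this]
    exact hKn.conj_mem _ (K.mul_mem h1 (K.inv_mem h2)) g
  have hδU : ∀ h g : G, ∀ u ∈ U,
      h * t (h⁻¹ * (g * u)) * (t (g * u))⁻¹ = h * t (h⁻¹ * g) * (t g)⁻¹ := by
    intro h g u hu
    rw [← mul_assoc h⁻¹ g u, mul_assoc h, mul_assoc h, ht2 _ _ u hu]
  let D : G → G ⧸ U → K := fun h q =>
    Quotient.liftOn' q (fun g : G => (⟨h * t (h⁻¹ * g) * (t g)⁻¹, hδK h g⟩ : K)) (by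
      intro x y hxy
      rw [QuotientGroup.leftRel_apply] at hxy
      apply Subtype.ext
      change h * t (h⁻¹ * x) * (t x)⁻¹ = h * t (h⁻¹ * y) * (t y)⁻¹
      have hy : y = x * (x⁻¹ * y) := by group
      rw [hy, hδU h x _ hxy])
  have hD : ∀ (h g : G), D h (g : G ⧸ U) = ⟨h * t (h⁻¹ * g) * (t g)⁻¹, hδK h g⟩ :=
    fun h g => rfl
  refine ⟨fun h => ∏ q : G ⧸ U, D h q, ?_, ?_⟩
  · intro h h'
    have h1 : ∀ q : G ⧸ U,
        D (h * h') q = MulAut.conjNormal h (D h' (h⁻¹ • q)) * D h q := by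
      intro q
      induction q using QuotientGroup.induction_on with
      | H g =>
        rw [MulAction.Quotient.smul_mk, hD, hD, hD]
        apply Subtype.ext
        rw [Subgroup.coe_mul, MulAut.conjNormal_apply]
        simp only [smul_eq_mul]
        have : (h * h')⁻¹ * g = h'⁻¹ * (h⁻¹ * g) := by group
        rw [this]
        group
    simp only
    simp_rw [h1]
    rw [Finset.prod_mul_distrib, map_prod, mul_comm]
    congr 1
    exact Equiv.prod_comp (MulAction.toPerm h⁻¹) (fun q => MulAut.conjNormal h (D h' q))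
  · intro k
    have h1 : ∀ q : G ⧸ U, D (k : G) q = k := by
      intro q
      induction q using QuotientGroup.induction_on with
      | H g =>
        rw [hD]
        apply Subtype.ext
        simp only
        have h2 : (k : G)⁻¹ * g = g * (g⁻¹ * (k : G)⁻¹ * g) := by group
        have h3 : g⁻¹ * (k : G)⁻¹ * g ∈ K := by
          have := hKn.conj_mem _ (K.inv_mem k.2) g⁻¹
          rwa [inv_inv] at this
        rw [h2, ht3 g _ h3, mul_inv_cancel_right]
    simp only
    simp_rw [h1]
    rw [Finset.prod_const, Finset.card_univ, ← Nat.card_eq_fintype_card, Subgroup.index_eq_card]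

/-- **Gaschütz, existence** -/
theorem gaschutz_exists (U : Subgroup G) (hKU : K ≤ U) (hcop : (Nat.card K).Coprime U.index)
    (A : Subgroup G) (hAK : A ⊓ K = ⊥) (hKA : K ⊔ A = U) :
    ∃ H : Subgroup G, Subgroup.IsComplement' K H := by
  classical
  have hKn : K.Normal := inferInstance
  have hAU : A ≤ U := by rw [← hKA]; exact le_sup_right
  -- the projection `U → A`
  have hex : ∀ u : G, ∃ a : G, u ∈ U → (a ∈ A ∧ a⁻¹ * u ∈ K) := by
    intro u
    by_cases hu : u ∈ U
    · rw [← hKA] at hu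
      have hu' : u ∈ ((K ⊔ A : Subgroup G) : Set G) := hu
      rw [Subgroup.normal_mul] at hu'
      obtain ⟨k, hk, a, ha, rfl⟩ := Set.mem_mul.mp hu'
      refine ⟨a, fun _ => ⟨ha, ?_⟩⟩
      have := hKn.conj_mem k hk a⁻¹
      rw [inv_inv] at this
      rwa [← mul_assoc]
    · exact ⟨1, fun h => absurd h hu⟩
  choose pA hpA using hex
  have huniq : ∀ u a : G, u ∈ U → a ∈ A → a⁻¹ * u ∈ K → pA u = a := by
    intro u a hu ha hau
    obtain ⟨h1, h2⟩ := hpA u hu
    have h3 : (pA u)⁻¹ * a ∈ A ⊓ K := by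
      refine Subgroup.mem_inf.mpr ⟨A.mul_mem (A.inv_mem h1) ha, ?_⟩
      have : (pA u)⁻¹ * a = ((pA u)⁻¹ * u) * (a⁻¹ * u)⁻¹ := by group
      rw [this]
      exact K.mul_mem h2 (K.inv_mem hau)
    rw [hAK, Subgroup.mem_bot] at h3
    exact inv_mul_eq_one.mp h3
  have hpA_mul : ∀ u u' : G, u ∈ U → u' ∈ U → pA (u * u') = pA u * pA u' := by
    intro u u' hu hu'
    obtain ⟨h1, h2⟩ := hpA u hu
    obtain ⟨h1', h2'⟩ := hpA u' hu'
    apply huniq _ _ (U.mul_mem hu hu') (A.mul_mem h1 h1')
    have : (pA u * pA u')⁻¹ * (u * u')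
        = ((pA u')⁻¹ * ((pA u)⁻¹ * u) * (pA u')⁻¹⁻¹) * ((pA u')⁻¹ * u') := by group
    rw [this]
    exact K.mul_mem (hKn.conj_mem _ h2 _) h2'
  have hpA_K : ∀ k ∈ K, pA k = 1 := by
    intro k hk
    apply huniq _ _ (hKU hk) A.one_mem
    simpa using hk
  -- coset representatives
  let r : G → G := fun g => (g : G ⧸ U).out
  have hr : ∀ g, (r g)⁻¹ * g ∈ U := by
    intro g
    rw [← QuotientGroup.eq]
    exact QuotientGroup.out_eq' _
  have hr_mul : ∀ g, ∀ u ∈ U, r (g * u) = r g := by
    intro g u hu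
    have : ((g * u : G) : G ⧸ U) = (g : G ⧸ U) := by
      rw [QuotientGroup.eq]
      have : (g * u)⁻¹ * g = u⁻¹ := by group
      rw [this]
      exact U.inv_mem hu
    change ((g * u : G) : G ⧸ U).out = (g : G ⧸ U).out
    rw [this]
  let t : G → G := fun g => r g * pA ((r g)⁻¹ * g)
  have ht_mul : ∀ g, ∀ u ∈ U, t (g * u) = t g * pA u := by
    intro g u hu
    change r (g * u) * pA ((r (g * u))⁻¹ * (g * u)) = r g * pA ((r g)⁻¹ * g) * pA u
    rw [hr_mul g u hu, ← mul_assoc (r g)⁻¹ g u, hpA_mul _ _ (hr g) hu, mul_assoc]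
  obtain ⟨c, hc1, hc2⟩ := exists_crossed_hom_of_section K U t
    (by
      intro g
      obtain ⟨-, h2⟩ := hpA _ (hr g)
      have : g⁻¹ * t g = ((pA ((r g)⁻¹ * g))⁻¹ * ((r g)⁻¹ * g))⁻¹ := by
        change g⁻¹ * (r g * pA ((r g)⁻¹ * g)) = _
        group
      rw [this]
      exact K.inv_mem h2)
    (by
      intro x y u hu
      rw [ht_mul x u hu, ht_mul y u hu]
      group)
    (by
      intro g k hk
      rw [ht_mul g k (hKU hk), hpA_K k hk, mul_one])
  exact exists_complement_of_crossed_hom K U.index hcop c hc1 hc2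

end exist

end Cfsg.Agent.Helper1
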