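import Cfsg.Agent.Helper1.SZ
import Mathlib.GroupTheory.GroupAction.Quotient

set_option autoImplicit false

namespace Cfsg.Agent.Helper1

open Subgroup Pointwise

universe u

/-- elements of `K` normalizing a complement `H` of the normal subgroup `K` centralize it -/
theorem mem_centralizer_of_mem_normalizer {G : Type*} [Group G] {K H : Subgroup G}
    (hK : H ≤ Subgroup.normalizer (K : Set G)) (hdisj : K ⊓ H = ⊥) {c : G} (hcK : c ∈ K)
    (hcN : ∀ h ∈ H, c * h * c⁻¹ ∈ H) : c ∈ Subgroup.centralizer (H : Set G) := by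
  rw [Subgroup.mem_centralizer_iff]
  intro h hh
  have h1 : c * h * c⁻¹ * h⁻¹ ∈ H := H.mul_mem (hcN h hh) (H.inv_mem hh)
  have h2 : c * h * c⁻¹ * h⁻¹ ∈ K := by
    have h3 : h * c⁻¹ * h⁻¹ ∈ K := by
      have := (Subgroup.mem_normalizer_iff.mp (hK hh) c⁻¹).mp (K.inv_mem hcK)
      exact this
    have := K.mul_mem hcK h3
    simpa [mul_assoc] using this
  have h4 : c * h * c⁻¹ * h⁻¹ ∈ K ⊓ H := Subgroup.mem_inf.mpr ⟨h2, h1⟩
  rw [hdisj, Subgroup.mem_bot] at h4
  have h5 : c * h = h * c := by
    have := congrArg (fun z => z * h * c) h4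
    simpa [mul_assoc] using this
  exact h5.symm

/-- **Glauberman's lemma**, for a group `G = K ⋊ H` acting on a set on which `K` is transitive. -/
theorem glauberman_type {G : Type u} [Group G] [Finite G] {X : Type*} [MulAction G X] [Nonempty X]
    (K H : Subgroup G) [hKn : K.Normal] (hc : IsComplement' K H)
    (hcop : (Nat.card K).Coprime (Nat.card H))
    (hsolv : Group.IsSolvable K ∨ Group.IsSolvable H)
    (htrans : ∀ x y : X, ∃ k ∈ K, k • x = y) :
    (∃ x : X, ∀ h ∈ H, h • x = x) ∧
    ∀ x y : X, (∀ h ∈ H, h • x = x) → (∀ h ∈ H, h • y = y) →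
      ∃ k ∈ K ⊓ Subgroup.centralizer (H : Set G), k • x = y := by
  have hdisj : K ⊓ H = ⊥ := disjoint_iff.mp hc.disjoint
  constructor
  · obtain ⟨x⟩ := ‹Nonempty X›
    set S := MulAction.stabilizer G x with hS
    have hKS : K ⊔ S = ⊤ := by
      rw [eq_top_iff]
      intro g _
      obtain ⟨k, hk, hkx⟩ := htrans x (g • x)
      have h1 : k⁻¹ * g ∈ S := by
        rw [hS, MulAction.mem_stabilizer_iff, mul_smul, ← hkx, inv_smul_smul]
      have h2 : g = k * (k⁻¹ * g) := by simp
      rw [h2]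
      exact Subgroup.mul_mem_sup hk h1
    have hidx : (K.subgroupOf S).index = Nat.card H := by
      have h1 : K.relIndex S = K.index := by
        rw [← Subgroup.relIndex_sup_left, hKS, Subgroup.relIndex_top_right]
      rw [← hc.symm.index_eq_card, ← h1]
      rfl
    have hcopS : (Nat.card (K.subgroupOf S)).Coprime (K.subgroupOf S).index := by
      rw [hidx]
      exact Nat.Coprime.coprime_dvd_left (card_subgroupOf_dvd K S) hcop
    obtain ⟨B', hB'⟩ := Subgroup.exists_right_complement'_of_coprime hcopS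
    set B : Subgroup G := B'.map S.subtype with hB
    have hBS : B ≤ S := Subgroup.map_subtype_le B'
    have hcardB : Nat.card B = Nat.card H := by
      rw [← hidx, hB'.symm.index_eq_card]
      exact (Nat.card_congr (B'.equivMapOfInjective _ (Subgroup.subtype_injective S)).toEquiv).symm
    have hKB : IsComplement' K B := by
      apply isComplement'_of_coprime
      · rw [hcardB]; exact hc.card_mul_card
      · rw [hcardB]; exact hcop
    obtain ⟨g, hg⟩ := sz_conj K H B hcop hc hKB hsolv
    refine ⟨g⁻¹ • x, fun h hh => ?_⟩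
    have h1 : g * h * g⁻¹ ∈ S := hBS (hg ▸ conj_mem_conj_smul hh)
    rw [hS, MulAction.mem_stabilizer_iff] at h1
    calc h • g⁻¹ • x = g⁻¹ • ((g * h * g⁻¹) • x) := by simp [mul_smul]
      _ = g⁻¹ • x := by rw [h1]
  · intro x y hx hy
    obtain ⟨k, hk, hkx⟩ := htrans x y
    set S := MulAction.stabilizer G x with hS
    have hHS : H ≤ S := fun h hh => by rw [hS, MulAction.mem_stabilizer_iff]; exact hx h hh
    set H' : Subgroup G := MulAut.conj k⁻¹ • H with hH'
    have hH'S : H' ≤ S := by
      intro z hz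
      rw [hH', mem_conj_smul, inv_inv] at hz
      rw [hS, MulAction.mem_stabilizer_iff]
      have h1 := hy _ hz
      have hxy : k⁻¹ • y = x := by rw [← hkx, inv_smul_smul]
      rw [mul_smul, mul_smul, hxy, ← hkx] at h1
      exact smul_left_cancel k h1
    have hH'c : IsComplement' K H' := isComplement'_conj hc k⁻¹
    have c1 : IsComplement' (K.subgroupOf S) (H.subgroupOf S) := by
      apply isComplement'_subgroupOf hHS hdisj
      intro l _
      obtain ⟨⟨⟨n₁, hn₁⟩, ⟨k₁, hk₁⟩⟩, hg⟩ := hc.2 l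
      exact ⟨n₁, hn₁, k₁, hk₁, hg.symm⟩
    have c2 : IsComplement' (K.subgroupOf S) (H'.subgroupOf S) := by
      apply isComplement'_subgroupOf hH'S (disjoint_iff.mp hH'c.disjoint)
      intro l _
      obtain ⟨⟨⟨n₁, hn₁⟩, ⟨k₁, hk₁⟩⟩, hg⟩ := hH'c.2 l
      exact ⟨n₁, hn₁, k₁, hk₁, hg.symm⟩
    have hcopS : (Nat.card (K.subgroupOf S)).Coprime (Nat.card (H.subgroupOf S)) := by
      rw [card_subgroupOf_of_le hHS]
      exact Nat.Coprime.coprime_dvd_left (card_subgroupOf_dvd K S) hcop
    have hsolvS : Group.IsSolvable (K.subgroupOf S) ∨ Group.IsSolvable (H.subgroupOf S) := by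
      rcases hsolv with h | h
      · exact Or.inl (isSolvable_subgroupOf K S)
      · exact Or.inr (isSolvable_subgroupOf H S)
    obtain ⟨s, hs⟩ := sz_conj (K.subgroupOf S) (H.subgroupOf S) (H'.subgroupOf S) hcopS c1 c2 hsolvS
    have hs' : MulAut.conj (s : G) • H = H' := conj_of_subgroupOf hHS hH'S s hs
    -- decompose `s = k' * h`
    obtain ⟨⟨⟨k', hk'⟩, ⟨h₀, hh₀⟩⟩, hkh⟩ := hc.2 (s : G)
    simp only at hkh
    have hk'S : k' ∈ S := by
      have : k' = (s : G) * h₀⁻¹ := by rw [← hkh]; simp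
      rw [this]
      exact S.mul_mem s.2 (S.inv_mem (hHS hh₀))
    refine ⟨k * k', Subgroup.mem_inf.mpr ⟨K.mul_mem hk hk', ?_⟩, ?_⟩
    · apply mem_centralizer_of_mem_normalizer (K := K) (H := H)
        (fun h _ => by rw [Subgroup.normalizer_eq_top_iff.mpr hKn]; exact Subgroup.mem_top h)
        hdisj (K.mul_mem hk hk')
      intro h hh
      -- `k * s` normalizes `H`
      have h1 : ∀ z ∈ H, (k * (s : G)) * z * (k * (s : G))⁻¹ ∈ H := by
        intro z hz
        have h2 : (s : G) * z * (s : G)⁻¹ ∈ H' := hs' ▸ conj_mem_conj_smul hz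
        rw [hH', mem_conj_smul, inv_inv] at h2
        simpa [mul_assoc] using h2
      have h3 : k * k' = k * (s : G) * h₀⁻¹ := by rw [← hkh]; simp [mul_assoc]
      have h4 := h1 (h₀⁻¹ * h * h₀) (H.mul_mem (H.mul_mem (H.inv_mem hh₀) hh) hh₀)
      rw [h3]
      simpa [mul_assoc] using h4
    · rw [mul_smul]
      rw [hS, MulAction.mem_stabilizer_iff] at hk'S
      rw [hk'S, hkx]

/-- a complement of a normal subgroup with solvable quotient is solvable -/
theorem isSolvable_of_isComplement' {G : Type*} [Group G] {N H : Subgroup G} [N.Normal]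
    (hH : IsComplement' N H) [Group.IsSolvable (G ⧸ N)] : Group.IsSolvable H := by
  have hdisj : N ⊓ H = ⊥ := disjoint_iff.mp hH.disjoint
  have hinj : Function.Injective ((QuotientGroup.mk' N).comp H.subtype) := by
    intro a b hab
    simp only [MonoidHom.coe_comp, Subgroup.coe_subtype, Function.comp_apply,
      QuotientGroup.mk'_apply] at hab
    rw [QuotientGroup.eq] at hab
    have h1 : (a : G)⁻¹ * b ∈ N ⊓ H := Subgroup.mem_inf.mpr ⟨hab, H.mul_mem (H.inv_mem a.2) b.2⟩
    rw [hdisj, Subgroup.mem_bot] at h1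
    exact Subtype.ext (inv_mul_eq_one.mp h1)
  exact Group.isSolvable_of_isSolvable_injective hinj

end Cfsg.Agent.Helper1
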