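import Mathlib
import Cfsg.Agent.Helper99.Is8.Defs
import Cfsg.Agent.Helper1.Is8POW

/-!
# S3590 piece (ORD) for helper99's farm: the order of an affine element in characteristic 2
-/

set_option autoImplicit false

universe u

namespace Cfsg.Agent.Helper1.Is8

open Matrix Cfsg.Agent.Helper99.Is8

variable {G : Type u} [Group G] {ι : Type} [Fintype ι] [DecidableEq ι] {R : Type u} [CommRing R]
  {ρ : G →* Matrix ι ι R} {κ : Type}

theorem aff_orderOf [CharP R 2] (x : Aff ρ κ) (ho : 0 < orderOf x.k) :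
    ((∑ i ∈ Finset.range (orderOf x.k), ρ x.k ^ i) * x.w = 0 ∧ orderOf x = orderOf x.k) ∨
      ((∑ i ∈ Finset.range (orderOf x.k), ρ x.k ^ i) * x.w ≠ 0 ∧ orderOf x = 2 * orderOf x.k) := by
  set o := orderOf x.k with ho'
  set S := ∑ i ∈ Finset.range o, ρ x.k ^ i with hS
  have hxo : x ^ o = ⟨S * x.w, 1⟩ := by
    rw [aff_pow, pow_orderOf_eq_one]
  have key : ∀ n : ℕ, x ^ n = 1 → o ∣ n := by
    intro n hn
    have h1 : (x ^ n).k = 1 := by rw [hn]; rfl
    rw [aff_pow] at h1
    exact orderOf_dvd_of_pow_eq_one h1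
  have hdvd : o ∣ orderOf x := key _ (pow_orderOf_eq_one x)
  by_cases h0 : S * x.w = 0
  · left
    refine ⟨h0, ?_⟩
    have h1 : x ^ o = 1 := by
      rw [hxo, h0]; rfl
    exact Nat.dvd_antisymm (orderOf_dvd_of_pow_eq_one h1) hdvd
  · right
    refine ⟨h0, ?_⟩
    have hz : x ^ o ≠ 1 := by
      intro h
      apply h0
      have : (x ^ o).w = 0 := by rw [h]; rfl
      rw [hxo] at this
      exact this
    have h2 : x ^ (o * 2) = 1 := by
      rw [pow_mul, hxo, pow_two]
      apply Aff.ext
      · simp only [Aff.mul_w, map_one, Matrix.one_mul, Aff.one_w]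
        ext i j
        exact CharTwo.add_self_eq_zero _
      · simp only [Aff.mul_k, mul_one, Aff.one_k]
    have h3 : orderOf x ∣ o * 2 := orderOf_dvd_of_pow_eq_one h2
    obtain ⟨c, hc⟩ := hdvd
    rw [hc] at h3
    have h4 : c ∣ 2 := Nat.dvd_of_mul_dvd_mul_left ho h3
    have h5 : c = 1 ∨ c = 2 := by
      have := Nat.le_of_dvd (by norm_num) h4
      interval_cases c
      · simp at h4
      · left; rfl
      · right; rfl
    rcases h5 with rfl | rfl
    · exfalso
      apply hz
      rw [mul_one] at hc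
      rw [← hc]
      exact pow_orderOf_eq_one x
    · rw [hc, mul_comm]

end Cfsg.Agent.Helper1.Is8
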