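import Mathlib
import Cfsg.Prelude.Def_PLocal
import Cfsg.Agent.Helper1.FFTransfer
import Cfsg.Agent.Helper10.ThompsonOf
import Cfsg.Agent.Helper10.Card

/-!
# `[Ω₁(Z(J(C_G(V)))), J(G)] ≤ V` in `p`-separable groups (KS 9.3.9) (helper1)
-/

set_option autoImplicit false

namespace Cfsg.Agent.Helper1.JCent

open Subgroup Cfsg.Agent.Helper10
open scoped commutatorElement

variable {G : Type*} [Group G] [Finite G] {p : ℕ}

/-- the fixed points on an elementary abelian `V` of a maximal elementary abelian `A` lie in `A` -/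
theorem fixed_le_of_max {V A : Subgroup G} (hV : Cfsg.IsElementaryAbelian p V)
    (hA : A ∈ Cfsg.maxElementaryAbelianSubgroups p G) :
    V ⊓ centralizer (A : Set G) ≤ A := by
  have h1 : Cfsg.IsElementaryAbelian p (A ⊔ (V ⊓ centralizer (A : Set G))) := by
    apply isElementaryAbelian_sup hA.1 (isElementaryAbelian_mono hV inf_le_left)
    intro a ha b hb
    exact (mem_centralizer_iff.1 (mem_inf.1 hb).2 a ha)
  have h2 : Nat.card ↥(A ⊔ (V ⊓ centralizer (A : Set G))) ≤ Nat.card ↥A := hA.2 _ h1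
  have h3 : A = A ⊔ (V ⊓ centralizer (A : Set G)) :=
    Subgroup.eq_of_le_of_card_ge le_sup_left h2
  exact le_trans le_sup_right (ge_of_eq h3)

theorem inf_eq_fixed_of_max {V A : Subgroup G} (hV : Cfsg.IsElementaryAbelian p V)
    (hA : A ∈ Cfsg.maxElementaryAbelianSubgroups p G) :
    A ⊓ V = V ⊓ centralizer (A : Set G) := by
  apply le_antisymm
  · intro x hx
    refine mem_inf.2 ⟨(mem_inf.1 hx).2, ?_⟩
    rw [mem_centralizer_iff]
    intro a ha
    exact ((isElementaryAbelian_iff.1 hA.1).1 a ha x (mem_inf.1 hx).1)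
  · exact le_inf (fixed_le_of_max hV hA) inf_le_left

omit [Finite G] in
theorem le_centralizer_self {V : Subgroup G} (hV : Cfsg.IsElementaryAbelian p V) :
    V ≤ centralizer (V : Set G) := by
  intro v hv
  rw [mem_centralizer_iff]
  intro w hw
  exact (isElementaryAbelian_iff.1 hV).1 w hw v hv

variable [Fact p.Prime]

/-- `(A ∩ C)V` is again a maximal elementary abelian subgroup -/
theorem replace_mem_max (hsep : Cfsg.IsPSolvable p G) (V : Subgroup G) [V.Normal]
    (hV : Cfsg.IsElementaryAbelian p V)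
    (hO : Cfsg.pCore p (G ⧸ centralizer (V : Set G)) = ⊥) {A : Subgroup G}
    (hA : A ∈ Cfsg.maxElementaryAbelianSubgroups p G) :
    (A ⊓ centralizer (V : Set G)) ⊔ V ∈ Cfsg.maxElementaryAbelianSubgroups p G := by
  have hel : Cfsg.IsElementaryAbelian p ((A ⊓ centralizer (V : Set G)) ⊔ V) := by
    apply isElementaryAbelian_sup (isElementaryAbelian_mono hA.1 inf_le_left) hV
    intro a ha b hb
    exact (mem_centralizer_iff.1 (mem_inf.1 ha).2 b hb).symm
  rw [mem_maxElementaryAbelian_iff_card hA]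
  refine ⟨hel, le_antisymm (hA.2 _ hel) ?_⟩
  have h1 := card_sup_mul_card_inf (A ⊓ centralizer (V : Set G)) V
    (le_trans (le_top) (by rw [normalizer_eq_top_iff.2 inferInstance]))
  have h2 : (A ⊓ centralizer (V : Set G)) ⊓ V = V ⊓ centralizer (A : Set G) := by
    rw [← inf_eq_fixed_of_max hV hA]
    apply le_antisymm
    · exact le_inf (inf_le_left.trans inf_le_left) inf_le_right
    · exact le_inf (le_inf inf_le_left (inf_le_right.trans (le_centralizer_self hV))) inf_le_right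
  rw [h2] at h1
  have h3 := Hol.card_mul_card_fixed_le V hsep hV hO A hA.1
  rw [← h1] at h3
  exact Nat.le_of_mul_le_mul_right h3 Nat.card_pos

omit [Fact p.Prime] in
theorem replace_le (V A : Subgroup G) (hV : Cfsg.IsElementaryAbelian p V) :
    (A ⊓ centralizer (V : Set G)) ⊔ V ≤ centralizer (V : Set G) :=
  sup_le inf_le_right (le_centralizer_self hV)

/-- `J(C_G(V))` is generated by the maximal elementary abelian subgroups of `G` inside `C_G(V)`. -/
theorem thompsonOf_centralizer_eq (hsep : Cfsg.IsPSolvable p G) (V : Subgroup G) [V.Normal]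
    (hV : Cfsg.IsElementaryAbelian p V)
    (hO : Cfsg.pCore p (G ⧸ centralizer (V : Set G)) = ⊥) :
    Cfsg.thompsonSubgroupOf p (centralizer (V : Set G)) =
      sSup {A : Subgroup G | A ∈ Cfsg.maxElementaryAbelianSubgroups p G ∧
        A ≤ centralizer (V : Set G)} := by
  obtain ⟨A, hA⟩ := exists_maxElementaryAbelian (G := G) p
  exact thompsonSubgroupOf_eq_sSup (replace_mem_max hsep V hV hO hA) (replace_le V A hV)

/-- elements of order `p` in `Z(J(C_G(V)))` lie in `(A ∩ C)V` for every maximal `A`. -/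
theorem mem_replace (hsep : Cfsg.IsPSolvable p G) (V : Subgroup G) [V.Normal]
    (hV : Cfsg.IsElementaryAbelian p V)
    (hO : Cfsg.pCore p (G ⧸ centralizer (V : Set G)) = ⊥) {A : Subgroup G}
    (hA : A ∈ Cfsg.maxElementaryAbelianSubgroups p G) {x : G}
    (hx : x ∈ Cfsg.centerThompsonOf p (centralizer (V : Set G))) (hxp : x ^ p = 1) :
    x ∈ (A ⊓ centralizer (V : Set G)) ⊔ V := by
  set A' := (A ⊓ centralizer (V : Set G)) ⊔ V with hA'def
  have hA' : A' ∈ Cfsg.maxElementaryAbelianSubgroups p G := replace_mem_max hsep V hV hO hA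
  have hA'J : A' ≤ Cfsg.thompsonSubgroupOf p (centralizer (V : Set G)) := by
    rw [thompsonOf_centralizer_eq hsep V hV hO]
    exact le_sSup ⟨hA', replace_le V A hV⟩
  have hxc : x ∈ centralizer (Cfsg.thompsonSubgroupOf p (centralizer (V : Set G)) : Set G) :=
    (mem_inf.1 hx).2
  have h1 : Cfsg.IsElementaryAbelian p (A' ⊔ zpowers x) := by
    apply isElementaryAbelian_sup hA'.1 (isElementaryAbelian_zpowers hxp)
    intro a ha b hb
    have hb' : b ∈ centralizer (Cfsg.thompsonSubgroupOf p (centralizer (V : Set G)) : Set G) :=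
      (zpowers_le.2 hxc) hb
    exact (mem_centralizer_iff.1 hb' a (hA'J ha))
  have h2 : Nat.card ↥(A' ⊔ zpowers x) ≤ Nat.card ↥A' := hA'.2 _ h1
  have h3 : A' = A' ⊔ zpowers x := Subgroup.eq_of_le_of_card_ge le_sup_left h2
  exact (ge_of_eq h3) ((le_sup_right : zpowers x ≤ A' ⊔ zpowers x) (mem_zpowers x))

/-- commutators of `(A ∩ C)V` with `A` lie in `V` -/
theorem comm_mem_of_mem_replace (V : Subgroup G) [hVn : V.Normal] {A : Subgroup G}
    (hA : Cfsg.IsElementaryAbelian p A) {x a : G}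
    (hx : x ∈ (A ⊓ centralizer (V : Set G)) ⊔ V) (ha : a ∈ A) : ⁅x, a⁆ ∈ V := by
  obtain ⟨a₀, ha₀, v, hv, rfl⟩ := mem_sup_of_normal_right.1 hx
  have hcomm : a₀ * a = a * a₀ := (isElementaryAbelian_iff.1 hA).1 a₀ (mem_inf.1 ha₀).1 a ha
  have h1 : ⁅a₀ * v, a⁆ = a₀ * (v * (a * v⁻¹ * a⁻¹)) * a₀⁻¹ := by
    rw [commutatorElement_def]
    have : a₀⁻¹ * a⁻¹ = a⁻¹ * a₀⁻¹ := by
      rw [← mul_inv_rev, ← mul_inv_rev, hcomm]
    calc a₀ * v * a * (a₀ * v)⁻¹ * a⁻¹ = a₀ * v * a * v⁻¹ * (a₀⁻¹ * a⁻¹) := by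
          rw [mul_inv_rev]; group
      _ = a₀ * v * a * v⁻¹ * (a⁻¹ * a₀⁻¹) := by rw [this]
      _ = a₀ * (v * (a * v⁻¹ * a⁻¹)) * a₀⁻¹ := by group
  rw [h1]
  exact hVn.conj_mem _ (V.mul_mem hv (hVn.conj_mem _ (V.inv_mem hv) a)) a₀

/-- **KS 9.3.9** -/
theorem commutator_omega_center_thompson_le (hsep : Cfsg.IsPSolvable p G) (V : Subgroup G)
    [hVn : V.Normal] (hV : Cfsg.IsElementaryAbelian p V)
    (hO : Cfsg.pCore p (G ⧸ centralizer (V : Set G)) = ⊥) :
    ⁅Cfsg.omegaOne p (Cfsg.centerThompsonOf p (centralizer (V : Set G))),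
      Cfsg.thompsonSubgroup p G⁆ ≤ V := by
  set q := QuotientGroup.mk' V with hq
  set T : Set G := {x : G | x ∈ Cfsg.centerThompsonOf p (centralizer (V : Set G)) ∧ x ^ p = 1}
    with hT
  have hcomm_of : ∀ x a : G, ⁅x, a⁆ ∈ V → q x * q a = q a * q x := by
    intro x a h
    have h1 : q ⁅x, a⁆ = 1 := by
      rw [hq, QuotientGroup.mk'_apply, QuotientGroup.eq_one_iff]; exact h
    rw [map_commutatorElement, commutatorElement_eq_one_iff_mul_comm] at h1
    exact h1
  have h1 : Cfsg.thompsonSubgroup p G ≤ (centralizer (q '' T)).comap q := by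
    apply sSup_le
    intro A hA a ha
    rw [mem_comap, mem_centralizer_iff]
    rintro _ ⟨x, hx, rfl⟩
    exact hcomm_of x a (comm_mem_of_mem_replace V hA.1 (mem_replace hsep V hV hO hA hx.1 hx.2) ha)
  have h2 : Cfsg.omegaOne p (Cfsg.centerThompsonOf p (centralizer (V : Set G))) ≤
      (centralizer ((Cfsg.thompsonSubgroup p G).map q : Set (G ⧸ V))).comap q := by
    unfold Cfsg.omegaOne
    rw [closure_le]
    intro x hx
    rw [SetLike.mem_coe, mem_comap, mem_centralizer_iff]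
    rintro _ ⟨j, hj, rfl⟩
    have := mem_centralizer_iff.1 (mem_comap.1 (h1 hj)) (q x) ⟨x, hx, rfl⟩
    exact this.symm
  rw [commutator_le]
  intro w hw j hj
  have h3 := mem_centralizer_iff.1 (mem_comap.1 (h2 hw)) (q j) ⟨j, hj, rfl⟩
  have h4 : q ⁅w, j⁆ = 1 := by
    rw [map_commutatorElement, commutatorElement_eq_one_iff_mul_comm]
    exact h3.symm
  rw [hq, QuotientGroup.mk'_apply, QuotientGroup.eq_one_iff] at h4
  exact h4

end Cfsg.Agent.Helper1.JCent
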