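import Mathlib
import Cfsg.Prelude.Def_CaseTheorems
import Cfsg.Agent.S3806

set_option autoImplicit false

/-!
# Piece (LC) for S3104: a line configuration in `F_2^4` forces sectional `2`-rank `> 4`
-/

namespace Cfsg.Agent.Helper1.LineConfig

open Matrix
open scoped commutatorElement

theorem not_sectional_of_line_config {X : Type*} [Group X] [Finite X] (R : Subgroup X) [hRn : R.Normal]
    (φ : ↥R →* Multiplicative (Fin 4 → ZMod 2)) (hφ : Function.Surjective φ)
    (ρ : X →* GL (Fin 4) (ZMod 2)) (hker : ρ.ker = R)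
    (hcompat : ∀ (x : X) (r : ↥R), φ ⟨x * (r : X) * x⁻¹, hRn.conj_mem (r : X) r.2 x⟩ =
        Multiplicative.ofAdd (((ρ x : GL (Fin 4) (ZMod 2)) : Matrix (Fin 4) (Fin 4) (ZMod 2)) *ᵥ Multiplicative.toAdd (φ r)))
    (U : Subgroup (GL (Fin 4) (ZMod 2))) (hU8 : Nat.card ↥U = 8) (hUρ : U ≤ ρ.range)
    (L : AddSubgroup (Fin 4 → ZMod 2)) (hL4 : Nat.card ↥L = 4)
    (hUL : ∀ u ∈ U, ∀ v : Fin 4 → ZMod 2, (u : Matrix (Fin 4) (Fin 4) (ZMod 2)) *ᵥ v - v ∈ L)
    (hLU : ∀ u ∈ U, ∀ v ∈ L, (u : Matrix (Fin 4) (Fin 4) (ZMod 2)) *ᵥ v = v)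
    (hsq : ∀ u ∈ U, u ≠ 1 →
      (∀ v : Fin 4 → ZMod 2, (u : Matrix (Fin 4) (Fin 4) (ZMod 2)) *ᵥ v = v → v ∈ L) ∨
      (∃ s ∈ ρ.range, s * u = u * s ∧ ∀ v : Fin 4 → ZMod 2, (u : Matrix (Fin 4) (Fin 4) (ZMod 2)) *ᵥ v = v →
        (∃ w : Fin 4 → ZMod 2, (s : Matrix (Fin 4) (Fin 4) (ZMod 2)) *ᵥ v - v = (u : Matrix (Fin 4) (Fin 4) (ZMod 2)) *ᵥ w - w) → v ∈ L)) :
    ¬ Cfsg.SectionalPRankLE 2 4 X := by
  classical
  -- characteristic two
  have hchar : ∀ w : Fin 4 → ZMod 2, w + w = 0 := by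
    intro w
    funext i
    exact CharTwo.add_self_eq_zero (w i)
  -- the function `ψ`
  let ψ : X → (Fin 4 → ZMod 2) := fun x =>
    if h : x ∈ R then Multiplicative.toAdd (φ ⟨x, h⟩) else 0
  have hψ : ∀ (x : X) (h : x ∈ R), ψ x = Multiplicative.toAdd (φ ⟨x, h⟩) := by
    intro x h
    simp only [ψ, dif_pos h]
  have hψmul : ∀ a b : X, a ∈ R → b ∈ R → ψ (a * b) = ψ a + ψ b := by
    intro a b ha hb
    rw [hψ _ (R.mul_mem ha hb), hψ _ ha, hψ _ hb]
    have : (⟨a * b, R.mul_mem ha hb⟩ : R) = ⟨a, ha⟩ * ⟨b, hb⟩ := rfl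
    rw [this, map_mul, toAdd_mul]
  have hψconj : ∀ x r : X, r ∈ R →
      ψ (x * r * x⁻¹) = ((ρ x : GL (Fin 4) (ZMod 2)) : Matrix (Fin 4) (Fin 4) (ZMod 2)) *ᵥ ψ r := by
    intro x r hr
    rw [hψ _ (hRn.conj_mem r hr x), hψ _ hr]
    have := hcompat x ⟨r, hr⟩
    rw [this]
    rfl
  -- the subgroups
  set A : Subgroup X := U.comap ρ with hA
  have hRA : R ≤ A := by
    intro x hx
    rw [hA, Subgroup.mem_comap]
    have : ρ x = 1 := by rw [← hker] at hx; exact hx
    rw [this]; exact U.one_mem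
  let M : Subgroup X :=
    { carrier := {x | x ∈ R ∧ ψ x ∈ L}
      one_mem' := by
        refine ⟨R.one_mem, ?_⟩
        rw [hψ _ R.one_mem]
        have : (⟨1, R.one_mem⟩ : R) = 1 := rfl
        rw [this, map_one]
        exact L.zero_mem
      mul_mem' := by
        rintro a b ⟨ha, ha'⟩ ⟨hb, hb'⟩
        refine ⟨R.mul_mem ha hb, ?_⟩
        rw [hψmul a b ha hb]
        exact L.add_mem ha' hb'
      inv_mem' := by
        rintro a ⟨ha, ha'⟩
        refine ⟨R.inv_mem ha, ?_⟩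
        have h1 : ψ (a * a⁻¹) = ψ a + ψ a⁻¹ := hψmul a a⁻¹ ha (R.inv_mem ha)
        have h0 : ψ (a * a⁻¹) = 0 := by
          rw [mul_inv_cancel, hψ _ R.one_mem]
          have : (⟨1, R.one_mem⟩ : R) = 1 := rfl
          rw [this, map_one]; rfl
        rw [h0] at h1
        have h2 : ψ a⁻¹ = -ψ a := by
          rw [eq_neg_iff_add_eq_zero, add_comm]; exact h1.symm
        rw [h2]
        exact L.neg_mem ha' }
  have hM : ∀ x : X, x ∈ M ↔ x ∈ R ∧ ψ x ∈ L := fun x => Iff.rfl
  have hMR : M ≤ R := fun x hx => ((hM x).mp hx).1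
  -- `A` normalizes `M`
  have hconjM : ∀ a ∈ A, ∀ m ∈ M, a * m * a⁻¹ ∈ M := by
    intro a ha m hm
    obtain ⟨hmR, hmL⟩ := (hM m).mp hm
    rw [hM]
    refine ⟨hRn.conj_mem m hmR a, ?_⟩
    rw [hψconj a m hmR, hLU (ρ a) ha _ hmL]
    exact hmL
  haveI hMn : (M.subgroupOf A).Normal := by
    refine ⟨fun n hn a => ?_⟩
    rw [Subgroup.mem_subgroupOf] at hn ⊢
    have := hconjM a a.2 n hn
    simpa using this
  -- squares
  have hsquare : ∀ g ∈ A, g ^ 2 ∈ M := by
    intro g hg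
    set u : GL (Fin 4) (ZMod 2) := ρ g with hu
    have huU : u ∈ U := hg
    -- `u * u = 1`
    have huu : u * u = 1 := by
      apply Units.ext
      rw [Units.val_mul, Units.val_one]
      rw [Matrix.ext_iff_mulVec]
      intro v
      rw [← Matrix.mulVec_mulVec, Matrix.one_mulVec]
      set uv := (u : Matrix (Fin 4) (Fin 4) (ZMod 2)) *ᵥ v with huv
      have h1 : (u : Matrix (Fin 4) (Fin 4) (ZMod 2)) *ᵥ (uv - v) = uv - v :=
        hLU u huU _ (hUL u huU v)
      rw [Matrix.mulVec_sub, ← huv] at h1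
      -- u uv - uv = uv - v
      have h2 : (u : Matrix (Fin 4) (Fin 4) (ZMod 2)) *ᵥ uv = uv + uv - v := by
        rw [sub_eq_iff_eq_add] at h1
        rw [h1]; abel
      rw [h2, hchar uv, zero_sub]
      have := hchar v
      exact neg_eq_of_add_eq_zero_left this
    have hg2R : g ^ 2 ∈ R := by
      rw [← hker, MonoidHom.mem_ker, map_pow, ← hu, pow_two, huu]
    set v := ψ (g ^ 2) with hv
    have huv : (u : Matrix (Fin 4) (Fin 4) (ZMod 2)) *ᵥ v = v := by
      have h1 := hψconj g (g ^ 2) hg2R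
      have h2 : g * g ^ 2 * g⁻¹ = g ^ 2 := by rw [pow_two]; group
      rw [h2] at h1
      exact h1.symm
    rw [hM]
    refine ⟨hg2R, ?_⟩
    by_cases hu1 : u = 1
    · have hgR : g ∈ R := by rw [← hker, MonoidHom.mem_ker]; exact hu1
      show ψ (g ^ 2) ∈ L
      rw [pow_two, hψmul g g hgR hgR, hchar]
      exact L.zero_mem
    · rcases hsq u huU hu1 with h1 | ⟨s, ⟨ŝ, rfl⟩, hsu, h2⟩
      · exact h1 v huv
      · apply h2 v huv
        set r : X := g⁻¹ * (ŝ * g * ŝ⁻¹) with hr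
        have hrR : r ∈ R := by
          rw [← hker, MonoidHom.mem_ker, hr]
          simp only [map_mul, map_inv]
          rw [← hu, hsu, mul_inv_cancel_right, inv_mul_cancel]
        set w := ψ r with hw
        refine ⟨w, ?_⟩
        have hkey : ŝ * g ^ 2 * ŝ⁻¹ = g ^ 2 * (g⁻¹ * r * g⁻¹⁻¹) * r := by
          rw [hr, pow_two]; group
        have hL1 : ψ (ŝ * g ^ 2 * ŝ⁻¹) = ((ρ ŝ : GL (Fin 4) (ZMod 2)) : Matrix (Fin 4) (Fin 4) (ZMod 2)) *ᵥ v :=
          hψconj ŝ (g ^ 2) hg2R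
        have hcR : g⁻¹ * r * g⁻¹⁻¹ ∈ R := hRn.conj_mem r hrR g⁻¹
        have hinv : ρ g⁻¹ = u := by
          rw [map_inv, ← hu]
          exact inv_eq_of_mul_eq_one_right huu
        have hL2 : ψ (g ^ 2 * (g⁻¹ * r * g⁻¹⁻¹) * r)
            = v + (u : Matrix (Fin 4) (Fin 4) (ZMod 2)) *ᵥ w + w := by
          rw [hψmul _ _ (R.mul_mem hg2R hcR) hrR, hψmul _ _ hg2R hcR, hψconj g⁻¹ r hrR, hinv]
        rw [hkey, hL2] at hL1
        rw [← hL1]
        have hw2 := hchar w
        have : w = -w := eq_neg_of_add_eq_zero_left hw2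
        calc v + (u : Matrix (Fin 4) (Fin 4) (ZMod 2)) *ᵥ w + w - v
            = (u : Matrix (Fin 4) (Fin 4) (ZMod 2)) *ᵥ w + w := by abel
          _ = (u : Matrix (Fin 4) (Fin 4) (ZMod 2)) *ᵥ w - w := by
              rw [sub_eq_add_neg, ← this]
  -- commutators
  have hcomm : ∀ a ∈ A, ∀ b ∈ A, ⁅a, b⁆ ∈ M := by
    intro a ha b hb
    have e : ⁅a, b⁆ = (a * b) ^ 2 * (b⁻¹ * (a⁻¹) ^ 2 * b⁻¹⁻¹) * (b⁻¹) ^ 2 := by
      rw [commutatorElement_def, pow_two, pow_two, pow_two]; group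
    rw [e]
    exact M.mul_mem (M.mul_mem (hsquare _ (A.mul_mem ha hb))
      (hconjM b⁻¹ (A.inv_mem hb) _ (hsquare _ (A.inv_mem ha)))) (hsquare _ (A.inv_mem hb))
  -- the index
  have hidx : 2 ^ 4 < (M.subgroupOf A).index := by
    have h1 : M.relIndex R * R.relIndex A = M.relIndex A := Subgroup.relIndex_mul_relIndex M R A hMR hRA
    -- `R.relIndex A = 8`
    have h2 : R.relIndex A = 8 := by
      let f : A →* (A.map ρ) := ρ.subgroupMap A
      have hf : Function.Surjective f := ρ.subgroupMap_surjective A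
      have hkerf : f.ker = R.subgroupOf A := by
        ext x
        rw [MonoidHom.mem_ker, Subgroup.mem_subgroupOf, ← hker, MonoidHom.mem_ker]
        constructor
        · intro h
          have := congrArg Subtype.val h
          exact this
        · intro h
          exact Subtype.ext h
      have h3 : f.ker.index = Nat.card f.range := Subgroup.index_ker f
      rw [MonoidHom.range_eq_top.mpr hf, Subgroup.card_top, hkerf] at h3
      have h4 : A.map ρ = U := by
        rw [hA, Subgroup.map_comap_eq, inf_eq_right]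
        exact hUρ
      rw [Subgroup.relIndex, h3, h4, hU8]
    -- `M.relIndex R = 4`
    have h5 : M.relIndex R = 4 := by
      let L' : Subgroup (Multiplicative (Fin 4 → ZMod 2)) :=
        { carrier := {m | Multiplicative.toAdd m ∈ L}
          one_mem' := L.zero_mem
          mul_mem' := fun {a b} ha hb => L.add_mem ha hb
          inv_mem' := fun {a} ha => L.neg_mem ha }
      have hML : M.subgroupOf R = L'.comap φ := by
        ext x
        rw [Subgroup.mem_subgroupOf, hM, Subgroup.mem_comap]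
        constructor
        · rintro ⟨_, h⟩
          rw [hψ _ x.2] at h
          exact h
        · intro h
          refine ⟨x.2, ?_⟩
          rw [hψ _ x.2]
          exact h
      have h6 : (L'.comap φ).index = L'.index := Subgroup.index_comap_of_surjective L' hφ
      have h7 : L'.index * Nat.card L' = Nat.card (Multiplicative (Fin 4 → ZMod 2)) :=
        L'.index_mul_card
      have h8 : Nat.card L' = 4 := by
        refine Eq.trans ?_ hL4
        exact Nat.card_congr
          { toFun := fun m => ⟨Multiplicative.toAdd m.1, m.2⟩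
            invFun := fun l => ⟨Multiplicative.ofAdd l.1, l.2⟩
            left_inv := fun m => rfl
            right_inv := fun l => rfl }
      have h9 : Nat.card (Multiplicative (Fin 4 → ZMod 2)) = 16 := by
        rw [Nat.card_eq_fintype_card]
        simp
      rw [h8, h9] at h7
      rw [Subgroup.relIndex, hML, h6]
      omega
    have h10 : (M.subgroupOf A).index = M.relIndex A := rfl
    rw [h10, ← h1, h5, h2]
    norm_num
  exact Cfsg.Agent.S3806.not_sectionalPRankLE_of_section A M hcomm (fun a ha => hsquare a ha) hidx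

end Cfsg.Agent.Helper1.LineConfig
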