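import Cfsg.Agent.Helper78.PNilpotent
import Cfsg.Agent.Helper2.PComplement
import Cfsg.Agent.Helper1.Compl

/-!
# Transport lemmas for `Cfsg.HasNormalPComplement` (helper1)
-/

set_option autoImplicit false

namespace Cfsg.Agent.Helper1

open Subgroup

universe u v

variable {G : Type u} [Group G] {p : ℕ}

/-- a normal `p'`-subgroup supplementing a Sylow `p`-subgroup is a normal `p`-complement -/
theorem npc_of_normal_coprime [Finite G] [Fact p.Prime] (P : Sylow p G) (N : Subgroup G) [hN : N.Normal]
    (hcop : (Nat.card N).Coprime p) (hsup : N ⊔ (P : Subgroup G) = ⊤) :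
    Cfsg.HasNormalPComplement p G := by
  refine ⟨P, N, hN, ?_⟩
  apply isComplement'_of_disjoint_and_mul_eq_univ
  · apply Subgroup.disjoint_of_coprime_natCard
    obtain ⟨k, hk⟩ := (IsPGroup.iff_card.mp P.2)
    rw [hk]
    exact Nat.Coprime.pow_right k hcop
  · rw [← Subgroup.normal_mul, hsup, Subgroup.coe_top]

/-- images of groups with a normal `p`-complement have a normal `p`-complement -/
theorem npc_of_surjective [Finite G] [Fact p.Prime] {G' : Type v} [Group G'] (f : G →* G')
    (hf : Function.Surjective f) (h : Cfsg.HasNormalPComplement p G) :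
    Cfsg.HasNormalPComplement p G' := by
  haveI : Finite G' := Finite.of_surjective f hf
  obtain ⟨P, N, hNn, hN⟩ := h
  have hcop : (Nat.card N).Coprime (Nat.card (P : Subgroup G)) := by
    rw [← hN.index_eq_card]
    exact P.card_coprime_index.symm
  have hc' := isComplement'_map_of_surjective hN hcop f hf
  refine ⟨P.mapSurjective hf, N.map f, hNn.map f hf, ?_⟩
  rw [Sylow.coe_mapSurjective]
  exact hc'

theorem npc_congr [Finite G] [Fact p.Prime] {G' : Type v} [Group G'] (e : G ≃* G') :
    Cfsg.HasNormalPComplement p G ↔ Cfsg.HasNormalPComplement p G' := by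
  haveI : Finite G' := Finite.of_equiv G e.toEquiv
  exact ⟨npc_of_surjective e.toMonoidHom e.surjective,
    npc_of_surjective e.symm.toMonoidHom e.symm.surjective⟩

theorem npc_top_iff [Finite G] [Fact p.Prime] :
    Cfsg.HasNormalPComplement p ↥(⊤ : Subgroup G) ↔ Cfsg.HasNormalPComplement p G :=
  npc_congr Subgroup.topEquiv

theorem npc_of_le [Finite G] [Fact p.Prime] {X Y : Subgroup G} (hXY : X ≤ Y)
    (h : Cfsg.HasNormalPComplement p ↥Y) : Cfsg.HasNormalPComplement p ↥X := by
  have h1 := Cfsg.Agent.Helper78.hasNormalPComplement_subgroup h (X.subgroupOf Y)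
  exact (npc_congr (Subgroup.subgroupOfEquivOfLe hXY)).mp h1

theorem npc_map [Finite G] [Fact p.Prime] {G' : Type v} [Group G'] (f : G →* G') (X : Subgroup G)
    (h : Cfsg.HasNormalPComplement p ↥X) : Cfsg.HasNormalPComplement p ↥(X.map f) :=
  npc_of_surjective (f.subgroupMap X) (f.subgroupMap_surjective X) h

theorem npc_of_map_injective [Finite G] [Fact p.Prime] {G' : Type v} [Group G'] (f : G →* G')
    (hf : Function.Injective f) (X : Subgroup G) (h : Cfsg.HasNormalPComplement p ↥(X.map f)) :
    Cfsg.HasNormalPComplement p ↥X := by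
  haveI : Finite ↥(X.map f) := Finite.of_surjective (f.subgroupMap X) (f.subgroupMap_surjective X)
  exact (npc_congr (X.equivMapOfInjective f hf).symm).mp h

/-- data of a normal `p`-complement of a subgroup `M ≥ P` inside `G` -/
theorem npc_sub_data [Finite G] [Fact p.Prime] {M : Subgroup G} (P : Sylow p G)
    (hPM : (P : Subgroup G) ≤ M) (h : Cfsg.HasNormalPComplement p ↥M) :
    ∃ L : Subgroup G, L ≤ M ∧ M ≤ normalizer (L : Set G) ∧ (Nat.card L).Coprime p ∧
      M = L ⊔ (P : Subgroup G) := by
  obtain ⟨N', hNn, hN⟩ := (Cfsg.Agent.Helper2.hasNormalPComplement_iff (P.subtype hPM)).mp h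
  have hPmap : ((P.subtype hPM : Sylow p ↥M) : Subgroup ↥M).map M.subtype = (P : Subgroup G) := by
    rw [Sylow.coe_subtype, Subgroup.subgroupOf_map_subtype, inf_eq_left.mpr hPM]
  refine ⟨N'.map M.subtype, Subgroup.map_subtype_le N', ?_, ?_, ?_⟩
  · have := Subgroup.le_normalizer_map (H := N') M.subtype
    rw [Subgroup.normalizer_eq_top_iff.mpr hNn, ← MonoidHom.range_eq_map, Subgroup.range_subtype] at this
    exact this
  · rw [Subgroup.card_map_of_injective M.subtype_injective, ← hN.index_eq_card]
    have := (P.subtype hPM).card_coprime_index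
    obtain ⟨k, hk⟩ := (IsPGroup.iff_card.mp (P.subtype hPM).2)
    by_cases hk0 : k = 0
    · have hp := (Fact.out : p.Prime)
      rw [Nat.coprime_comm, Nat.Prime.coprime_iff_not_dvd hp]
      intro hdvd
      have h1 := (P.subtype hPM).not_dvd_index
      exact h1 hdvd
    · rw [hk] at this
      exact ((Nat.coprime_pow_left_iff (Nat.pos_of_ne_zero hk0) _ _).mp this).symm
  · have h1 := hN.sup_eq_top
    have h2 := congrArg (Subgroup.map M.subtype) h1
    rw [Subgroup.map_sup, hPmap, ← MonoidHom.range_eq_map, Subgroup.range_subtype] at h2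
    exact h2.symm

end Cfsg.Agent.Helper1
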