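import Mathlib

/-!
# Offenders of exponent `2` on a faithful module of characteristic `2` (helper1)

`Γ` acts faithfully on the elementary abelian `2`-group `U`; `Y ≤ Γ` is abelian of odd order, normalized by the
subgroup `E` of exponent `2`, which acts faithfully on `Y` and is an offender on `U`
(`|U| ≤ |E| |C_U(E)|`).  Then some `a ∈ E` inverts some `1 ≠ y ∈ Y` and `|U : C_U(a)| ≤ 2`.
-/

set_option autoImplicit false
set_option linter.unusedSectionVars false
set_option linter.style.haveILetI false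

namespace Cfsg.Agent.Helper1

open Subgroup

variable {Γ : Type*} [Group Γ] {U : Type*} [CommGroup U]

/-- the fixed points of `B` on `U` -/
def fixSub (ρ : Γ →* MulAut U) (B : Subgroup Γ) : Subgroup U where
  carrier := {u | ∀ b ∈ B, ρ b u = u}
  one_mem' := fun b _ => map_one _
  mul_mem' := fun {x y} hx hy b hb => by rw [map_mul, hx b hb, hy b hb]
  inv_mem' := fun {x} hx b hb => by rw [map_inv, hx b hb]

theorem mem_fixSub {ρ : Γ →* MulAut U} {B : Subgroup Γ} {u : U} :
    u ∈ fixSub ρ B ↔ ∀ b ∈ B, ρ b u = u := Iff.rfl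

theorem fixSub_anti (ρ : Γ →* MulAut U) {B B' : Subgroup Γ} (h : B ≤ B') :
    fixSub ρ B' ≤ fixSub ρ B := fun _ hu b hb => hu b (h hb)

/-- the "trace kernel" of `y` on `U`: it contains `[U, y]` and meets `C_U(y)` trivially -/
def trKer (ρ : Γ →* MulAut U) (y : Γ) : Subgroup U where
  carrier := {u | ∏ i ∈ Finset.range (orderOf y), ρ (y ^ i) u = 1}
  one_mem' := by simp
  mul_mem' := fun {a b} ha hb => by
    simp only [Set.mem_setOf_eq, map_mul, Finset.prod_mul_distrib] at ha hb ⊢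
    rw [ha, hb, one_mul]
  inv_mem' := fun {a} ha => by
    simp only [Set.mem_setOf_eq, map_inv, Finset.prod_inv_distrib] at ha ⊢
    rw [ha, inv_one]

theorem mem_trKer {ρ : Γ →* MulAut U} {y : Γ} {u : U} :
    u ∈ trKer ρ y ↔ ∏ i ∈ Finset.range (orderOf y), ρ (y ^ i) u = 1 := Iff.rfl

theorem comm_mem_trKer [Finite Γ] (ρ : Γ →* MulAut U) (y : Γ) (u : U) :
    ρ y u * u⁻¹ ∈ trKer ρ y := by
  rw [mem_trKer]
  simp only [map_mul, map_inv, Finset.prod_mul_distrib, Finset.prod_inv_distrib]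
  have h1 : ∏ i ∈ Finset.range (orderOf y), ρ (y ^ i) (ρ y u) =
      ∏ i ∈ Finset.range (orderOf y), ρ (y ^ i) u := by
    have h2 : ∀ i, ρ (y ^ i) (ρ y u) = ρ (y ^ (i + 1)) u := by
      intro i
      rw [pow_succ, map_mul, MulAut.mul_apply]
    simp_rw [h2]
    have h3 := Finset.prod_range_succ (fun i => ρ (y ^ i) u) (orderOf y)
    have h4 := Finset.prod_range_succ' (fun i => ρ (y ^ i) u) (orderOf y)
    rw [h3] at h4
    simp only [pow_orderOf_eq_one, pow_zero] at h4
    exact (mul_right_cancel h4).symm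
  rw [h1, mul_inv_cancel]

theorem eq_one_of_mem_trKer_of_fixed (ρ : Γ →* MulAut U) (hU2 : ∀ u : U, u * u = 1) (y : Γ)
    (hy : Odd (orderOf y)) {u : U} (hu : u ∈ trKer ρ y) (hfix : ρ y u = u) : u = 1 := by
  rw [mem_trKer] at hu
  have h1 : ∀ i : ℕ, ρ (y ^ i) u = u := by
    intro i
    induction i with
    | zero => simp
    | succ n ih => rw [pow_succ, map_mul, MulAut.mul_apply, hfix, ih]
  simp_rw [h1] at hu
  rw [Finset.prod_const, Finset.card_range] at hu
  obtain ⟨k, hk⟩ := hy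
  rw [hk, pow_succ, pow_mul, pow_two, hU2, one_pow, one_mul] at hu
  exact hu

theorem trKer_invariant (ρ : Γ →* MulAut U) (y b : Γ) (hby : b * y = y * b) {u : U}
    (hu : u ∈ trKer ρ y) : ρ b u ∈ trKer ρ y := by
  rw [mem_trKer] at hu ⊢
  have h1 : ∀ i : ℕ, b * y ^ i = y ^ i * b := by
    intro i
    exact ((Commute.pow_right (show Commute b y from hby) i)).eq
  have h2 : ∀ i : ℕ, ρ (y ^ i) (ρ b u) = ρ b (ρ (y ^ i) u) := by
    intro i
    rw [← MulAut.mul_apply, ← map_mul, ← h1, map_mul, MulAut.mul_apply]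
  simp_rw [h2]
  rw [← map_prod, hu, map_one]

/-- a version of Thompson's `A × B` lemma in characteristic `2` -/
theorem axb_false [Finite Γ] [Finite U] (ρ : Γ →* MulAut U) (hρ : Function.Injective ρ)
    (hU2 : ∀ u : U, u * u = 1) (y : Γ) (hy1 : y ≠ 1) (hyodd : Odd (orderOf y))
    (B : Subgroup Γ) (hB2 : ∀ b ∈ B, b * b = 1) (hBy : ∀ b ∈ B, b * y = y * b)
    (hfix : ∀ u ∈ fixSub ρ B, ρ y u = u) : False := by
  haveI : Fact (2 : ℕ).Prime := ⟨Nat.prime_two⟩
  -- `W ≠ ⊥`
  have hWne : trKer ρ y ≠ ⊥ := by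
    intro hbot
    apply hy1
    apply hρ
    rw [map_one]
    ext u
    have h1 := comm_mem_trKer ρ y u
    rw [hbot, Subgroup.mem_bot] at h1
    rw [MulAut.one_apply]
    exact mul_inv_eq_one.mp h1
  -- the action of `B` on `W`
  letI : MulAction ↥B ↥(trKer ρ y) :=
    { smul := fun b w => ⟨ρ (b : Γ) (w : U), trKer_invariant ρ y b (hBy b b.2) w.2⟩
      one_smul := fun w => Subtype.ext (by
        show ρ ((1 : ↥B) : Γ) (w : U) = w
        rw [Subgroup.coe_one, map_one, MulAut.one_apply])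
      mul_smul := fun b b' w => Subtype.ext (by
        show ρ ((b * b' : ↥B) : Γ) (w : U) = ρ (b : Γ) (ρ (b' : Γ) (w : U))
        rw [Subgroup.coe_mul, map_mul, MulAut.mul_apply]) }
  have hsmul : ∀ (b : ↥B) (w : ↥(trKer ρ y)), ((b • w : ↥(trKer ρ y)) : U) = ρ (b : Γ) (w : U) :=
    fun _ _ => rfl
  have hBp : IsPGroup 2 ↥B := by
    intro b
    refine ⟨1, ?_⟩
    apply Subtype.ext
    rw [pow_one, pow_two, Subgroup.coe_mul, Subgroup.coe_one]
    exact hB2 b b.2
  have hWp : IsPGroup 2 ↥(trKer ρ y) := by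
    intro w
    refine ⟨1, ?_⟩
    apply Subtype.ext
    rw [pow_one, pow_two, Subgroup.coe_mul, Subgroup.coe_one]
    exact hU2 w
  have h2dvd : 2 ∣ Nat.card ↥(trKer ρ y) := by
    obtain ⟨k, hk⟩ := IsPGroup.iff_card.mp hWp
    have hk0 : k ≠ 0 := by
      rintro rfl
      rw [pow_zero] at hk
      exact hWne (Subgroup.card_eq_one.mp hk)
    rw [hk]
    exact dvd_pow_self 2 hk0
  have h1fix : (1 : ↥(trKer ρ y)) ∈ MulAction.fixedPoints ↥B ↥(trKer ρ y) := by
    intro b
    apply Subtype.ext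
    rw [hsmul, Subgroup.coe_one, map_one]
  obtain ⟨w, hw, hw1⟩ := hBp.exists_fixed_point_of_prime_dvd_card_of_fixed_point _ h2dvd h1fix
  have hwfix : (w : U) ∈ fixSub ρ B := by
    intro b hb
    have := hw ⟨b, hb⟩
    exact congrArg Subtype.val this
  have := eq_one_of_mem_trKer_of_fixed ρ hU2 y hyodd w.2 (hfix _ hwfix)
  exact hw1 (Subtype.ext this).symm

theorem comm_of_sq_eq_one {E : Subgroup Γ} (hE2 : ∀ x ∈ E, x * x = 1) {x x' : Γ} (hx : x ∈ E)
    (hx' : x' ∈ E) : x * x' = x' * x := by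
  have h1 := hE2 (x * x') (E.mul_mem hx hx')
  have h2 := hE2 x hx
  have h3 := hE2 x' hx'
  calc x * x' = x' * x' * (x * x') * (x * x) := by rw [h3, h2, one_mul, mul_one]
    _ = x' * (x' * x * x' * x) * x := by group
    _ = x' * x := by
      have : x' * x * x' * x = 1 := by
        have h4 : x' * x * (x' * x) = 1 := hE2 _ (E.mul_mem hx' hx)
        rw [← h4]; group
      rw [this, mul_one]

theorem sq_ne_one_of_odd {y : Γ} (hy : Odd (orderOf y)) (hy1 : y ≠ 1) : y * y ≠ 1 := by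
  intro h
  have h1 : orderOf y ∣ 2 := orderOf_dvd_of_pow_eq_one (by rw [pow_two]; exact h)
  have h2 : orderOf y = 1 := by
    rcases (Nat.dvd_prime Nat.prime_two).mp h1 with h3 | h3
    · exact h3
    · rw [h3] at hy
      exact absurd hy (by decide)
  exact hy1 (orderOf_eq_one_iff.mp h2)

/-- common eigenvectors for a group of exponent `2` acting on an abelian group of odd order -/
theorem exists_common_eigen (Y E : Subgroup Γ)
    (hYc : ∀ y ∈ Y, ∀ y' ∈ Y, y * y' = y' * y) (hYodd : ∀ y ∈ Y, Odd (orderOf y))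
    (hEY : ∀ x ∈ E, ∀ y ∈ Y, MulAut.conj x y ∈ Y) (hE2 : ∀ x ∈ E, x * x = 1)
    (a : Γ) (ha : a ∈ E) (y₀ : Γ) (hy₀ : y₀ ∈ Y) (hy₀1 : y₀ ≠ 1) (hay₀ : MulAut.conj a y₀ = y₀⁻¹)
    (S : Finset Γ) (hS : ∀ b ∈ S, b ∈ E) :
    ∃ y ∈ Y, y ≠ 1 ∧ MulAut.conj a y = y⁻¹ ∧
      ∀ b ∈ S, MulAut.conj b y = y ∨ MulAut.conj b y = y⁻¹ := by
  classical
  induction S using Finset.induction_on with
  | empty => exact ⟨y₀, hy₀, hy₀1, hay₀, fun b hb => absurd hb (Finset.notMem_empty b)⟩
  | insert b S hbS ih =>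
    obtain ⟨y, hyY, hy1, hay, hyS⟩ := ih (fun x hx => hS x (Finset.mem_insert_of_mem hx))
    have hbE : b ∈ E := hS b (Finset.mem_insert_self b S)
    set c := MulAut.conj b y with hc
    have hcY : c ∈ Y := hEY b hbE y hyY
    have hswap : ∀ s ∈ E, ∀ z : Γ, MulAut.conj s (MulAut.conj b z) = MulAut.conj b (MulAut.conj s z) := by
      intro s hs z
      rw [← MulAut.mul_apply, ← MulAut.mul_apply, ← map_mul, ← map_mul, comm_of_sq_eq_one hE2 hs hbE]
    have hac : MulAut.conj a c = c⁻¹ := by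
      rw [hc, hswap a ha, hay, map_inv]
    have hbc : MulAut.conj b c = y := by
      rw [hc, ← MulAut.mul_apply, ← map_mul, hE2 b hbE, map_one, MulAut.one_apply]
    have hyc : y * c = c * y := hYc y hyY c hcY
    have hyci : y * c⁻¹ = c⁻¹ * y := hYc y hyY c⁻¹ (Y.inv_mem hcY)
    have hyic : y⁻¹ * c = c * y⁻¹ := hYc y⁻¹ (Y.inv_mem hyY) c hcY
    -- the two candidates
    have hprod : (y * c) * (y * c⁻¹) = y * y := by
      calc (y * c) * (y * c⁻¹) = y * (c * y) * c⁻¹ := by group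
        _ = y * (y * c) * c⁻¹ := by rw [hyc]
        _ = y * y := by group
    have hne : y * c ≠ 1 ∨ y * c⁻¹ ≠ 1 := by
      by_contra hcon
      push Not at hcon
      have := sq_ne_one_of_odd (hYodd y hyY) hy1
      rw [← hprod, hcon.1, hcon.2, one_mul] at this
      exact this rfl
    -- properties of `y * c`
    have h1a : MulAut.conj a (y * c) = (y * c)⁻¹ := by
      rw [map_mul, hay, hac, mul_inv_rev]
      exact (hYc c⁻¹ (Y.inv_mem hcY) y⁻¹ (Y.inv_mem hyY)).symm
    have h1b : MulAut.conj b (y * c) = y * c := by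
      rw [map_mul, hbc, ← hc, hyc]
    have h1S : ∀ s ∈ S, MulAut.conj s (y * c) = y * c ∨ MulAut.conj s (y * c) = (y * c)⁻¹ := by
      intro s hs
      have hsE : s ∈ E := hS s (Finset.mem_insert_of_mem hs)
      rcases hyS s hs with h | h
      · left
        rw [map_mul, hc, hswap s hsE, h]
      · right
        rw [map_mul, hc, hswap s hsE, h, map_inv, ← hc, mul_inv_rev]
        exact (hYc c⁻¹ (Y.inv_mem hcY) y⁻¹ (Y.inv_mem hyY)).symm
    -- properties of `y * c⁻¹`
    have h2a : MulAut.conj a (y * c⁻¹) = (y * c⁻¹)⁻¹ := by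
      rw [map_mul, map_inv, hay, hac, mul_inv_rev, inv_inv]
      exact hyic
    have h2b : MulAut.conj b (y * c⁻¹) = (y * c⁻¹)⁻¹ := by
      rw [map_mul, map_inv, hbc, ← hc, mul_inv_rev, inv_inv]
    have h2S : ∀ s ∈ S, MulAut.conj s (y * c⁻¹) = y * c⁻¹ ∨
        MulAut.conj s (y * c⁻¹) = (y * c⁻¹)⁻¹ := by
      intro s hs
      have hsE : s ∈ E := hS s (Finset.mem_insert_of_mem hs)
      rcases hyS s hs with h | h
      · left
        rw [map_mul, map_inv, hc, hswap s hsE, h]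
      · right
        rw [map_mul, map_inv, hc, hswap s hsE, h, map_inv, ← hc, mul_inv_rev, inv_inv]
        exact hyic
    rcases hne with hne | hne
    · refine ⟨y * c, Y.mul_mem hyY hcY, hne, h1a, ?_⟩
      intro s hs
      rcases Finset.mem_insert.mp hs with rfl | hs
      · exact Or.inl h1b
      · exact h1S s hs
    · refine ⟨y * c⁻¹, Y.mul_mem hyY (Y.inv_mem hcY), hne, h2a, ?_⟩
      intro s hs
      rcases Finset.mem_insert.mp hs with rfl | hs
      · exact Or.inr h2b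
      · exact h2S s hs

/-- **Offenders of exponent `2`**: some `a ∈ E` inverts some `1 ≠ y ∈ Y` and acts on `U` as a transvection. -/
theorem offender_core [Finite Γ] [Finite U] (ρ : Γ →* MulAut U) (hρ : Function.Injective ρ)
    (hU2 : ∀ u : U, u * u = 1) (Y E : Subgroup Γ)
    (hYc : ∀ y ∈ Y, ∀ y' ∈ Y, y * y' = y' * y) (hYodd : ∀ y ∈ Y, Odd (orderOf y))
    (hEY : ∀ x ∈ E, ∀ y ∈ Y, MulAut.conj x y ∈ Y) (hE2 : ∀ x ∈ E, x * x = 1) (hEne : E ≠ ⊥)
    (hfaith : ∀ x ∈ E, (∀ y ∈ Y, MulAut.conj x y = y) → x = 1)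
    (hoff : Nat.card U ≤ Nat.card E * Nat.card (fixSub ρ E)) :
    ∃ a ∈ E, ∃ y ∈ Y, y ≠ 1 ∧ MulAut.conj a y = y⁻¹ ∧
      Nat.card U ≤ 2 * Nat.card (fixSub ρ (zpowers a)) := by
  classical
  -- a minimal nontrivial offender
  obtain ⟨B₀, hB₀E, hB₀min⟩ := Finite.exists_le_minimal
    (p := fun B : Subgroup Γ => B ≤ E ∧ B ≠ ⊥ ∧ Nat.card U ≤ Nat.card B * Nat.card (fixSub ρ B))
    (a := E) ⟨le_rfl, hEne, hoff⟩
  obtain ⟨hB₀le, hB₀ne, hB₀off⟩ := hB₀min.prop
  obtain ⟨a, haB₀, ha1⟩ := (Subgroup.ne_bot_iff_exists_ne_one).mp hB₀ne |>.elim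
    (fun x hx => (⟨x.1, x.2, fun h => hx (Subtype.ext h)⟩ : ∃ a : Γ, a ∈ B₀ ∧ a ≠ 1))
  have haE : a ∈ E := hB₀le haB₀
  -- an element of `Y` inverted by `a`
  obtain ⟨y₀, hy₀Y, hy₀⟩ : ∃ y₀ ∈ Y, MulAut.conj a y₀ ≠ y₀ := by
    by_contra hcon
    push Not at hcon
    exact ha1 (hfaith a haE hcon)
  have hainv : a⁻¹ = a := inv_eq_of_mul_eq_one_right (hE2 a haE)
  set c₀ := MulAut.conj a y₀ with hc₀
  have hc₀Y : c₀ ∈ Y := hEY a haE y₀ hy₀Y
  have hac₀ : MulAut.conj a c₀ = y₀ := by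
    rw [hc₀, ← MulAut.mul_apply, ← map_mul, hE2 a haE, map_one, MulAut.one_apply]
  obtain ⟨y, hyY, hy1, hay, hyB⟩ := exists_common_eigen Y E hYc hYodd hEY hE2 a haE (y₀ * c₀⁻¹)
    (Y.mul_mem hy₀Y (Y.inv_mem hc₀Y))
    (by
      intro h
      apply hy₀
      exact (mul_inv_eq_one.mp h).symm)
    (by
      rw [map_mul, map_inv, hac₀, ← hc₀, mul_inv_rev, inv_inv])
    ((Set.toFinite (B₀ : Set Γ)).toFinset) (fun b hb => hB₀le ((Set.Finite.mem_toFinset _).mp hb))
  have hyB' : ∀ b ∈ B₀, MulAut.conj b y = y ∨ MulAut.conj b y = y⁻¹ := fun b hb =>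
    hyB b ((Set.Finite.mem_toFinset _).mpr hb)
  have hyy : y * y ≠ 1 := sq_ne_one_of_odd (hYodd y hyY) hy1
  have hyinv : y⁻¹ ≠ y := by
    intro h
    apply hyy
    have h' : y * y = y⁻¹ * y := by
      conv_rhs => rw [h]
    rw [h', inv_mul_cancel]
  -- the centralizer of `y` in `B₀`
  set B := B₀ ⊓ centralizer ({y} : Set Γ) with hB
  have hmemB : ∀ b, b ∈ B ↔ b ∈ B₀ ∧ MulAut.conj b y = y := by
    intro b
    rw [hB, Subgroup.mem_inf, Subgroup.mem_centralizer_singleton_iff, MulAut.conj_apply]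
    constructor
    · rintro ⟨h1, h2⟩
      exact ⟨h1, by rw [h2, mul_inv_cancel_right]⟩
    · rintro ⟨h1, h2⟩
      exact ⟨h1, (mul_inv_eq_iff_eq_mul.mp h2)⟩
  have haB : a ∉ B := by
    intro h
    have := ((hmemB a).mp h).2
    rw [hay] at this
    exact hyinv this
  have hcover : ∀ b ∈ B₀, b ∈ B ∨ a * b ∈ B := by
    intro b hb
    rcases hyB' b hb with h | h
    · exact Or.inl ((hmemB b).mpr ⟨hb, h⟩)
    · right
      refine (hmemB _).mpr ⟨B₀.mul_mem haB₀ hb, ?_⟩
      rw [map_mul, MulAut.mul_apply, h, map_inv, hay, inv_inv]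
  have hcard : Nat.card B₀ ≤ 2 * Nat.card B := by
    have hsub : (B₀ : Set Γ) ⊆ (B : Set Γ) ∪ (fun b => a * b) '' (B : Set Γ) := by
      intro b hb
      rcases hcover b hb with h | h
      · exact Or.inl h
      · right
        refine ⟨a * b, h, ?_⟩
        show a * (a * b) = b
        rw [← mul_assoc, hE2 a haE, one_mul]
    have h1 : (B₀ : Set Γ).ncard ≤ ((B : Set Γ) ∪ (fun b => a * b) '' (B : Set Γ)).ncard :=
      Set.ncard_le_ncard hsub (Set.toFinite _)
    have h2 := Set.ncard_union_le (B : Set Γ) ((fun b => a * b) '' (B : Set Γ))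
    have h3 : ((fun b => a * b) '' (B : Set Γ)).ncard ≤ (B : Set Γ).ncard :=
      Set.ncard_image_le (Set.toFinite _)
    have h4 : Nat.card B₀ = (B₀ : Set Γ).ncard := (Nat.card_coe_set_eq _)
    have h5 : Nat.card B = (B : Set Γ).ncard := (Nat.card_coe_set_eq _)
    rw [h4, h5]
    omega
  have hBle : B ≤ B₀ := inf_le_left
  by_cases hBbot : B = ⊥
  · -- `B₀ = ⟨a⟩`
    refine ⟨a, haE, y, hyY, hy1, hay, ?_⟩
    rw [hBbot, Subgroup.card_bot, mul_one] at hcard
    have h1 : fixSub ρ B₀ ≤ fixSub ρ (zpowers a) :=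
      fixSub_anti ρ ((Subgroup.zpowers_le).mpr haB₀)
    calc Nat.card U ≤ Nat.card B₀ * Nat.card (fixSub ρ B₀) := hB₀off
      _ ≤ 2 * Nat.card (fixSub ρ (zpowers a)) :=
        Nat.mul_le_mul hcard (Subgroup.card_le_of_le h1)
  · exfalso
    -- `B` is not an offender
    have hBnot : ¬ Nat.card U ≤ Nat.card B * Nat.card (fixSub ρ B) := by
      intro h
      have := hB₀min.le_of_le ⟨hBle.trans hB₀le, hBbot, h⟩ hBle
      exact haB (this haB₀)
    push Not at hBnot
    have hfixle : fixSub ρ B₀ ≤ fixSub ρ B := fixSub_anti ρ hBle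
    have hfixeq : fixSub ρ B₀ = fixSub ρ B := by
      apply Subgroup.eq_of_le_of_card_ge hfixle
      obtain ⟨k, hk⟩ := Subgroup.card_dvd_of_le hfixle
      have hpos : 0 < Nat.card (fixSub ρ B₀) := Nat.card_pos
      have hposB : 0 < Nat.card B := Nat.card_pos
      -- |B| f < |U| ≤ 2 |B| f₀
      have h1 : Nat.card B * Nat.card (fixSub ρ B) < 2 * Nat.card B * Nat.card (fixSub ρ B₀) :=
        calc Nat.card B * Nat.card (fixSub ρ B) < Nat.card U := hBnot
          _ ≤ Nat.card B₀ * Nat.card (fixSub ρ B₀) := hB₀off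
          _ ≤ 2 * Nat.card B * Nat.card (fixSub ρ B₀) := Nat.mul_le_mul_right _ hcard
      rw [hk] at h1 ⊢
      have h2 : k < 2 := by
        by_contra hk2
        push Not at hk2
        have : 2 * Nat.card B * Nat.card (fixSub ρ B₀) ≤
            Nat.card B * (Nat.card (fixSub ρ B₀) * k) := by
          calc 2 * Nat.card B * Nat.card (fixSub ρ B₀)
              = Nat.card B * (Nat.card (fixSub ρ B₀) * 2) := by ring
            _ ≤ Nat.card B * (Nat.card (fixSub ρ B₀) * k) :=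
              Nat.mul_le_mul_left _ (Nat.mul_le_mul_left _ hk2)
        omega
      have h3 : k = 1 := by
        rcases Nat.lt_succ_iff.mp h2 with h
        interval_cases k
        · rw [mul_zero] at hk
          have : 0 < Nat.card (fixSub ρ B) := Nat.card_pos
          omega
        · rfl
      rw [h3, mul_one]
    -- `y` centralizes `C_U(B)`
    have hyfix : ∀ u ∈ fixSub ρ B, ρ y u = u := by
      intro u hu
      have hu₀ : u ∈ fixSub ρ B₀ := hfixeq ▸ hu
      have h1 : ρ y u ∈ fixSub ρ B := by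
        intro b hb
        have hby : b * y = y * b := by
          have := ((hmemB b).mp hb).2
          rw [MulAut.conj_apply] at this
          exact mul_inv_eq_iff_eq_mul.mp this
        rw [← MulAut.mul_apply, ← map_mul, hby, map_mul, MulAut.mul_apply, hu b hb]
      have h2 : ρ y u ∈ fixSub ρ B₀ := hfixeq ▸ h1
      have h3 : ρ a (ρ y u) = ρ y u := h2 a haB₀
      have hayeq : a * y = y⁻¹ * a := by
        have := hay
        rw [MulAut.conj_apply] at this
        exact mul_inv_eq_iff_eq_mul.mp this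
      have h4 : ρ a (ρ y u) = ρ y⁻¹ u := by
        rw [← MulAut.mul_apply, ← map_mul, hayeq, map_mul, MulAut.mul_apply, hu₀ a haB₀]
      have h5 : ρ (y * y) u = u := by
        rw [map_mul, MulAut.mul_apply]
        have h6 : ρ y u = ρ y⁻¹ u := h3.symm.trans h4
        rw [h6, ← MulAut.mul_apply, ← map_mul, mul_inv_cancel, map_one, MulAut.one_apply]
      -- `y` is a power of `y * y`
      obtain ⟨k, hk⟩ := hYodd y hyY
      have h7 : ∀ n : ℕ, ρ ((y * y) ^ n) u = u := by
        intro n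
        induction n with
        | zero => simp
        | succ n ih => rw [pow_succ, map_mul, MulAut.mul_apply, h5, ih]
      have h8 : (y * y) ^ (k + 1) = y := by
        rw [← pow_two, ← pow_mul]
        have : 2 * (k + 1) = orderOf y + 1 := by omega
        rw [this, pow_succ, pow_orderOf_eq_one, one_mul]
      rw [← h8]
      exact h7 (k + 1)
    exact axb_false ρ hρ hU2 y hy1 (hYodd y hyY) B
      (fun b hb => hE2 b (hB₀le (hBle hb)))
      (fun b hb => by
        have := ((hmemB b).mp hb).2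
        rw [MulAut.conj_apply] at this
        exact mul_inv_eq_iff_eq_mul.mp this)
      hyfix

end Cfsg.Agent.Helper1
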