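import Cfsg.Agent.Helper1.OffenderCore
import Cfsg.Agent.Helper51.Card

/-!
# The `S₃`-configuration produced by a transvection inverting an element of odd order (helper1)
-/

set_option autoImplicit false
set_option linter.unusedSectionVars false
set_option linter.style.haveILetI false

namespace Cfsg.Agent.Helper1

open Subgroup

variable {Γ : Type*} [Group Γ] {U : Type*} [CommGroup U]

theorem mem_fixSub_zpowers {ρ : Γ →* MulAut U} {g : Γ} {u : U} :
    u ∈ fixSub ρ (zpowers g) ↔ ρ g u = u := by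
  constructor
  · intro h
    exact h g (Subgroup.mem_zpowers g)
  · intro h b hb
    obtain ⟨k, rfl⟩ := Subgroup.mem_zpowers_iff.mp hb
    have h1 : ∀ n : ℕ, ρ (g ^ n) u = u := by
      intro n
      induction n with
      | zero => simp
      | succ n ih => rw [pow_succ, map_mul, MulAut.mul_apply, h, ih]
    have h2 : ∀ n : ℕ, ρ ((g ^ n)⁻¹) u = u := by
      intro n
      rw [map_inv]
      exact (MulEquiv.symm_apply_eq _).mpr (h1 n).symm
    cases k with
    | ofNat n => simpa using h1 n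
    | negSucc n => simpa using h2 (n + 1)

/-- transport of the trace kernel -/
theorem trKer_map (ρ : Γ →* MulAut U) (y g : Γ) {u : U} (hu : u ∈ trKer ρ (g⁻¹ * y * g)) :
    ρ g u ∈ trKer ρ y := by
  rw [mem_trKer] at hu ⊢
  have hord : orderOf (g⁻¹ * y * g) = orderOf y := by
    have h : SemiconjBy g (g⁻¹ * y * g) y := by
      unfold SemiconjBy
      group
    exact h.orderOf_eq g
  rw [hord] at hu
  have h1 : ∀ i : ℕ, ρ (y ^ i) (ρ g u) = ρ g (ρ ((g⁻¹ * y * g) ^ i) u) := by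
    intro i
    have : (g⁻¹ * y * g) ^ i = g⁻¹ * y ^ i * g := by
      have := conj_pow (a := g⁻¹) (b := y) (i := i)
      simpa using this
    rw [this, ← MulAut.mul_apply, ← MulAut.mul_apply, ← map_mul, ← map_mul]
    congr 2
    group
  simp_rw [h1]
  rw [← map_prod, hu, map_one]

theorem trKer_inv [Finite Γ] (ρ : Γ →* MulAut U) (y : Γ) : trKer ρ y⁻¹ = trKer ρ y := by
  ext u
  rw [mem_trKer, mem_trKer, orderOf_inv]
  have h1 : ∀ i ∈ Finset.range (orderOf y), ρ (y⁻¹ ^ i) u = ρ y (ρ (y ^ (orderOf y - 1 - i)) u) := by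
    intro i hi
    have hi' : i < orderOf y := Finset.mem_range.mp hi
    rw [← MulAut.mul_apply, ← map_mul]
    congr 2
    have : y * y ^ (orderOf y - 1 - i) = y ^ (orderOf y - i) := by
      rw [← pow_succ']
      congr 1
      omega
    rw [this, inv_pow]
    apply inv_eq_of_mul_eq_one_left
    rw [← pow_add]
    have : orderOf y - i + i = orderOf y := by omega
    rw [this, pow_orderOf_eq_one]
  rw [Finset.prod_congr rfl h1, ← map_prod,
    Finset.prod_range_reflect (fun j => ρ (y ^ j) u) (orderOf y)]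
  constructor
  · intro h
    have := congrArg (ρ y).symm h
    simpa using this
  · intro h
    rw [h, map_one]

theorem trKer_ne_bot [Finite Γ] (ρ : Γ →* MulAut U) (hρ : Function.Injective ρ) (y : Γ)
    (hy1 : y ≠ 1) : trKer ρ y ≠ ⊥ := by
  intro hbot
  apply hy1
  apply hρ
  rw [map_one]
  ext u
  have h1 := comm_mem_trKer ρ y u
  rw [hbot, Subgroup.mem_bot] at h1
  rw [MulAut.one_apply]
  exact mul_inv_eq_one.mp h1

theorem fixed_of_sq_fixed (ρ : Γ →* MulAut U) {y : Γ} (hy : Odd (orderOf y)) {u : U}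
    (h : ρ (y * y) u = u) : ρ y u = u := by
  obtain ⟨k, hk⟩ := hy
  have h7 : ∀ n : ℕ, ρ ((y * y) ^ n) u = u := by
    intro n
    induction n with
    | zero => simp
    | succ n ih => rw [pow_succ, map_mul, MulAut.mul_apply, h, ih]
  have h8 : (y * y) ^ (k + 1) = y := by
    rw [← pow_two, ← pow_mul]
    have : 2 * (k + 1) = orderOf y + 1 := by omega
    rw [this, pow_succ, pow_orderOf_eq_one, one_mul]
  rw [← h8]
  exact h7 (k + 1)

/-- elements inverting `y` preserve the trace kernel of `y` -/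
theorem trKer_of_inverts [Finite Γ] (ρ : Γ →* MulAut U) {y g : Γ} (hg : MulAut.conj g y = y⁻¹)
    {u : U} (hu : u ∈ trKer ρ y) : ρ g u ∈ trKer ρ y := by
  apply trKer_map
  have h1 : g⁻¹ * y * g = y⁻¹ := by
    rw [MulAut.conj_apply] at hg
    have h2 : y = g⁻¹ * y⁻¹ * g := by rw [← hg]; group
    calc g⁻¹ * y * g = (g⁻¹ * y⁻¹ * g)⁻¹ := by group
      _ = y⁻¹ := by rw [← h2]
  rw [h1, trKer_inv]
  exact hu

/-- elements inverting `y` act nontrivially on the trace kernel of `y` -/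
theorem exists_moved_of_inverts [Finite Γ] (ρ : Γ →* MulAut U) (hρ : Function.Injective ρ)
    (hU2 : ∀ u : U, u * u = 1) {y g : Γ} (hy1 : y ≠ 1) (hyodd : Odd (orderOf y))
    (hg : MulAut.conj g y = y⁻¹) : ∃ w ∈ trKer ρ y, ρ g w ≠ w := by
  by_contra hcon
  push Not at hcon
  apply trKer_ne_bot ρ hρ y hy1
  rw [eq_bot_iff]
  intro w hw
  rw [Subgroup.mem_bot]
  apply eq_one_of_mem_trKer_of_fixed ρ hU2 y hyodd hw
  apply fixed_of_sq_fixed ρ hyodd
  have h1 : ρ y w ∈ trKer ρ y := trKer_invariant ρ y y rfl hw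
  have h2 : ρ g (ρ y w) = ρ y w := hcon _ h1
  have h3 : g * y = y⁻¹ * g := by
    rw [MulAut.conj_apply] at hg
    exact mul_inv_eq_iff_eq_mul.mp hg
  have h4 : ρ g (ρ y w) = ρ y⁻¹ w := by
    rw [← MulAut.mul_apply, ← map_mul, h3, map_mul, MulAut.mul_apply, hcon w hw]
  have h5 : ρ y w = ρ y⁻¹ w := h2.symm.trans h4
  rw [map_mul, MulAut.mul_apply, h5, ← MulAut.mul_apply, ← map_mul, mul_inv_cancel, map_one,
    MulAut.one_apply]

/-- the configuration produced by `offender_core` -/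
structure S3Config (ρ : Γ →* MulAut U) (a y : Γ) : Prop where
  inj : Function.Injective ρ
  exp2 : ∀ u : U, u * u = 1
  y1 : y ≠ 1
  yodd : Odd (orderOf y)
  a2 : a * a = 1
  inv : MulAut.conj a y = y⁻¹
  off : Nat.card U ≤ 2 * Nat.card (fixSub ρ (zpowers a))

namespace S3Config

variable [Finite Γ] [Finite U] {ρ : Γ →* MulAut U} {a y : Γ}

theorem card_le_two_mul (c : S3Config ρ a y) (X : Subgroup U) :
    Nat.card X ≤ 2 * Nat.card ↥(X ⊓ fixSub ρ (zpowers a)) := by
  have h1 := Cfsg.Agent.Helper51.card_sup_mul_card_inf_of_normal X (fixSub ρ (zpowers a))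
  have h2 : Nat.card ↥(X ⊔ fixSub ρ (zpowers a)) ≤ Nat.card U := Subgroup.card_le_card_group _
  have h3 : 0 < Nat.card (fixSub ρ (zpowers a)) := Nat.card_pos
  have h4 : Nat.card X * Nat.card (fixSub ρ (zpowers a)) ≤
      2 * Nat.card ↥(X ⊓ fixSub ρ (zpowers a)) * Nat.card (fixSub ρ (zpowers a)) := by
    calc Nat.card X * Nat.card (fixSub ρ (zpowers a))
        = Nat.card ↥(X ⊔ fixSub ρ (zpowers a)) * Nat.card ↥(X ⊓ fixSub ρ (zpowers a)) := h1.symm
      _ ≤ Nat.card U * Nat.card ↥(X ⊓ fixSub ρ (zpowers a)) := Nat.mul_le_mul_right _ h2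
      _ ≤ 2 * Nat.card (fixSub ρ (zpowers a)) * Nat.card ↥(X ⊓ fixSub ρ (zpowers a)) :=
        Nat.mul_le_mul_right _ c.off
      _ = 2 * Nat.card ↥(X ⊓ fixSub ρ (zpowers a)) * Nat.card (fixSub ρ (zpowers a)) := by ring
  exact Nat.le_of_mul_le_mul_right h4 h3

/-- the conjugate configuration -/
theorem conj (c : S3Config ρ a y) : S3Config ρ (y * a * y⁻¹) y where
  inj := c.inj
  exp2 := c.exp2
  y1 := c.y1
  yodd := c.yodd
  a2 := by
    calc y * a * y⁻¹ * (y * a * y⁻¹) = y * (a * a) * y⁻¹ := by group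
      _ = 1 := by rw [c.a2]; group
  inv := by
    have h := c.inv
    rw [MulAut.conj_apply] at h ⊢
    calc y * a * y⁻¹ * y * (y * a * y⁻¹)⁻¹ = y * (a * y * a⁻¹) * y⁻¹ := by group
      _ = y⁻¹ := by rw [h]; group
  off := by
    have h1 : (fixSub ρ (zpowers a)).map ((ρ y : U ≃* U) : U →* U) ≤
        fixSub ρ (zpowers (y * a * y⁻¹)) := by
      rintro _ ⟨u, hu, rfl⟩
      rw [mem_fixSub_zpowers]
      have hu' : ρ a u = u := mem_fixSub_zpowers.mp hu
      show ρ (y * a * y⁻¹) (ρ y u) = ρ y u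
      rw [← MulAut.mul_apply, ← map_mul, inv_mul_cancel_right, map_mul, MulAut.mul_apply, hu']
    have h2 : Nat.card ((fixSub ρ (zpowers a)).map ((ρ y : U ≃* U) : U →* U)) =
        Nat.card (fixSub ρ (zpowers a)) :=
      Subgroup.card_map_of_injective (ρ y).injective
    calc Nat.card U ≤ 2 * Nat.card (fixSub ρ (zpowers a)) := c.off
      _ = 2 * Nat.card ((fixSub ρ (zpowers a)).map ((ρ y : U ≃* U) : U →* U)) := by rw [h2]
      _ ≤ 2 * Nat.card (fixSub ρ (zpowers (y * a * y⁻¹))) :=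
        Nat.mul_le_mul_left _ (Subgroup.card_le_of_le h1)

theorem inf_inf_eq_bot (c : S3Config ρ a y) :
    (trKer ρ y ⊓ fixSub ρ (zpowers a)) ⊓ (trKer ρ y ⊓ fixSub ρ (zpowers (y * a * y⁻¹))) = ⊥ := by
  rw [eq_bot_iff]
  intro u hu
  rw [Subgroup.mem_bot]
  obtain ⟨⟨hu1, hu2⟩, -, hu3⟩ := hu
  have h2 : ρ a u = u := mem_fixSub_zpowers.mp hu2
  have h3 : ρ (y * a * y⁻¹) u = u := mem_fixSub_zpowers.mp hu3
  apply eq_one_of_mem_trKer_of_fixed ρ c.exp2 y c.yodd hu1
  -- `a * (y a y⁻¹) = y⁻¹ y⁻¹`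
  have hainv : a⁻¹ = a := inv_eq_of_mul_eq_one_right c.a2
  have h4 : a * (y * a * y⁻¹) = y⁻¹ * y⁻¹ := by
    have h := c.inv
    rw [MulAut.conj_apply, hainv] at h
    calc a * (y * a * y⁻¹) = (a * y * a) * y⁻¹ := by group
      _ = y⁻¹ * y⁻¹ := by rw [h]
  have h5 : ρ (y⁻¹ * y⁻¹) u = u := by
    rw [← h4, map_mul, MulAut.mul_apply, h3, h2]
  have h6 : ρ (y * y) u = u := by
    have : ρ (y * y) (ρ (y⁻¹ * y⁻¹) u) = u := by
      rw [← MulAut.mul_apply, ← map_mul]
      have : y * y * (y⁻¹ * y⁻¹) = 1 := by group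
      rw [this, map_one, MulAut.one_apply]
    rw [h5] at this
    exact this
  exact fixed_of_sq_fixed ρ c.yodd h6

theorem card_trKer_le (c : S3Config ρ a y) : Nat.card (trKer ρ y) ≤ 4 := by
  set W := trKer ρ y with hW
  set W₁ := W ⊓ fixSub ρ (zpowers a) with hW₁
  set W₂ := W ⊓ fixSub ρ (zpowers (y * a * y⁻¹)) with hW₂
  have h1 : Nat.card W ≤ 2 * Nat.card W₁ := c.card_le_two_mul W
  have h2 : Nat.card W ≤ 2 * Nat.card W₂ := c.conj.card_le_two_mul W
  have h3 := Cfsg.Agent.Helper51.card_sup_mul_card_inf_of_normal W₁ W₂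
  rw [c.inf_inf_eq_bot, Subgroup.card_bot, mul_one] at h3
  have h4 : Nat.card ↥(W₁ ⊔ W₂) ≤ Nat.card W :=
    Subgroup.card_le_of_le (sup_le inf_le_left inf_le_left)
  have h5 : 0 < Nat.card W := Nat.card_pos
  nlinarith

theorem y_fixed_eq_one (c : S3Config ρ a y) {w : U} (hw : w ∈ trKer ρ y) (h : ρ y w = w) : w = 1 :=
  eq_one_of_mem_trKer_of_fixed ρ c.exp2 y c.yodd hw h

theorem card_trKer_eq (c : S3Config ρ a y) : Nat.card (trKer ρ y) = 4 := by
  have hle := c.card_trKer_le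
  have hne := trKer_ne_bot ρ c.inj y c.y1
  haveI : Fact (2 : ℕ).Prime := ⟨Nat.prime_two⟩
  have hWp : IsPGroup 2 ↥(trKer ρ y) := by
    intro w
    refine ⟨1, ?_⟩
    apply Subtype.ext
    rw [pow_one, pow_two, Subgroup.coe_mul, Subgroup.coe_one]
    exact c.exp2 w
  obtain ⟨k, hk⟩ := IsPGroup.iff_card.mp hWp
  have hk0 : k ≠ 0 := by
    rintro rfl
    rw [pow_zero] at hk
    exact hne (Subgroup.card_eq_one.mp hk)
  have hk2 : k ≤ 2 := by
    by_contra h
    push Not at h
    have : 2 ^ 3 ≤ 2 ^ k := Nat.pow_le_pow_right (by norm_num) h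
    omega
  have hk12 : k = 1 ∨ k = 2 := by omega
  rcases hk12 with rfl | rfl
  · exfalso
    rw [pow_one] at hk
    obtain ⟨w, hwW, hw1⟩ := (Subgroup.ne_bot_iff_exists_ne_one).mp hne |>.elim
      (fun x hx => (⟨x.1, x.2, fun h => hx (Subtype.ext h)⟩ : ∃ w : U, w ∈ trKer ρ y ∧ w ≠ 1))
    have h1 : ρ y w ∈ trKer ρ y := trKer_invariant ρ y y rfl hwW
    have h2 : ρ y w ≠ w := fun h => hw1 (c.y_fixed_eq_one hwW h)
    have h3 : ρ y w ≠ 1 := by
      intro h
      apply hw1
      have := (ρ y).injective (h.trans (map_one (ρ y)).symm)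
      exact this
    have hsub : ({ρ y w, w, 1} : Set U) ⊆ (trKer ρ y : Set U) := by
      intro x hx
      rcases hx with rfl | rfl | rfl
      · exact h1
      · exact hwW
      · exact Subgroup.one_mem _
    have hcard3 : ({ρ y w, w, 1} : Set U).ncard = 3 := by
      rw [Set.ncard_insert_of_notMem, Set.ncard_pair hw1]
      · intro hx
        rcases hx with h | h
        · exact h2 h
        · exact h3 h
    have := Set.ncard_le_ncard hsub (Set.toFinite _)
    rw [hcard3, ← Nat.card_coe_set_eq] at this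
    have h4 : Nat.card ↥(trKer ρ y) = 2 := hk
    have h5 : Nat.card ((trKer ρ y : Subgroup U) : Set U) = Nat.card ↥(trKer ρ y) := rfl
    omega
  · rw [hk]; norm_num

theorem cube_fix (c : S3Config ρ a y) {w : U} (hw : w ∈ trKer ρ y) : ρ (y * y * y) w = w := by
  by_cases hw1 : w = 1
  · rw [hw1, map_one]
  have hW4 := c.card_trKer_eq
  set w₁ := ρ y w with hw₁
  have h1 : w₁ ∈ trKer ρ y := trKer_invariant ρ y y rfl hw
  have h2 : w₁ ≠ w := fun h => hw1 (c.y_fixed_eq_one hw h)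
  have h3 : w₁ ≠ 1 := by
    intro h
    apply hw1
    exact (ρ y).injective (h.trans (map_one (ρ y)).symm)
  have hww : w * w = 1 := c.exp2 w
  have hw₁w₁ : w₁ * w₁ = 1 := c.exp2 w₁
  have h4 : w * w₁ ≠ 1 := by
    intro h
    apply h2
    calc w₁ = w * (w * w₁) := by rw [← mul_assoc, hww, one_mul]
      _ = w := by rw [h, mul_one]
  have h5 : w * w₁ ≠ w := by
    intro h
    apply h3
    calc w₁ = w * (w * w₁) := by rw [← mul_assoc, hww, one_mul]
      _ = 1 := by rw [h, hww]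
  have h6 : w * w₁ ≠ w₁ := by
    intro h
    apply hw1
    calc w = (w * w₁) * w₁ := by rw [mul_assoc, hw₁w₁, mul_one]
      _ = 1 := by rw [h, hw₁w₁]
  have hsub : ({w * w₁, w₁, w, 1} : Set U) ⊆ (trKer ρ y : Set U) := by
    intro x hx
    rcases hx with rfl | rfl | rfl | rfl
    · exact Subgroup.mul_mem _ hw h1
    · exact h1
    · exact hw
    · exact Subgroup.one_mem _
  have hcard4 : ({w * w₁, w₁, w, 1} : Set U).ncard = 4 := by
    rw [Set.ncard_insert_of_notMem, Set.ncard_insert_of_notMem, Set.ncard_pair hw1]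
    · intro hx
      rcases hx with h | h
      · exact h2 h
      · exact h3 h
    · intro hx
      rcases hx with h | h | h
      · exact h6 h
      · exact h5 h
      · exact h4 h
  have heq : ({w * w₁, w₁, w, 1} : Set U) = (trKer ρ y : Set U) := by
    apply Set.eq_of_subset_of_ncard_le hsub _ (Set.toFinite _)
    rw [hcard4, ← Nat.card_coe_set_eq]
    exact hW4.le
  have h7 : ρ y w₁ ∈ ({w * w₁, w₁, w, 1} : Set U) := by
    rw [heq]
    exact trKer_invariant ρ y y rfl h1
  have h8 : ρ y w₁ = w * w₁ := by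
    rcases h7 with h | h | h | h
    · exact h
    · exact absurd (c.y_fixed_eq_one h1 h) h3
    · exfalso
      apply h2
      apply fixed_of_sq_fixed ρ c.yodd
      rw [map_mul, MulAut.mul_apply]
      exact h
    · exfalso
      apply h3
      exact (ρ y).injective (h.trans (map_one (ρ y)).symm)
  calc ρ (y * y * y) w = ρ y (ρ y (ρ y w)) := by
        rw [map_mul, map_mul, MulAut.mul_apply, MulAut.mul_apply]
    _ = ρ y (w * w₁) := by rw [← hw₁, h8]
    _ = w₁ * (w * w₁) := by rw [map_mul, ← hw₁, h8]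
    _ = w := by rw [mul_comm w w₁, ← mul_assoc, hw₁w₁, one_mul]

theorem cube (c : S3Config ρ a y) : y * y * y = 1 := by
  set z := y * y * y with hz
  have hyz : z * y = y * z := by rw [hz]; group
  -- `z` moves every `u` by an element of `W`
  have h1 : ∀ u : U, ρ z u * u⁻¹ ∈ trKer ρ y := by
    intro u
    have hc := comm_mem_trKer ρ y u
    have hc1 := trKer_invariant ρ y y rfl hc
    have hc2 := trKer_invariant ρ y y rfl hc1
    have : ρ z u * u⁻¹ = ρ y (ρ y (ρ y u * u⁻¹)) * (ρ y (ρ y u * u⁻¹) * (ρ y u * u⁻¹)) := by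
      rw [hz]
      simp only [map_mul, map_inv, MulAut.mul_apply]
      group
    rw [this]
    exact Subgroup.mul_mem _ hc2 (Subgroup.mul_mem _ hc1 hc)
  have h2 : ρ (z * z) = 1 := by
    ext u
    rw [map_mul, MulAut.mul_apply, MulAut.one_apply]
    have ht := h1 u
    have hfix := c.cube_fix ht
    -- `ρ z u = t * u`
    have h3 : ρ z u = (ρ z u * u⁻¹) * u := by rw [inv_mul_cancel_right]
    calc ρ z (ρ z u) = ρ z ((ρ z u * u⁻¹) * u) := by rw [← h3]
      _ = (ρ z u * u⁻¹) * ρ z u := by rw [map_mul, hfix]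
      _ = (ρ z u * u⁻¹) * ((ρ z u * u⁻¹) * u) := by rw [← h3]
      _ = u := by rw [← mul_assoc, c.exp2, one_mul]
  have h4 : z * z = 1 := c.inj (h2.trans (map_one ρ).symm)
  have h5 : orderOf z ∣ 2 := orderOf_dvd_of_pow_eq_one (by rw [pow_two]; exact h4)
  have h6 : orderOf z ∣ orderOf y := by
    have : z = y ^ 3 := by rw [hz, pow_succ, pow_two]
    rw [this]
    exact orderOf_pow_dvd 3
  have h7 : orderOf z = 1 := by
    rcases (Nat.dvd_prime Nat.prime_two).mp h5 with h | h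
    · exact h
    · exfalso
      rw [h] at h6
      obtain ⟨k, hk⟩ := c.yodd
      omega
  exact orderOf_eq_one_iff.mp h7

end S3Config

end Cfsg.Agent.Helper1
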