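import Mathlib

set_option autoImplicit false

/-!
# Shult's theorem for `S₃` (S4305): definitions and statements of the pieces (helper1)

`A = ⟨σ, τ⟩ ≅ S₃` acts on a finite solvable group `G` of order prime to `6` with `C_G(A) = 1`; then
`G'` is nilpotent.  Everything is phrased inside one ambient finite group `H` (think `H = G ⋊ A`),
conjugation being `g * x * g⁻¹`.
-/

namespace Cfsg.Agent.Helper1.Shult

open Subgroup

section Defs

variable {H : Type*} [Group H]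

/-- `σ` of order 3, `τ` of order 2, `τ` inverts `σ`. -/
structure S3Pair (σ τ : H) : Prop where
  oσ : orderOf σ = 3
  oτ : orderOf τ = 2
  rel : τ * σ * τ⁻¹ = σ⁻¹

/-- `X` is normalized by `σ` and by `τ`. -/
def Inv (σ τ : H) (X : Subgroup H) : Prop :=
  σ ∈ normalizer (X : Set H) ∧ τ ∈ normalizer (X : Set H)

/-- the elements of `X` commuting with `σ` and with `τ`. -/
def Fix (σ τ : H) (X : Subgroup H) : Subgroup H := X ⊓ centralizer ({σ, τ} : Set H)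

/-- abelian of exponent dividing `r`. -/
def IsEA (r : ℕ) (W : Subgroup H) : Prop :=
  (∀ u ∈ W, ∀ v ∈ W, u * v = v * u) ∧ ∀ w ∈ W, w ^ r = 1

/-- `D` is a hyperplane of `T` over `S0`. -/
def IsHyp (s : ℕ) (T S0 D : Subgroup H) : Prop := S0 ≤ D ∧ D ≤ T ∧ D.relIndex T = s

/-- The hyperplane setting of Ward's pieces (W2)/(W3): `T / S0` elementary abelian `s`-group acting
on the abelian `s'`-group `V` with kernel containing `S0` and without fixed points. -/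
structure HypSet (s : ℕ) (V T S0 : Subgroup H) : Prop where
  hVab : ∀ u ∈ V, ∀ v ∈ V, u * v = v * u
  hTV : T ≤ normalizer (V : Set H)
  hTs : IsPGroup s T
  hcop : (Nat.card V).Coprime s
  hS0T : S0 ≤ T
  hS0 : S0 ≤ centralizer (V : Set H)
  hcomm : ∀ t ∈ T, ∀ u ∈ T, t * u * t⁻¹ * u⁻¹ ∈ S0
  hpow : ∀ t ∈ T, t ^ s ∈ S0
  hfix : V ⊓ centralizer (T : Set H) = ⊥

/-- The configuration of Lemma A after the reductions: `Z1 / K = Ω₁(Z(Q / K))`, `K = C_Q(W)`,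
`C_W(Z1) = 1`. -/
structure ACfg (q r : ℕ) (σ τ : H) (Q W Z1 K : Subgroup H) : Prop where
  hS : S3Pair σ τ
  hq2 : q ≠ 2
  hq3 : q ≠ 3
  hr2 : r ≠ 2
  hr3 : r ≠ 3
  hqr : q ≠ r
  hQ : IsPGroup q Q
  hW : IsEA r W
  hWr : IsPGroup r W
  hQinv : Inv σ τ Q
  hWinv : Inv σ τ W
  hQW : Q ≤ normalizer (W : Set H)
  hfixW : Fix σ τ W = ⊥
  hfixQ : Fix σ τ Q ≤ centralizer (W : Set H)
  hK : K = Q ⊓ centralizer (W : Set H)
  hKZ : K ≤ Z1
  hZQ : Z1 ≤ Q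
  hZcent : ∀ z ∈ Z1, ∀ x ∈ Q, z * x * z⁻¹ * x⁻¹ ∈ K
  hZpow : ∀ z ∈ Z1, z ^ q ∈ K
  hZinv : Inv σ τ Z1
  hfix : W ⊓ centralizer (Z1 : Set H) = ⊥

/-- The minimal configuration of Lemma B: `Q` elementary abelian `q`-group faithful on `W`,
`C_Q(P) = 1`, `CP = C_P(Q) < P`, `P / CP` elementary abelian and `⟨σ, τ⟩`-irreducible,
`C_W(Q) = 1`. -/
structure BCfg (p q r : ℕ) (σ τ : H) (P Q W CP : Subgroup H) : Prop where
  hS : S3Pair σ τ
  hp2 : p ≠ 2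
  hp3 : p ≠ 3
  hq2 : q ≠ 2
  hq3 : q ≠ 3
  hr2 : r ≠ 2
  hr3 : r ≠ 3
  hpq : p ≠ q
  hqr : q ≠ r
  hP : IsPGroup p P
  hQ : IsPGroup q Q
  hQea : IsEA q Q
  hW : IsEA r W
  hWr : IsPGroup r W
  hPinv : Inv σ τ P
  hQinv : Inv σ τ Q
  hWinv : Inv σ τ W
  hPQ : P ≤ normalizer (Q : Set H)
  hPW : P ≤ normalizer (W : Set H)
  hQW : Q ≤ normalizer (W : Set H)
  hfaith : Q ⊓ centralizer (W : Set H) = ⊥
  hfixW : Fix σ τ W = ⊥
  hfixQ : Fix σ τ Q = ⊥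
  hfixP : Fix σ τ P = ⊥
  hCQP : Q ⊓ centralizer (P : Set H) = ⊥
  hCP : CP = P ⊓ centralizer (Q : Set H)
  hCPne : CP ≠ P
  hPcomm : ∀ x ∈ P, ∀ y ∈ P, x * y * x⁻¹ * y⁻¹ ∈ CP
  hPpow : ∀ x ∈ P, x ^ p ∈ CP
  hPirr : ∀ P0 : Subgroup H, CP ≤ P0 → P0 ≤ P → Inv σ τ P0 → P0 = CP ∨ P0 = P
  hWQ : W ⊓ centralizer (Q : Set H) = ⊥

end Defs

/-- **Lemma A.**  A `q`-group `Q` with `C_Q(A) ≤ C_Q(W)` acting on the elementary abelian `r`-group
`W` with `C_W(A) = 1`: then `Q'` centralizes `W`. -/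
def LemmaAStmt.{u} : Prop :=
  ∀ (H : Type u) [Group H] [Finite H] (q r : ℕ) [Fact q.Prime] [Fact r.Prime] (σ τ : H)
    (Q W : Subgroup H),
    S3Pair σ τ → q ≠ 2 → q ≠ 3 → r ≠ 2 → r ≠ 3 → q ≠ r →
    IsPGroup q Q → IsEA r W → IsPGroup r W → Inv σ τ Q → Inv σ τ W → Q ≤ normalizer (W : Set H) →
    Fix σ τ W = ⊥ → Fix σ τ Q ≤ centralizer (W : Set H) →
    ⁅Q, Q⁆ ≤ centralizer (W : Set H)

/-- **Lemma B.**  `P` a `p`-group, `Q` an abelian `q`-group faithful on the elementary abelian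
`r`-group `W` (`p ≠ q ≠ r`, `p = r` allowed), all `A`-invariant with trivial fixed points: then `P`
centralizes `Q`. -/
def LemmaBStmt.{u} : Prop :=
  ∀ (H : Type u) [Group H] [Finite H] (p q r : ℕ) [Fact p.Prime] [Fact q.Prime] [Fact r.Prime]
    (σ τ : H) (P Q W : Subgroup H),
    S3Pair σ τ → p ≠ 2 → p ≠ 3 → q ≠ 2 → q ≠ 3 → r ≠ 2 → r ≠ 3 → p ≠ q → q ≠ r →
    IsPGroup p P → IsPGroup q Q → (∀ x ∈ Q, ∀ y ∈ Q, x * y = y * x) → IsEA r W → IsPGroup r W →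
    Inv σ τ P → Inv σ τ Q → Inv σ τ W →
    P ≤ normalizer (Q : Set H) → P ≤ normalizer (W : Set H) → Q ≤ normalizer (W : Set H) →
    Q ⊓ centralizer (W : Set H) = ⊥ →
    Fix σ τ W = ⊥ → Fix σ τ Q = ⊥ → Fix σ τ P = ⊥ →
    P ≤ centralizer (Q : Set H)

/-- **Faithful core.**  `M` solvable of order prime to 6, `A`-invariant, `C_M(A) = 1`, `M'` nilpotent,
acting faithfully on the elementary abelian `r`-group `V` with `C_V(A) = 1` and `V` irreducible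
under `M A`: then `M` is abelian. -/
def FaithfulCoreStmt.{u} : Prop :=
  ∀ (H : Type u) [Group H] [Finite H] (r : ℕ) [Fact r.Prime] (σ τ : H) (M V : Subgroup H) (k : ℕ),
    S3Pair σ τ → r ≠ 2 → r ≠ 3 → Group.IsSolvable M → (Nat.card M).Coprime 6 →
    IsEA r V → IsPGroup r V → Inv σ τ M → Inv σ τ V → M ≤ normalizer (V : Set H) →
    M ⊓ centralizer (V : Set H) = ⊥ → Fix σ τ V = ⊥ → Fix σ τ M = ⊥ →
    (∀ U : Subgroup H, U ≤ V → M ≤ normalizer (U : Set H) → Inv σ τ U → U = ⊥ ∨ U = V) →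
    (⁅M, M⁆).lowerCentralSeries k = ⊥ →
    ⁅M, M⁆ = ⊥

/-- **Chief factor step.**  `H = G A`, `G ⊴ H` solvable of order prime to 6, `C_G(A) = 1`, `V ≤ G` a
minimal normal subgroup of `H`, `(G / V)'` nilpotent.  Then `G'` centralizes `V`. -/
def CoreStmt.{u} : Prop :=
  ∀ (H : Type u) [Group H] [Finite H] (σ τ : H) (G V : Subgroup H) (k : ℕ),
    S3Pair σ τ → G.Normal → G ⊔ closure {σ, τ} = ⊤ → Group.IsSolvable G →
    (Nat.card G).Coprime 6 → Fix σ τ G = ⊥ →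
    V.Normal → V ≤ G → V ≠ ⊥ → (∀ U : Subgroup H, U.Normal → U ≤ V → U = ⊥ ∨ U = V) →
    (⁅G, G⁆).lowerCentralSeries k ≤ V →
    ⁅G, G⁆ ≤ centralizer (V : Set H)

/-- **Shult's theorem, ambient form.** -/
def ShultAmbientStmt.{u} : Prop :=
  ∀ (H : Type u) [Group H] [Finite H] (σ τ : H) (G : Subgroup H),
    S3Pair σ τ → G.Normal → G ⊔ closure {σ, τ} = ⊤ → Group.IsSolvable G →
    (Nat.card G).Coprime 6 → Fix σ τ G = ⊥ →
    ∃ k : ℕ, (⁅G, G⁆).lowerCentralSeries k = ⊥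

end Cfsg.Agent.Helper1.Shult
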