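import Mathlib
import Cfsg.Agent.Helper52.PQDefs
import Cfsg.Agent.Helper29.WardT1
import Cfsg.Agent.Helper1.CoprimeSylow
import Cfsg.Agent.Helper49.ShultT
import Cfsg.Agent.Helper41.PQFB

set_option autoImplicit false

/-!
# S4306 (nonabelian `pq` acting fixed-point-freely), piece (T1): the chief factor step from the
tower lemma (helper1, for helper52)

Template: `Helper29/WardT1.lean`, without the `cgen` step.
-/

namespace Cfsg.Agent.Helper1.PQ

open Subgroup Cfsg.Agent.Helper1.Shult Cfsg.Agent.Helper52.PQ Cfsg.Agent.Helper29.WardT1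

open scoped commutatorElement

set_option linter.style.haveILetI false

universe v

section aux

variable {H : Type*} [Group H] [Finite H]

/-- the order of `⟨σ, τ⟩` is prime to everything prime to `s t`. -/
theorem card_closure_coprime {s t : ℕ} {σ τ : H} (h : FrobPair s t σ τ) {n : ℕ}
    (hn : n.Coprime (s * t)) : (Nat.card (closure ({σ, τ} : Set H))).Coprime n := by
  rw [Cfsg.Agent.Helper41.PQ.frob_card_closure h]
  exact hn.symm

/-- an invariant Sylow subgroup under the coprime action of `⟨σ, τ⟩`. -/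
theorem exists_invariant_isSyl_pq {s t : ℕ} {σ τ : H} (h : FrobPair s t σ τ) (K : Subgroup H)
    (hσK : closure ({σ, τ} : Set H) ≤ normalizer (K : Set H))
    (hcop : (Nat.card K).Coprime (s * t)) (hK : Group.IsSolvable K) (a : ℕ) [Fact a.Prime] :
    ∃ Q : Subgroup H, IsSyl a Q K ∧ closure ({σ, τ} : Set H) ≤ normalizer (Q : Set H) := by
  obtain ⟨P, hP⟩ := Cfsg.Agent.Helper1.exists_invariant_sylow (closure ({σ, τ} : Set H)) K hσK
    (card_closure_coprime h hcop) (Or.inr hK) a
  exact ⟨(P : Subgroup K).map K.subtype, isSyl_of_sylow P, hP⟩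

theorem inv_of_closure_le {σ τ : H} {X : Subgroup H}
    (h : closure ({σ, τ} : Set H) ≤ normalizer (X : Set H)) :
    Cfsg.Agent.Helper1.Shult.Inv σ τ X :=
  ⟨h (subset_closure (by simp)), h (subset_closure (by simp))⟩

theorem fix_eq_bot_of_le {σ τ : H} {X G : Subgroup H} (hXG : X ≤ G) (hfix : Fix σ τ G = ⊥) :
    Fix σ τ X = ⊥ := by
  rw [eq_bot_iff, ← hfix]
  exact inf_le_inf_right _ hXG

end aux

/-- **(T1)** the chief factor step from the tower lemma. -/
theorem t1_of_tower (hT : PQTowerStmt.{v}) : PQT1Stmt.{v} := by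
  intro H _ _ s t σ τ G V N k hF hGn hGA hGsolv hcop hfix hVn hVG hV1 hVmin hNn hVN hNG hNk hGk
  classical
  have hs : s.Prime := hF.hs
  have ht : t.Prime := hF.ht
  haveI := hGn
  haveI := hVn
  haveI := hNn
  set A : Subgroup H := closure ({σ, τ} : Set H) with hA
  have hsG : ¬ s ∣ Nat.card G := by
    intro hd
    have := Nat.dvd_gcd hd (dvd_mul_right s t)
    rw [hcop] at this
    exact hs.one_lt.ne' (Nat.dvd_one.mp this)
  have htG : ¬ t ∣ Nat.card G := by
    intro hd
    have := Nat.dvd_gcd hd (dvd_mul_left t s)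
    rw [hcop] at this
    exact ht.one_lt.ne' (Nat.dvd_one.mp this)
  have hcopK : ∀ K : Subgroup H, K ≤ G → (Nat.card K).Coprime (s * t) := fun K hK =>
    Nat.Coprime.coprime_dvd_left (Subgroup.card_dvd_of_le hK) hcop
  have hsolvK : ∀ K : Subgroup H, K ≤ G → Group.IsSolvable K := fun K hK =>
    Group.isSolvable_of_isSolvable_injective (Subgroup.inclusion_injective hK)
  -- `V` is an elementary abelian `ℓ`-group
  have hVsolv : Group.IsSolvable ↥V := hsolvK V hVG
  have hVab : ∀ u ∈ V, ∀ v ∈ V, u * v = v * u :=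
    Helper81.comm_of_minimal_normal_solvable V hV1 hVmin hVsolv
  obtain ⟨ℓ, hℓ, hℓd, hVexp⟩ :=
    Cfsg.Agent.Helper49.ShultT.exists_prime_exponent V hVn hV1 hVmin hVab
  haveI : Fact ℓ.Prime := ⟨hℓ⟩
  have hVEA : IsEA ℓ V := ⟨hVab, hVexp⟩
  have hVℓ : IsPGroup ℓ V := by
    intro y
    refine ⟨1, Subtype.ext ?_⟩
    simpa using hVexp y y.2
  have hℓG : ℓ ∣ Nat.card G := hℓd.trans (Subgroup.card_dvd_of_le hVG)
  have hℓs : ℓ ≠ s := by rintro rfl; exact hsG hℓG
  have hℓt : ℓ ≠ t := by rintro rfl; exact htG hℓG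
  -- the kernel
  set C : Subgroup H := G ⊓ centralizer (V : Set H) with hCdef
  have hCn : C.Normal := by rw [hCdef]; infer_instance
  have hCG : C ≤ G := inf_le_left
  have hCV : C ≤ centralizer (V : Set H) := inf_le_right
  have hVC : V ≤ C :=
    le_inf hVG (fun v hv => mem_centralizer_iff.mpr (fun w hw => hVab w hw v hv))
  let π : H →* H ⧸ C := QuotientGroup.mk' C
  have hπker : π.ker = C := QuotientGroup.ker_mk' C
  have hπsurj : Function.Surjective π := QuotientGroup.mk'_surjective C
  have hker : ∀ x : H, x ∈ C → π x = 1 := fun x hx => by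
    rw [← MonoidHom.mem_ker, hπker]; exact hx
  have hNkπ : N.lowerCentralSeries k ≤ π.ker := hNk.trans (hVC.trans hπker.ge)
  have key : ∃ m : ℕ, G.lowerCentralSeries m ≤ π.ker := by
    refine exists_lcs_le_ker π hπsurj G N hNG k hNkπ hGk ?_
    intro a ha
    haveI : Fact a.Prime := ⟨ha⟩
    obtain ⟨Ns, hNs, hANs⟩ :=
      exists_invariant_isSyl_pq hF N (le_normalizer_of_normal hNn A) (hcopK N hNG) (hsolvK N hNG) a
    have hNsG : Ns ≤ G := hNs.1.trans hNG
    by_cases hdeg : Ns ≤ C
    · -- degenerate case: the Sylow subgroup of the image of `N` is trivial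
      refine ⟨Ns, hNs.1, hNs.2.1, hNs.2.2, ?_⟩
      intro r hr hra
      haveI : Fact r.Prime := ⟨hr⟩
      obtain ⟨R, hR, -⟩ :=
        exists_invariant_isSyl_pq hF G (le_normalizer_of_normal hGn A) hcop hGsolv r
      refine ⟨R, hR.1, hR.2.1, (hR.map π).2.2, ?_⟩
      intro x _ y hy
      rw [hker y (hdeg hy)]; simp
    · -- main case
      have has : a ≠ s := by
        rintro rfl
        apply hdeg
        rw [eq_bot_of_isPGroup_of_not_dvd hNs.2.1 hNsG hsG]
        exact bot_le
      have hat : a ≠ t := by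
        rintro rfl
        apply hdeg
        rw [eq_bot_of_isPGroup_of_not_dvd hNs.2.1 hNsG htG]
        exact bot_le
      -- `S1 = Ns C` is normal in `H`
      have hN'nil : Group.IsNilpotent (N.map π) := isNilpotent_map_of_lcs_le_ker π N k hNkπ
      haveI hN'n : (N.map π).Normal := hNn.map π hπsurj
      have hNsπn : (Ns.map π).Normal := (hNs.map π).normal_of_nilpotent hN'nil
      set S1 : Subgroup H := Ns ⊔ C with hS1
      have hS1n : S1.Normal := by
        have := hNsπn.comap π
        rwa [Subgroup.comap_map_eq, hπker] at this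
      haveI := hS1n
      have hS1G : S1 ≤ G := sup_le hNsG hCG
      have hS1π : S1.map π = Ns.map π := by
        rw [hS1, Subgroup.map_sup, (Subgroup.map_eq_bot_iff C).mpr hπker.ge, sup_bot_eq]
      have haℓ : a ≠ ℓ := by
        rintro rfl
        apply hdeg
        have hFn : (V ⊓ centralizer (S1 : Set H)).Normal := inferInstance
        rcases hVmin _ hFn inf_le_left with h | h
        · exfalso
          refine inf_centralizer_ne_bot hNs.2.1 hVℓ hV1 (le_normalizer_of_normal hVn Ns) ?_
          rw [eq_bot_iff, ← h]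
          intro v hv
          obtain ⟨hvV, hvN⟩ := mem_inf.mp hv
          refine mem_inf.mpr ⟨hvV, mem_centralizer_sup hvN ?_⟩
          rw [mem_centralizer_iff]
          intro c hc
          exact (mem_centralizer_iff.mp (hCV hc) v hvV).symm
        · intro y hy
          refine mem_inf.mpr ⟨hNsG hy, ?_⟩
          rw [mem_centralizer_iff]
          intro v hv
          have hv' : v ∈ V ⊓ centralizer (S1 : Set H) := by rw [h]; exact hv
          have := mem_centralizer_iff.mp (mem_inf.mp hv').2 y (le_sup_left (a := Ns) (b := C) hy)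
          exact this.symm
      -- an `A`-invariant Sylow subgroup `S` of `S1`
      obtain ⟨S, hS, hAS⟩ :=
        exists_invariant_isSyl_pq hF S1 (le_normalizer_of_normal hS1n A) (hcopK S1 hS1G)
          (hsolvK S1 hS1G) a
      have hSG : S ≤ G := hS.1.trans hS1G
      have hSπ : S.map π = Ns.map π := by
        rw [← hS1π]
        apply (hS.map π).eq_of_isPGroup
        rw [hS1π]
        exact hNs.2.1.map π
      -- Frattini
      set NG : Subgroup H := G ⊓ normalizer (S : Set H) with hNGdef
      have hSNG : S ≤ NG := le_inf hSG le_normalizer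
      have hNGπ : NG.map π = G.map π := by
        apply le_antisymm (Subgroup.map_mono inf_le_left)
        rintro _ ⟨g, hg, rfl⟩
        obtain ⟨n, hn, c, hc, rfl⟩ := hS.frattini g
        have hcG : c ∈ G := hS1G hc
        have hnG : n ∈ G := by
          have : n = n * c * c⁻¹ := by group
          rw [this]; exact G.mul_mem hg (G.inv_mem hcG)
        have hcπ : π c ∈ S.map π := by
          rw [hSπ, ← hS1π]; exact Subgroup.mem_map_of_mem π hc
        obtain ⟨y, hy, hyc⟩ := hcπ
        refine ⟨n * y, NG.mul_mem (mem_inf.mpr ⟨hnG, hn⟩) (hSNG hy), ?_⟩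
        rw [map_mul, map_mul, hyc]
      have hANG : A ≤ normalizer (NG : Set H) := by
        apply Helper48.mem_normalizer_of_forall_conj_mem
        intro a' ha' w hw
        obtain ⟨hwG, hwS⟩ := mem_inf.mp hw
        refine mem_inf.mpr ⟨hGn.conj_mem w hwG a', ?_⟩
        exact Subgroup.mul_mem _ (Subgroup.mul_mem _ (hAS ha') hwS) (Subgroup.inv_mem _ (hAS ha'))
      refine ⟨Ns, hNs.1, hNs.2.1, hNs.2.2, ?_⟩
      intro r hr hra
      haveI : Fact r.Prime := ⟨hr⟩
      have hNGG : NG ≤ G := inf_le_left
      obtain ⟨R, hR, hAR⟩ :=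
        exists_invariant_isSyl_pq hF NG hANG (hcopK NG hNGG) (hsolvK NG hNGG) r
      have hRG : R ≤ G := hR.1.trans inf_le_left
      have hRS : R ≤ normalizer (S : Set H) := hR.1.trans inf_le_right
      refine ⟨R, hRG, hR.2.1, ?_, ?_⟩
      · have := (hR.map π).2.2
        rwa [hNGπ] at this
      · -- the tower lemma for `(V, S, R)`
        by_cases hrst : r = s ∨ r = t
        · have hR1 : R = ⊥ := by
            rcases hrst with rfl | rfl
            · exact eq_bot_of_isPGroup_of_not_dvd hR.2.1 hRG hsG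
            · exact eq_bot_of_isPGroup_of_not_dvd hR.2.1 hRG htG
          intro x hx y _
          rw [hR1, mem_bot] at hx
          rw [hx, map_one, one_mul, mul_one]
        · push Not at hrst
          have hcomm : ⁅S, R⁆ ≤ centralizer (V : Set H) :=
            hT H s t ℓ a r σ τ V S R hF haℓ (Ne.symm hra) hℓs hℓt has hat hrst.1 hrst.2 hVEA
              hS.2.1 hR.2.1 (inv_of_closure_le (le_normalizer_of_normal hVn A))
              (inv_of_closure_le hAS) (inv_of_closure_le hAR)
              (le_normalizer_of_normal hVn S) (le_normalizer_of_normal hVn R) hRS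
              (fix_eq_bot_of_le hVG hfix) (fix_eq_bot_of_le hSG hfix) (fix_eq_bot_of_le hRG hfix)
          intro x hx y hy
          have hyπ : π y ∈ S.map π := hSπ ▸ Subgroup.mem_map_of_mem π hy
          obtain ⟨y', hy', hyy'⟩ := hyπ
          rw [← hyy']
          have h1 : ⁅y', x⁆ ∈ centralizer (V : Set H) :=
            hcomm (Subgroup.commutator_mem_commutator hy' hx)
          have hxG : x ∈ G := hRG hx
          have h2 : ⁅y', x⁆ ∈ G := by
            rw [commutatorElement_def]
            exact G.mul_mem (G.mul_mem (G.mul_mem (hSG hy') hxG) (G.inv_mem (hSG hy')))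
              (G.inv_mem hxG)
          have h3 : π ⁅y', x⁆ = 1 := hker _ (mem_inf.mpr ⟨h2, h1⟩)
          rw [map_commutatorElement, commutatorElement_eq_one_iff_commute] at h3
          exact h3.eq.symm
  obtain ⟨m, hm⟩ := key
  exact ⟨m, hm.trans (hπker.le.trans hCV)⟩

end Cfsg.Agent.Helper1.PQ
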