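import Mathlib
import Cfsg.Agent.Helper21.WardDefs
import Cfsg.Agent.Helper75.ShultNilA

set_option autoImplicit false

/-!
# Ward's theorem, piece (W10): `T1Stmt → WardAmbientStmt`

Strong induction on `Nat.card G`, passing to the quotient by a minimal normal subgroup `V ≤ G` of
the ambient group `H`.
-/

namespace Cfsg.Agent.Helper1.Ward

open Subgroup Cfsg.Agent.Helper21.Ward

universe u

/-- a minimal nontrivial normal subgroup of `H` inside the nontrivial normal subgroup `G`. -/
theorem exists_minimal_normal_le {H : Type u} [Group H] [Finite H] (G : Subgroup H) [G.Normal]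
    (hG : G ≠ ⊥) :
    ∃ V : Subgroup H, V.Normal ∧ V ≤ G ∧ V ≠ ⊥ ∧
      ∀ U : Subgroup H, U.Normal → U ≤ V → U = ⊥ ∨ U = V := by
  classical
  have hne : ∃ n : ℕ, ∃ V : Subgroup H, V.Normal ∧ V ≤ G ∧ V ≠ ⊥ ∧ Nat.card V = n :=
    ⟨Nat.card G, G, inferInstance, le_rfl, hG, rfl⟩
  obtain ⟨V, hVn, hVG, hV1, hVc⟩ := Nat.find_spec hne
  refine ⟨V, hVn, hVG, hV1, ?_⟩
  intro U hUn hUV
  by_cases hU1 : U = ⊥
  · exact Or.inl hU1
  · right
    have hle : Nat.card U ≤ Nat.card V := Subgroup.card_le_of_le hUV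
    have hge : Nat.card V ≤ Nat.card U := by
      rw [hVc]
      exact Nat.find_min' hne ⟨U, hUn, hUV.trans hVG, hU1, rfl⟩
    exact Subgroup.eq_of_le_of_card_ge hUV hge

theorem wardAmbient_aux (hT : T1Stmt.{u}) :
    ∀ (n : ℕ) (H : Type u) [Group H] [Finite H] (p : ℕ) [Fact p.Prime] (G A : Subgroup H),
      Nat.card G = n →
      Helper48.IsEA2 p A → G.Normal → G ⊔ A = ⊤ → Group.IsSolvable G → ¬ p ∣ Nat.card G →
      G ⊓ centralizer (A : Set H) = ⊥ →
      ∃ N : Subgroup H, N.Normal ∧ N ≤ G ∧ (∃ k : ℕ, N.lowerCentralSeries k = ⊥) ∧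
        ∃ k : ℕ, G.lowerCentralSeries k ≤ N := by
  intro n
  induction n using Nat.strong_induction_on with
  | _ n ih =>
  intro H _ _ p _ G A hn hA hGn hGA hGsol hpG hfix
  have hp : p.Prime := Fact.out
  by_cases hG1 : G = ⊥
  · refine ⟨⊥, inferInstance, bot_le, ⟨0, rfl⟩, ⟨0, ?_⟩⟩
    simp [hG1]
  haveI := hGn
  obtain ⟨V, hVn, hVG, hV1, hVmin⟩ := exists_minimal_normal_le G hG1
  haveI := hVn
  -- the quotient
  let π : H →* H ⧸ V := QuotientGroup.mk' V
  have hπsurj : Function.Surjective π := QuotientGroup.mk'_surjective V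
  have hker : π.ker = V := QuotientGroup.ker_mk' V
  -- `A ⊓ G = ⊥`
  have hAG : A ⊓ G = ⊥ := by
    rw [eq_bot_iff]
    rintro x ⟨hxA, hxG⟩
    rw [mem_bot]
    have h1 : orderOf x ∣ p ^ 2 := by
      have : x ^ p = 1 := hA.2.1 x hxA
      exact (orderOf_dvd_of_pow_eq_one this).trans (dvd_pow_self p (by norm_num))
    have h2 : orderOf x ∣ Nat.card G := by
      have := orderOf_dvd_natCard (⟨x, hxG⟩ : G)
      rwa [Subgroup.orderOf_mk] at this
    have hcop : (p ^ 2).Coprime (Nat.card G) :=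
      Nat.Coprime.pow_left 2 ((Nat.Prime.coprime_iff_not_dvd hp).mpr hpG)
    have : orderOf x = 1 := Nat.eq_one_of_dvd_coprimes hcop h1 h2
    exact orderOf_eq_one_iff.mp this
  have hAker : A ⊓ π.ker = ⊥ := by
    rw [hker, eq_bot_iff]
    exact (inf_le_inf_left A hVG).trans hAG.le
  have hA' : Helper48.IsEA2 p (A.map π) := hA.map π hAker
  have hGn' : (G.map π).Normal := hGn.map π hπsurj
  have hGA' : G.map π ⊔ A.map π = ⊤ := by
    rw [← Subgroup.map_sup, hGA, ← MonoidHom.range_eq_map, MonoidHom.range_eq_top]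
    exact hπsurj
  have hsurjG : Function.Surjective (π.subgroupMap G) := π.subgroupMap_surjective G
  have hGsol' : Group.IsSolvable (G.map π) := solvable_of_surjective hsurjG
  have hcarddvd : Nat.card (G.map π) ∣ Nat.card G := Subgroup.card_dvd_of_surjective _ hsurjG
  have hpG' : ¬ p ∣ Nat.card (G.map π) := fun h => hpG (h.trans hcarddvd)
  have hpV : ¬ p ∣ Nat.card V := fun h => hpG (h.trans (Subgroup.card_dvd_of_le hVG))
  have hfix' : G.map π ⊓ centralizer ((A.map π : Subgroup (H ⧸ V)) : Set (H ⧸ V)) = ⊥ := by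
    rw [eq_bot_iff]
    rintro y ⟨⟨g, hgG, rfl⟩, hyc⟩
    rw [mem_bot]
    have hx : ∀ a ∈ A, g⁻¹ * (a * g * a⁻¹) ∈ V := by
      intro a ha
      have hc : π a * π g = π g * π a := hyc (π a) ⟨a, ha, rfl⟩
      have : π (g⁻¹ * (a * g * a⁻¹)) = 1 := by
        rw [map_mul, map_mul, map_mul, map_inv, map_inv, hc]
        group
      rw [← MonoidHom.mem_ker, hker] at this
      exact this
    have hAV : A ≤ normalizer (V : Set H) := by
      intro a _
      exact (Subgroup.normalizer_eq_top (H := V)) ▸ mem_top a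
    obtain ⟨y, hyV, hyfix⟩ :=
      Cfsg.Agent.Helper75.ShultNil.exists_fixed_in_coset hA.isPGroup hpV hAV g hx
    have hyG : y ∈ G := by
      have : y = g * (g⁻¹ * y) := by group
      rw [this]
      exact G.mul_mem hgG (hVG hyV)
    have hyC : y ∈ centralizer (A : Set H) := by
      rw [mem_centralizer_iff]
      intro a ha
      have := hyfix a ha
      calc a * y = (a * y * a⁻¹) * a := by group
        _ = y * a := by rw [this]
    have hy1 : y = 1 := by
      have : y ∈ G ⊓ centralizer (A : Set H) := ⟨hyG, hyC⟩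
      rw [hfix, mem_bot] at this
      exact this
    have hgV : g ∈ V := by
      rw [hy1, mul_one] at hyV
      simpa using V.inv_mem hyV
    show π g = 1
    rw [← MonoidHom.mem_ker, hker]
    exact hgV
  have hlt : Nat.card (G.map π) < n := by
    rw [← hn]
    apply Helper48.card_map_lt π G
    rw [hker, inf_eq_right.mpr hVG]
    exact hV1
  obtain ⟨N', hN'n, hN'G, ⟨k₁, hk₁⟩, ⟨k₂, hk₂⟩⟩ :=
    ih _ hlt (H ⧸ V) p (G.map π) (A.map π) rfl hA' hGn' hGA' hGsol' hpG' hfix'
  -- pull back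
  set N : Subgroup H := N'.comap π with hN
  have hNn : N.Normal := hN'n.comap π
  have hVN : V ≤ N := by
    intro v hv
    show π v ∈ N'
    have : π v = 1 := (QuotientGroup.eq_one_iff v).mpr hv
    rw [this]
    exact N'.one_mem
  have hNG : N ≤ G := by
    have h1 : N ≤ (G.map π).comap π := Subgroup.comap_mono hN'G
    rw [Subgroup.comap_map_eq, hker, sup_eq_left.mpr hVG] at h1
    exact h1
  have hNmap : N.map π = N' := Subgroup.map_comap_eq_self_of_surjective hπsurj N'
  have hNk₁ : N.lowerCentralSeries k₁ ≤ V := by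
    have : (N.lowerCentralSeries k₁).map π = ⊥ := by
      rw [Subgroup.map_lowerCentralSeries, hNmap, hk₁]
    rw [← hker]
    exact (Subgroup.map_eq_bot_iff _).mp this
  have hGk₂ : G.lowerCentralSeries k₂ ≤ N := by
    rw [hN, ← Subgroup.map_le_iff_le_comap, Subgroup.map_lowerCentralSeries]
    exact hk₂
  set k := max k₁ k₂ with hk
  have hNk : N.lowerCentralSeries k ≤ V :=
    (N.lowerCentralSeries_antitone (le_max_left k₁ k₂)).trans hNk₁
  have hGk : G.lowerCentralSeries k ≤ N :=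
    (G.lowerCentralSeries_antitone (le_max_right k₁ k₂)).trans hGk₂
  obtain ⟨m, hm⟩ := hT H p G A V N k hA hGn hGA hGsol hpG hfix hVn hVG hV1 hVmin hNn hVN hNG hNk hGk
  refine ⟨N ⊓ centralizer (V : Set H), inferInstance, inf_le_left.trans hNG, ⟨k + 1, ?_⟩,
    ⟨max k m, ?_⟩⟩
  · rw [Subgroup.lowerCentralSeries_succ, eq_bot_iff]
    have h1 : (N ⊓ centralizer (V : Set H)).lowerCentralSeries k ≤ V :=
      (Subgroup.lowerCentralSeries_mono k (inf_le_left : N ⊓ centralizer (V : Set H) ≤ N)).trans hNk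
    have h2 : ⁅V, centralizer (V : Set H)⁆ = ⊥ := by
      rw [Subgroup.commutator_comm, Subgroup.commutator_eq_bot_iff_le_centralizer]
    exact (Subgroup.commutator_mono h1 inf_le_right).trans h2.le
  · apply le_inf
    · exact (G.lowerCentralSeries_antitone (le_max_left k m)).trans hGk
    · exact (G.lowerCentralSeries_antitone (le_max_right k m)).trans hm

theorem wardAmbient_of_t1 (hT : T1Stmt.{u}) : WardAmbientStmt.{u} := by
  intro H _ _ p _ G A hA hGn hGA hGsol hpG hfix
  exact wardAmbient_aux hT (Nat.card G) H p G A rfl hA hGn hGA hGsol hpG hfix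

end Cfsg.Agent.Helper1.Ward
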