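import Mathlib
import Cfsg.Agent.Helper1.ShultDefs
import Cfsg.Agent.Helper1.WardAmb
import Cfsg.Agent.Helper75.ShultNilA

set_option autoImplicit false

/-!
# Shult's theorem for `S₃`, piece (R): `CoreStmt → ShultAmbientStmt`

Strong induction on `Nat.card G`, passing to the quotient by a minimal normal subgroup `V ≤ G` of
the ambient group `H`; fixed points are lifted by the coprime action, first for `σ`, then for `τ`
on `C_V(σ)`.
-/

namespace Cfsg.Agent.Helper1.Shult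

open Subgroup

universe u

section Lift

variable {H : Type*} [Group H]

/-- the elements `a` of `N_H(N)` which fix the coset `y N`. -/
def cosetStab (N : Subgroup H) (y : H) : Subgroup H where
  carrier := {a | a ∈ normalizer (N : Set H) ∧ y⁻¹ * (a * y * a⁻¹) ∈ N}
  one_mem' := by
    refine ⟨Subgroup.one_mem _, ?_⟩
    have : y⁻¹ * (1 * y * 1⁻¹) = 1 := by group
    rw [this]
    exact N.one_mem
  mul_mem' := by
    rintro a b ⟨haN, hay⟩ ⟨hbN, hby⟩
    refine ⟨Subgroup.mul_mem _ haN hbN, ?_⟩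
    have h1 : a * (y⁻¹ * (b * y * b⁻¹)) * a⁻¹ ∈ N := (mem_normalizer_iff.mp haN _).mp hby
    have e : y⁻¹ * (a * b * y * (a * b)⁻¹) = y⁻¹ * (a * y * a⁻¹) * (a * (y⁻¹ * (b * y * b⁻¹)) * a⁻¹) := by
      group
    rw [e]
    exact N.mul_mem hay h1
  inv_mem' := by
    rintro a ⟨haN, hay⟩
    refine ⟨Subgroup.inv_mem _ haN, ?_⟩
    have h1 : a⁻¹ * (y⁻¹ * (a * y * a⁻¹))⁻¹ * a⁻¹⁻¹ ∈ N :=
      (mem_normalizer_iff.mp (Subgroup.inv_mem _ haN) _).mp (N.inv_mem hay)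
    have e : y⁻¹ * (a⁻¹ * y * a⁻¹⁻¹) = a⁻¹ * (y⁻¹ * (a * y * a⁻¹))⁻¹ * a⁻¹⁻¹ := by group
    rw [e]
    exact h1

theorem mem_cosetStab {N : Subgroup H} {y a : H} :
    a ∈ cosetStab N y ↔ a ∈ normalizer (N : Set H) ∧ y⁻¹ * (a * y * a⁻¹) ∈ N := Iff.rfl

/-- (L) coprime lifting of fixed points for the `S₃`-pair. -/
theorem fixed_lift [Finite H] {σ τ : H} (h : S3Pair σ τ) (N : Subgroup H) (hN : Inv σ τ N)
    (hcop : (Nat.card N).Coprime 6) (y : H)
    (hyσ : y⁻¹ * (σ * y * σ⁻¹) ∈ N) (hyτ : y⁻¹ * (τ * y * τ⁻¹) ∈ N) :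
    ∃ n ∈ N, σ * (y * n) * σ⁻¹ = y * n ∧ τ * (y * n) * τ⁻¹ = y * n := by
  classical
  haveI : Fact (Nat.Prime 3) := ⟨Nat.prime_three⟩
  haveI : Fact (Nat.Prime 2) := ⟨Nat.prime_two⟩
  have h3N : ¬ 3 ∣ Nat.card N := by
    intro hd
    have : 3 ∣ Nat.gcd (Nat.card N) 6 := Nat.dvd_gcd hd (by norm_num)
    rw [hcop] at this
    omega
  have h2N : ¬ 2 ∣ Nat.card N := by
    intro hd
    have : 2 ∣ Nat.gcd (Nat.card N) 6 := Nat.dvd_gcd hd (by norm_num)
    rw [hcop] at this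
    omega
  -- step 1: `σ`
  have hσpg : IsPGroup 3 (zpowers σ) := by
    apply IsPGroup.of_card (n := 1)
    rw [Nat.card_zpowers, h.oσ, pow_one]
  have hσS : zpowers σ ≤ cosetStab N y := by
    rw [zpowers_le]
    exact ⟨hN.1, hyσ⟩
  obtain ⟨y₁, hy₁N, hy₁fix⟩ :=
    Cfsg.Agent.Helper75.ShultNil.exists_fixed_in_coset hσpg h3N
      (fun a ha => (hσS ha).1) y (fun a ha => (hσS ha).2)
  have hσy₁ : σ * y₁ * σ⁻¹ = y₁ := hy₁fix σ (mem_zpowers σ)
  have hσy₁' : σ * y₁ = y₁ * σ := by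
    calc σ * y₁ = (σ * y₁ * σ⁻¹) * σ := by group
      _ = y₁ * σ := by rw [hσy₁]
  -- step 2: `τ` on `N₁ = C_N(σ)`
  set N₁ : Subgroup H := N ⊓ centralizer ({σ} : Set H) with hN₁
  have hτσ : τ⁻¹ * σ * τ = σ⁻¹ := by
    have h1 : τ⁻¹ * (τ * σ * τ⁻¹) * τ = τ⁻¹ * σ⁻¹ * τ := by rw [h.rel]
    have h2 : τ⁻¹ * (τ * σ * τ⁻¹) * τ = σ := by group
    rw [h2] at h1
    have h3 : (τ⁻¹ * σ⁻¹ * τ)⁻¹ = τ⁻¹ * σ * τ := by group
    rw [← h3, ← h1]
  have hcentσ : ∀ x : H, σ * x = x * σ → σ * (τ * x * τ⁻¹) = (τ * x * τ⁻¹) * σ := by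
    intro x hx
    have hx' : σ⁻¹ * x = x * σ⁻¹ := by
      calc σ⁻¹ * x = σ⁻¹ * (x * σ) * σ⁻¹ := by group
        _ = σ⁻¹ * (σ * x) * σ⁻¹ := by rw [hx]
        _ = x * σ⁻¹ := by group
    calc σ * (τ * x * τ⁻¹) = τ * ((τ⁻¹ * σ * τ) * x) * τ⁻¹ := by group
      _ = τ * (x * (τ⁻¹ * σ * τ)) * τ⁻¹ := by rw [hτσ, hx']
      _ = (τ * x * τ⁻¹) * σ := by group
  have hcentσ' : ∀ x : H, σ * x = x * σ → σ * (τ⁻¹ * x * τ) = (τ⁻¹ * x * τ) * σ := by
    intro x hx
    have hx' : σ⁻¹ * x = x * σ⁻¹ := by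
      calc σ⁻¹ * x = σ⁻¹ * (x * σ) * σ⁻¹ := by group
        _ = σ⁻¹ * (σ * x) * σ⁻¹ := by rw [hx]
        _ = x * σ⁻¹ := by group
    have hτσ2 : τ * σ * τ⁻¹ = σ⁻¹ := h.rel
    calc σ * (τ⁻¹ * x * τ) = τ⁻¹ * ((τ * σ * τ⁻¹) * x) * τ := by group
      _ = τ⁻¹ * (x * (τ * σ * τ⁻¹)) * τ := by rw [hτσ2, hx']
      _ = (τ⁻¹ * x * τ) * σ := by group
  have hτN₁ : τ ∈ normalizer (N₁ : Set H) := by
    rw [mem_normalizer_iff]
    intro x
    rw [hN₁, Subgroup.mem_inf, Subgroup.mem_inf, mem_centralizer_iff, mem_centralizer_iff]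
    constructor
    · rintro ⟨hxN, hxc⟩
      refine ⟨(mem_normalizer_iff.mp hN.2 x).mp hxN, ?_⟩
      intro s hs
      rw [Set.mem_singleton_iff] at hs
      subst hs
      have := hxc s (Set.mem_singleton s)
      exact hcentσ x this
    · rintro ⟨hxN, hxc⟩
      refine ⟨(mem_normalizer_iff.mp hN.2 x).mpr hxN, ?_⟩
      intro s hs
      rw [Set.mem_singleton_iff] at hs
      subst hs
      have h1 := hxc s (Set.mem_singleton s)
      have h2 := hcentσ' _ h1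
      have e : τ⁻¹ * (τ * x * τ⁻¹) * τ = x := by group
      rw [e] at h2
      exact h2
  have hy₁τ : y₁⁻¹ * (τ * y₁ * τ⁻¹) ∈ N₁ := by
    rw [hN₁, Subgroup.mem_inf]
    constructor
    · have h1 : τ * (y⁻¹ * y₁) * τ⁻¹ ∈ N := (mem_normalizer_iff.mp hN.2 _).mp hy₁N
      have e : y₁⁻¹ * (τ * y₁ * τ⁻¹) =
          (y⁻¹ * y₁)⁻¹ * (y⁻¹ * (τ * y * τ⁻¹)) * (τ * (y⁻¹ * y₁) * τ⁻¹) := by group
      rw [e]
      exact N.mul_mem (N.mul_mem (N.inv_mem hy₁N) hyτ) h1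
    · rw [mem_centralizer_iff]
      intro s hs
      rw [Set.mem_singleton_iff] at hs
      subst hs
      have h1 := hcentσ y₁ hσy₁'
      have h2 : s * y₁⁻¹ = y₁⁻¹ * s := by
        calc s * y₁⁻¹ = y₁⁻¹ * (y₁ * s) * y₁⁻¹ := by group
          _ = y₁⁻¹ * (s * y₁) * y₁⁻¹ := by rw [hσy₁']
          _ = y₁⁻¹ * s := by group
      calc s * (y₁⁻¹ * (τ * y₁ * τ⁻¹)) = (s * y₁⁻¹) * (τ * y₁ * τ⁻¹) := by group
        _ = y₁⁻¹ * (s * (τ * y₁ * τ⁻¹)) := by rw [h2]; group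
        _ = y₁⁻¹ * ((τ * y₁ * τ⁻¹) * s) := by rw [h1]
        _ = y₁⁻¹ * (τ * y₁ * τ⁻¹) * s := by group
  have hτpg : IsPGroup 2 (zpowers τ) := by
    apply IsPGroup.of_card (n := 1)
    rw [Nat.card_zpowers, h.oτ, pow_one]
  have h2N₁ : ¬ 2 ∣ Nat.card N₁ :=
    fun hd => h2N (hd.trans (Subgroup.card_dvd_of_le inf_le_left))
  have hτS : zpowers τ ≤ cosetStab N₁ y₁ := by
    rw [zpowers_le]
    exact ⟨hτN₁, hy₁τ⟩
  obtain ⟨y₂, hy₂N, hy₂fix⟩ :=
    Cfsg.Agent.Helper75.ShultNil.exists_fixed_in_coset hτpg h2N₁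
      (fun a ha => (hτS ha).1) y₁ (fun a ha => (hτS ha).2)
  have hτy₂ : τ * y₂ * τ⁻¹ = y₂ := hy₂fix τ (mem_zpowers τ)
  have hy₂N' : y₁⁻¹ * y₂ ∈ N ∧ y₁⁻¹ * y₂ ∈ centralizer ({σ} : Set H) := by
    rw [← Subgroup.mem_inf]
    exact hy₂N
  have hσn : σ * (y₁⁻¹ * y₂) = (y₁⁻¹ * y₂) * σ :=
    (mem_centralizer_iff.mp hy₂N'.2) σ (Set.mem_singleton σ)
  refine ⟨y⁻¹ * y₂, ?_, ?_, ?_⟩
  · have e : y⁻¹ * y₂ = (y⁻¹ * y₁) * (y₁⁻¹ * y₂) := by group
    rw [e]
    exact N.mul_mem hy₁N hy₂N'.1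
  · have e : y * (y⁻¹ * y₂) = y₁ * (y₁⁻¹ * y₂) := by group
    rw [e]
    calc σ * (y₁ * (y₁⁻¹ * y₂)) * σ⁻¹ = (σ * y₁) * (y₁⁻¹ * y₂) * σ⁻¹ := by group
      _ = y₁ * (σ * (y₁⁻¹ * y₂)) * σ⁻¹ := by rw [hσy₁']; group
      _ = y₁ * ((y₁⁻¹ * y₂) * σ) * σ⁻¹ := by rw [hσn]
      _ = y₁ * (y₁⁻¹ * y₂) := by group
  · have e : y * (y⁻¹ * y₂) = y₂ := by group
    rw [e]
    exact hτy₂

end Lift

theorem ambient_aux (hC : CoreStmt.{u}) :
    ∀ (n : ℕ) (H : Type u) [Group H] [Finite H] (σ τ : H) (G : Subgroup H),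
      Nat.card G = n → S3Pair σ τ → G.Normal → G ⊔ closure {σ, τ} = ⊤ → Group.IsSolvable G →
      (Nat.card G).Coprime 6 → Fix σ τ G = ⊥ →
      ∃ k : ℕ, (⁅G, G⁆).lowerCentralSeries k = ⊥ := by
  intro n
  induction n using Nat.strong_induction_on with
  | _ n ih =>
  intro H _ _ σ τ G hn hS hGn hGA hGsol hcop hfix
  by_cases hG1 : G = ⊥
  · refine ⟨0, ?_⟩
    rw [Subgroup.lowerCentralSeries_zero, hG1, Subgroup.commutator_bot_left]
  have := hGn
  obtain ⟨V, hVn, hVG, hV1, hVmin⟩ := Cfsg.Agent.Helper1.Ward.exists_minimal_normal_le G hG1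
  have := hVn
  let π : H →* H ⧸ V := QuotientGroup.mk' V
  have hπsurj : Function.Surjective π := QuotientGroup.mk'_surjective V
  have hker : π.ker = V := QuotientGroup.ker_mk' V
  have h3G : ¬ 3 ∣ Nat.card G := by
    intro hd
    have : 3 ∣ Nat.gcd (Nat.card G) 6 := Nat.dvd_gcd hd (by norm_num)
    rw [hcop] at this
    omega
  have h2G : ¬ 2 ∣ Nat.card G := by
    intro hd
    have : 2 ∣ Nat.gcd (Nat.card G) 6 := Nat.dvd_gcd hd (by norm_num)
    rw [hcop] at this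
    omega
  have hordG : ∀ x ∈ G, orderOf x ∣ Nat.card G := by
    intro x hx
    have := orderOf_dvd_natCard (⟨x, hx⟩ : G)
    rwa [Subgroup.orderOf_mk] at this
  -- the `S₃`-pair in the quotient
  have hS' : S3Pair (π σ) (π τ) := by
    refine ⟨?_, ?_, ?_⟩
    · have hd : orderOf (π σ) ∣ 3 := by
        rw [← hS.oσ]
        exact orderOf_map_dvd π σ
      rcases (Nat.dvd_prime Nat.prime_three).mp hd with h1 | h3
      · exfalso
        have hσV : σ ∈ V := by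
          rw [← hker, MonoidHom.mem_ker]
          exact orderOf_eq_one_iff.mp h1
        have := hordG σ (hVG hσV)
        rw [hS.oσ] at this
        exact h3G this
      · exact h3
    · have hd : orderOf (π τ) ∣ 2 := by
        rw [← hS.oτ]
        exact orderOf_map_dvd π τ
      rcases (Nat.dvd_prime Nat.prime_two).mp hd with h1 | h2
      · exfalso
        have hτV : τ ∈ V := by
          rw [← hker, MonoidHom.mem_ker]
          exact orderOf_eq_one_iff.mp h1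
        have := hordG τ (hVG hτV)
        rw [hS.oτ] at this
        exact h2G this
      · exact h2
    · rw [← map_inv, ← map_inv, ← map_mul, ← map_mul, hS.rel]
  have hGn' : (G.map π).Normal := hGn.map π hπsurj
  have hGA' : G.map π ⊔ closure {π σ, π τ} = ⊤ := by
    have e : closure ({π σ, π τ} : Set (H ⧸ V)) = (closure ({σ, τ} : Set H)).map π := by
      rw [MonoidHom.map_closure, Set.image_pair]
    rw [e, ← Subgroup.map_sup, hGA, ← MonoidHom.range_eq_map, MonoidHom.range_eq_top]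
    exact hπsurj
  have hsurjG : Function.Surjective (π.subgroupMap G) := π.subgroupMap_surjective G
  have hGsol' : Group.IsSolvable (G.map π) := solvable_of_surjective hsurjG
  have hcarddvd : Nat.card (G.map π) ∣ Nat.card G := Subgroup.card_dvd_of_surjective _ hsurjG
  have hcop' : (Nat.card (G.map π)).Coprime 6 := Nat.Coprime.coprime_dvd_left hcarddvd hcop
  have hcopV : (Nat.card V).Coprime 6 :=
    Nat.Coprime.coprime_dvd_left (Subgroup.card_dvd_of_le hVG) hcop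
  have hVinv : Inv σ τ V := by
    constructor
    · exact (Subgroup.normalizer_eq_top (H := V)) ▸ mem_top σ
    · exact (Subgroup.normalizer_eq_top (H := V)) ▸ mem_top τ
  have hfix' : Fix (π σ) (π τ) (G.map π) = ⊥ := by
    rw [eq_bot_iff]
    rintro y ⟨⟨g, hgG, rfl⟩, hyc⟩
    rw [mem_bot]
    have hx : ∀ a : H, π a * π g = π g * π a → g⁻¹ * (a * g * a⁻¹) ∈ V := by
      intro a hc
      have : π (g⁻¹ * (a * g * a⁻¹)) = 1 := by
        rw [map_mul, map_mul, map_mul, map_inv, map_inv, hc]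
        group
      rw [← MonoidHom.mem_ker, hker] at this
      exact this
    have hσg := hx σ (hyc (π σ) (by simp))
    have hτg := hx τ (hyc (π τ) (by simp))
    obtain ⟨v, hvV, hσv, hτv⟩ := fixed_lift hS V hVinv hcopV g hσg hτg
    have hgvG : g * v ∈ G := G.mul_mem hgG (hVG hvV)
    have hgvC : g * v ∈ centralizer ({σ, τ} : Set H) := by
      rw [mem_centralizer_iff]
      intro a ha
      rcases ha with rfl | ha
      · calc a * (g * v) = (a * (g * v) * a⁻¹) * a := by group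
          _ = g * v * a := by rw [hσv]
      · rw [Set.mem_singleton_iff] at ha
        subst ha
        calc a * (g * v) = (a * (g * v) * a⁻¹) * a := by group
          _ = g * v * a := by rw [hτv]
    have hgv1 : g * v = 1 := by
      have : g * v ∈ Fix σ τ G := ⟨hgvG, hgvC⟩
      rw [hfix, mem_bot] at this
      exact this
    have hgV : g ∈ V := by
      have : g = v⁻¹ := eq_inv_of_mul_eq_one_left hgv1
      rw [this]
      exact V.inv_mem hvV
    show π g = 1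
    rw [← MonoidHom.mem_ker, hker]
    exact hgV
  have hlt : Nat.card (G.map π) < n := by
    rw [← hn]
    apply Helper48.card_map_lt π G
    rw [hker, inf_eq_right.mpr hVG]
    exact hV1
  obtain ⟨k, hk⟩ := ih _ hlt (H ⧸ V) (π σ) (π τ) (G.map π) rfl hS' hGn' hGA' hGsol' hcop' hfix'
  have hGk : (⁅G, G⁆).lowerCentralSeries k ≤ V := by
    have : ((⁅G, G⁆).lowerCentralSeries k).map π = ⊥ := by
      rw [Subgroup.map_lowerCentralSeries, Subgroup.map_commutator, hk]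
    rw [← hker]
    exact (Subgroup.map_eq_bot_iff _).mp this
  have hcent : ⁅G, G⁆ ≤ centralizer (V : Set H) :=
    hC H σ τ G V k hS hGn hGA hGsol hcop hfix hVn hVG hV1 hVmin hGk
  refine ⟨k + 1, ?_⟩
  rw [Subgroup.lowerCentralSeries_succ, eq_bot_iff]
  have h2 : ⁅V, centralizer (V : Set H)⁆ = ⊥ := by
    rw [Subgroup.commutator_comm, Subgroup.commutator_eq_bot_iff_le_centralizer]
  exact (Subgroup.commutator_mono hGk hcent).trans h2.le

/-- (R) the ambient theorem from the chief factor step. -/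
theorem ambient_of_core (hC : CoreStmt.{u}) : ShultAmbientStmt.{u} := by
  intro H _ _ σ τ G hS hGn hGA hGsol hcop hfix
  exact ambient_aux hC (Nat.card G) H σ τ G rfl hS hGn hGA hGsol hcop hfix

end Cfsg.Agent.Helper1.Shult
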