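import Mathlib
import Cfsg.Agent.Helper48.CoprimeGen

set_option autoImplicit false

/-!
# Ward's theorem, piece (W8): the preimage `T` of `Ω₁(Z(S/S0))`
-/

namespace Cfsg.Agent.Helper1.Ward

open Subgroup

variable {H : Type*} [Group H] [Finite H]

theorem exists_T {s : ℕ} [Fact s.Prime] (S S0 : Subgroup H) (hS : IsPGroup s S) (hS0 : S0 ≤ S)
    (hn : S ≤ normalizer (S0 : Set H)) (hne : S0 ≠ S) :
    ∃ T : Subgroup H, S0 ≤ T ∧ T ≤ S ∧ T ≠ S0 ∧
      (∀ t ∈ T, ∀ u ∈ S, t * u * t⁻¹ * u⁻¹ ∈ S0) ∧ (∀ t ∈ T, t ^ s ∈ S0) ∧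
      (∀ g : H, g ∈ normalizer (S : Set H) → g ∈ normalizer (S0 : Set H) →
        g ∈ normalizer (T : Set H)) := by
  classical
  have hs : s.Prime := Fact.out
  haveI hN : (S0.subgroupOf S).Normal := (Subgroup.normal_subgroupOf_iff_le_normalizer hS0).mpr hn
  let Q := S ⧸ S0.subgroupOf S
  let π : S →* Q := QuotientGroup.mk' _
  have hπsurj : Function.Surjective π := QuotientGroup.mk'_surjective _
  have hπ1 : ∀ x : S, π x = 1 ↔ (x : H) ∈ S0 := by
    intro x
    rw [QuotientGroup.mk'_apply, QuotientGroup.eq_one_iff, Subgroup.mem_subgroupOf]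
  let Ω : Subgroup Q :=
    { carrier := {z | z ∈ center Q ∧ z ^ s = 1}
      one_mem' := ⟨Subgroup.one_mem _, one_pow _⟩
      mul_mem' := by
        rintro a b ⟨ha, ha'⟩ ⟨hb, hb'⟩
        refine ⟨Subgroup.mul_mem _ ha hb, ?_⟩
        have hc : Commute a b := (Subgroup.mem_center_iff.mp ha b).symm
        rw [hc.mul_pow, ha', hb', one_mul]
      inv_mem' := by
        rintro a ⟨ha, ha'⟩
        exact ⟨Subgroup.inv_mem _ ha, by rw [inv_pow, ha', inv_one]⟩ }
  have hΩ : ∀ z : Q, z ∈ Ω ↔ z ∈ center Q ∧ z ^ s = 1 := fun z => Iff.rfl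
  set T : Subgroup H := (Ω.comap π).map S.subtype with hT
  have hmem : ∀ t : H, t ∈ T ↔ ∃ ht : t ∈ S, π ⟨t, ht⟩ ∈ Ω := by
    intro t
    constructor
    · rintro ⟨x, hx, rfl⟩
      exact ⟨x.2, hx⟩
    · rintro ⟨ht, h⟩
      exact ⟨⟨t, ht⟩, h, rfl⟩
  have hchar : ∀ t : H, t ∈ T ↔
      t ∈ S ∧ (∀ u ∈ S, t * u * t⁻¹ * u⁻¹ ∈ S0) ∧ t ^ s ∈ S0 := by
    intro t
    rw [hmem]
    constructor
    · rintro ⟨ht, hz⟩
      rw [hΩ] at hz
      obtain ⟨hc, hp⟩ := hz
      refine ⟨ht, ?_, ?_⟩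
      · intro u hu
        have h1 : π ⟨u, hu⟩ * π ⟨t, ht⟩ = π ⟨t, ht⟩ * π ⟨u, hu⟩ :=
          Subgroup.mem_center_iff.mp hc _
        have h2 : π (⟨t, ht⟩ * ⟨u, hu⟩ * ⟨t, ht⟩⁻¹ * ⟨u, hu⟩⁻¹) = 1 := by
          rw [map_mul, map_mul, map_mul, map_inv, map_inv, ← h1]
          group
        exact (hπ1 _).mp h2
      · have h2 : π (⟨t, ht⟩ ^ s) = 1 := by rw [map_pow, hp]
        exact (hπ1 _).mp h2
    · rintro ⟨ht, hcomm, hpow⟩
      refine ⟨ht, ?_⟩
      rw [hΩ]
      constructor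
      · rw [Subgroup.mem_center_iff]
        intro q
        obtain ⟨u, rfl⟩ := hπsurj q
        have h2 : π (⟨t, ht⟩ * u * ⟨t, ht⟩⁻¹ * u⁻¹) = 1 := by
          rw [hπ1]
          exact hcomm u u.2
        rw [map_mul, map_mul, map_mul, map_inv, map_inv] at h2
        have h3 : π ⟨t, ht⟩ * π u = π u * π ⟨t, ht⟩ := by
          calc π ⟨t, ht⟩ * π u
              = (π ⟨t, ht⟩ * π u * (π ⟨t, ht⟩)⁻¹ * (π u)⁻¹) * (π u * π ⟨t, ht⟩) := by group
            _ = π u * π ⟨t, ht⟩ := by rw [h2, one_mul]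
        exact h3.symm
      · rw [← map_pow, hπ1]
        exact hpow
  refine ⟨T, ?_, ?_, ?_, ?_, ?_, ?_⟩
  · intro x hx
    rw [hchar]
    refine ⟨hS0 hx, ?_, S0.pow_mem hx s⟩
    intro u hu
    have h1 : u * x⁻¹ * u⁻¹ ∈ S0 := (mem_normalizer_iff.mp (hn hu) _).mp (S0.inv_mem hx)
    have : x * u * x⁻¹ * u⁻¹ = x * (u * x⁻¹ * u⁻¹) := by group
    rw [this]
    exact S0.mul_mem hx h1
  · intro t ht
    exact ((hchar t).mp ht).1
  · -- `T ≠ S0`
    have hQnt : Nontrivial Q := by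
      rw [QuotientGroup.nontrivial_iff]
      intro htop
      apply hne
      apply le_antisymm hS0
      intro x hx
      have : (⟨x, hx⟩ : S) ∈ S0.subgroupOf S := by rw [htop]; exact mem_top _
      exact Subgroup.mem_subgroupOf.mp this
    have hQp : IsPGroup s Q := hS.to_quotient _
    haveI : Nontrivial (center Q) := hQp.center_nontrivial
    have hZp : IsPGroup s (center Q) := hQp.to_subgroup _
    obtain ⟨n, hn'⟩ := IsPGroup.iff_card.mp hZp
    have hn0 : n ≠ 0 := by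
      rintro rfl
      rw [pow_zero] at hn'
      have : 1 < Nat.card (center Q) := Finite.one_lt_card
      omega
    have hdvd : s ∣ Nat.card (center Q) := by rw [hn']; exact dvd_pow_self s hn0
    obtain ⟨z, hz⟩ := exists_prime_orderOf_dvd_card' s hdvd
    obtain ⟨x, hx⟩ := hπsurj (z : Q)
    have hzs : (z : Q) ^ s = 1 := by
      have : z ^ s = 1 := by rw [← hz]; exact pow_orderOf_eq_one z
      have := congrArg (Subtype.val) this
      simpa using this
    have hz1 : (z : Q) ≠ 1 := by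
      intro h
      have : z = 1 := Subtype.ext h
      rw [this, orderOf_one] at hz
      exact hs.one_lt.ne hz
    have hxT : (x : H) ∈ T := by
      rw [hmem]
      refine ⟨x.2, ?_⟩
      rw [hΩ]
      have : (⟨(x : H), x.2⟩ : S) = x := rfl
      rw [this, hx]
      exact ⟨z.2, hzs⟩
    intro hTS0
    rw [hTS0] at hxT
    have : π x = 1 := (hπ1 x).mpr hxT
    rw [hx] at this
    exact hz1 this
  · intro t ht u hu
    exact ((hchar t).mp ht).2.1 u hu
  · intro t ht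
    exact ((hchar t).mp ht).2.2
  · intro g hgS hgS0
    have key : (normalizer (S : Set H) ⊓ normalizer (S0 : Set H)) ≤ normalizer (T : Set H) := by
      apply Helper48.mem_normalizer_of_forall_conj_mem
      rintro a ⟨haS, haS0⟩ t ht
      obtain ⟨htS, hcomm, hpow⟩ := (hchar t).mp ht
      rw [hchar]
      refine ⟨(mem_normalizer_iff.mp haS t).mp htS, ?_, ?_⟩
      · intro u hu
        have hu' : a⁻¹ * u * a ∈ S := by
          have := (mem_normalizer_iff.mp (Subgroup.inv_mem _ haS) u).mp hu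
          simpa using this
        have h1 := hcomm _ hu'
        have h2 := (mem_normalizer_iff.mp haS0 _).mp h1
        have e : a * (t * (a⁻¹ * u * a) * t⁻¹ * (a⁻¹ * u * a)⁻¹) * a⁻¹
            = a * t * a⁻¹ * u * (a * t * a⁻¹)⁻¹ * u⁻¹ := by group
        rwa [e] at h2
      · have h2 := (mem_normalizer_iff.mp haS0 _).mp hpow
        have e : a * t ^ s * a⁻¹ = (a * t * a⁻¹) ^ s := by
          rw [conj_pow]
        rwa [e] at h2
    exact key ⟨hgS, hgS0⟩

end Cfsg.Agent.Helper1.Ward
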