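import Mathlib
import Cfsg.Agent.Helper52.PQDefs
import Cfsg.Agent.Helper71.QuotImage
import Cfsg.Agent.Helper48.ShultAmA
import Cfsg.Agent.Helper48.CoprimeGen
import Cfsg.Agent.Helper25.PQL
import Cfsg.Agent.Helper75.ShultNilA

set_option autoImplicit false

/-!
# S4306 (nonabelian `pq` acting fixed-point-freely), piece (TW): the tower lemma from the core
(helper1, for helper52)

Strong induction on `|V| + |S| + |R|`; a minimal counterexample is a `CoreCfg`.  The kernel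
`S ⊓ C(V)` is removed by passing to `N_H(K) / K` (`Helper71.QI`).
-/

namespace Cfsg.Agent.Helper1.PQ

open Subgroup Cfsg.Agent.Helper1.Shult Cfsg.Agent.Helper52.PQ Cfsg.Agent.Helper71
  Cfsg.Agent.Helper48.Shult

open scoped commutatorElement

universe v

section quot

variable {H : Type*} [Group H]

theorem proj_mem_normalizer_img {K X : Subgroup H} {g : H} (hg : g ∈ normalizer (K : Set H))
    (hgX : g ∈ normalizer (X : Set H)) :
    QI.proj K ⟨g, hg⟩ ∈ normalizer ((QI.img K X : Subgroup (QI.Quo K)) : Set (QI.Quo K)) := by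
  have h1 : zpowers g ≤ normalizer (X : Set H) := (zpowers_le).mpr hgX
  have h2 := QI.img_le_normalizer (N := K) h1
  apply h2
  exact QI.mem_img.mpr ⟨g, hg, mem_zpowers g, rfl⟩

theorem inv_img {K X : Subgroup H} {σ τ : H} (hσ : σ ∈ normalizer (K : Set H))
    (hτ : τ ∈ normalizer (K : Set H)) (hX : Cfsg.Agent.Helper1.Shult.Inv σ τ X) :
    Cfsg.Agent.Helper1.Shult.Inv (QI.proj K ⟨σ, hσ⟩) (QI.proj K ⟨τ, hτ⟩) (QI.img K X) :=
  ⟨proj_mem_normalizer_img hσ hX.1, proj_mem_normalizer_img hτ hX.2⟩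

/-- commutation in the quotient, pulled back. -/
theorem conj_mem_of_proj_commute {K : Subgroup H} {g y : H} (hg : g ∈ normalizer (K : Set H))
    (hy : y ∈ normalizer (K : Set H))
    (h : QI.proj K ⟨g, hg⟩ * QI.proj K ⟨y, hy⟩ = QI.proj K ⟨y, hy⟩ * QI.proj K ⟨g, hg⟩) :
    y⁻¹ * (g * y * g⁻¹) ∈ K := by
  have h1 : QI.proj K ⟨y, hy⟩ = QI.proj K (⟨g, hg⟩ * ⟨y, hy⟩ * ⟨g, hg⟩⁻¹) := by
    rw [map_mul, map_mul, map_inv, h, mul_inv_cancel_right]
  rw [QI.proj_eq_proj_iff] at h1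
  exact h1

theorem isEA_img {K V : Subgroup H} {ℓ : ℕ} (hV : IsEA ℓ V) : IsEA ℓ (QI.img K V) := by
  constructor
  · intro a ha b hb
    obtain ⟨x, hx, hxV, rfl⟩ := QI.mem_img.mp ha
    obtain ⟨y, hy, hyV, rfl⟩ := QI.mem_img.mp hb
    rw [← map_mul, ← map_mul]
    congr 1
    apply Subtype.ext
    exact hV.1 x hxV y hyV
  · intro a ha
    obtain ⟨x, hx, hxV, rfl⟩ := QI.mem_img.mp ha
    rw [← map_pow]
    have : (⟨x, hx⟩ : ↥(normalizer (K : Set H))) ^ ℓ = 1 := by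
      apply Subtype.ext
      rw [coe_pow, coe_one]
      exact hV.2 x hxV
    rw [this, map_one]

/-- fixed points of an invariant subgroup meeting `K` trivially. -/
theorem fix_img_of_inf_eq_bot {K X : Subgroup H} {σ τ : H} (hσ : σ ∈ normalizer (K : Set H))
    (hτ : τ ∈ normalizer (K : Set H)) (hXK : X ≤ normalizer (K : Set H))
    (hX : Cfsg.Agent.Helper1.Shult.Inv σ τ X) (hinf : X ⊓ K = ⊥) (hfix : Fix σ τ X = ⊥) :
    Fix (QI.proj K ⟨σ, hσ⟩) (QI.proj K ⟨τ, hτ⟩) (QI.img K X) = ⊥ := by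
  rw [eq_bot_iff]
  intro a ha
  obtain ⟨haX, hac⟩ := mem_inf.mp ha
  obtain ⟨y, hy, hyX, rfl⟩ := QI.mem_img.mp haX
  rw [mem_centralizer_iff] at hac
  have h1 := conj_mem_of_proj_commute hσ hy (hac _ (by simp))
  have h2 := conj_mem_of_proj_commute hτ hy (hac _ (by simp))
  have key : ∀ g : H, g ∈ normalizer (X : Set H) → y⁻¹ * (g * y * g⁻¹) ∈ K → g * y = y * g := by
    intro g hgX hgK
    have h3 : y⁻¹ * (g * y * g⁻¹) ∈ X :=
      X.mul_mem (X.inv_mem hyX) ((mem_normalizer_iff.mp hgX y).mp hyX)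
    have h4 : y⁻¹ * (g * y * g⁻¹) ∈ X ⊓ K := mem_inf.mpr ⟨h3, hgK⟩
    rw [hinf, mem_bot] at h4
    have h5 : g * y * g⁻¹ = y := by
      have := inv_mul_eq_one.mp h4
      exact this.symm
    calc g * y = (g * y * g⁻¹) * g := by group
      _ = y * g := by rw [h5]
  have hyfix : y ∈ Fix σ τ X := by
    refine mem_inf.mpr ⟨hyX, ?_⟩
    rw [mem_centralizer_iff]
    intro g hg
    rcases hg with rfl | hg
    · exact key g hX.1 h1
    · rw [Set.mem_singleton_iff] at hg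
      subst hg
      exact key g hX.2 h2
  rw [hfix, mem_bot] at hyfix
  rw [mem_bot, QI.proj_eq_one_iff]
  show y ∈ K
  rw [hyfix]
  exact K.one_mem

/-- fixed points of a subgroup containing `K`, by coprime lifting. -/
theorem fix_img_of_le [Finite H] {K X : Subgroup H} {s t : ℕ} {σ τ : H} (hF : FrobPair s t σ τ)
    (hσ : σ ∈ normalizer (K : Set H)) (hτ : τ ∈ normalizer (K : Set H))
    (hKX : K ≤ X) (hcop : (Nat.card K).Coprime (s * t)) (hfix : Fix σ τ X = ⊥) :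
    Fix (QI.proj K ⟨σ, hσ⟩) (QI.proj K ⟨τ, hτ⟩) (QI.img K X) = ⊥ := by
  rw [eq_bot_iff]
  intro a ha
  obtain ⟨haX, hac⟩ := mem_inf.mp ha
  obtain ⟨y, hy, hyX, rfl⟩ := QI.mem_img.mp haX
  rw [mem_centralizer_iff] at hac
  have h1 := conj_mem_of_proj_commute hσ hy (hac _ (by simp))
  have h2 := conj_mem_of_proj_commute hτ hy (hac _ (by simp))
  obtain ⟨n, hnK, hnσ, hnτ⟩ := Cfsg.Agent.Helper25.PQ.pq_fixed_lift hF K ⟨hσ, hτ⟩ hcop y h1 h2
  have hynfix : y * n ∈ Fix σ τ X := by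
    refine mem_inf.mpr ⟨X.mul_mem hyX (hKX hnK), ?_⟩
    rw [mem_centralizer_iff]
    intro g hg
    rcases hg with rfl | hg
    · calc g * (y * n) = (g * (y * n) * g⁻¹) * g := by group
        _ = y * n * g := by rw [hnσ]
    · rw [Set.mem_singleton_iff] at hg
      subst hg
      calc g * (y * n) = (g * (y * n) * g⁻¹) * g := by group
        _ = y * n * g := by rw [hnτ]
  rw [hfix, mem_bot] at hynfix
  rw [mem_bot, QI.proj_eq_one_iff]
  show y ∈ K
  have : y = n⁻¹ := eq_inv_of_mul_eq_one_left hynfix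
  rw [this]
  exact K.inv_mem hnK

/-- an element of prime order `s` does not lie in a `w`-group, `w ≠ s`. -/
theorem not_mem_of_orderOf_prime [Finite H] {K : Subgroup H} {w s : ℕ} [Fact w.Prime]
    (hK : IsPGroup w K) (hs : s.Prime) (hws : w ≠ s) {g : H} (hg : orderOf g = s) : g ∉ K := by
  intro hgK
  obtain ⟨j, hj⟩ := hK ⟨g, hgK⟩
  have h1 : g ^ (w ^ j) = 1 := by
    have := congrArg Subtype.val hj
    simpa using this
  have h2 : s ∣ w ^ j := hg ▸ orderOf_dvd_of_pow_eq_one h1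
  have h3 : s ∣ w := hs.dvd_of_dvd_pow h2
  have h4 := (Nat.prime_dvd_prime_iff_eq hs (Fact.out : w.Prime)).mp h3
  exact hws h4.symm

theorem frobPair_img [Finite H] {K : Subgroup H} {w s t : ℕ} [Fact w.Prime] {σ τ : H}
    (hF : FrobPair s t σ τ) (hK : IsPGroup w K) (hws : w ≠ s) (hwt : w ≠ t)
    (hσ : σ ∈ normalizer (K : Set H)) (hτ : τ ∈ normalizer (K : Set H)) :
    FrobPair s t (QI.proj K ⟨σ, hσ⟩) (QI.proj K ⟨τ, hτ⟩) := by
  have ord : ∀ (g : H) (hg : g ∈ normalizer (K : Set H)) (r : ℕ), r.Prime → w ≠ r →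
      orderOf g = r → orderOf (QI.proj K ⟨g, hg⟩) = r := by
    intro g hg r hr hwr hgr
    have h1 : orderOf (QI.proj K ⟨g, hg⟩) ∣ r := by
      apply orderOf_dvd_of_pow_eq_one
      rw [← map_pow]
      have : (⟨g, hg⟩ : ↥(normalizer (K : Set H))) ^ r = 1 := by
        apply Subtype.ext
        rw [coe_pow, coe_one, ← hgr]
        exact pow_orderOf_eq_one g
      rw [this, map_one]
    rcases (Nat.dvd_prime hr).mp h1 with h | h
    · exfalso
      have h2 := orderOf_eq_one_iff.mp h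
      rw [QI.proj_eq_one_iff] at h2
      exact not_mem_of_orderOf_prime hK hr hwr hgr h2
    · exact h
  refine ⟨hF.hs, hF.ht, ord σ hσ s hF.hs hws hF.oσ, ord τ hτ t hF.ht hwt hF.oτ, ?_, ?_⟩
  · obtain ⟨k, hk⟩ := mem_zpowers_iff.mp hF.norm
    rw [mem_zpowers_iff]
    refine ⟨k, ?_⟩
    rw [← map_zpow, ← map_inv, ← map_mul, ← map_mul]
    congr 1
    apply Subtype.ext
    simp only [coe_zpow, coe_mul, coe_inv]
    exact hk
  · intro hc
    have h1 := conj_mem_of_proj_commute hτ hσ hc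
    -- `σ⁻¹ (τ σ τ⁻¹) ∈ K ⊓ zpowers σ = ⊥`
    have h2 : σ⁻¹ * (τ * σ * τ⁻¹) ∈ zpowers σ :=
      (zpowers σ).mul_mem ((zpowers σ).inv_mem (mem_zpowers σ)) hF.norm
    have h3 : orderOf (σ⁻¹ * (τ * σ * τ⁻¹)) ∣ s := by
      have := orderOf_dvd_natCard (⟨_, h2⟩ : zpowers σ)
      rwa [Subgroup.orderOf_mk, Nat.card_zpowers, hF.oσ] at this
    rcases (Nat.dvd_prime hF.hs).mp h3 with h | h
    · have h4 := orderOf_eq_one_iff.mp h
      have h5 : τ * σ * τ⁻¹ = σ := (inv_mul_eq_one.mp h4).symm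
      apply hF.ncomm
      calc τ * σ = (τ * σ * τ⁻¹) * τ := by group
        _ = σ * τ := by rw [h5]
    · exact not_mem_of_orderOf_prime hK hF.hs hws h h1

theorem card_img_lt [Finite H] {K S : Subgroup H} (hSK : S ≤ normalizer (K : Set H))
    (hKS : K ≤ S) (hK1 : K ≠ ⊥) : Nat.card (QI.img K S) < Nat.card S := by
  have h1 : Nat.card (S.subgroupOf (normalizer (K : Set H))) = Nat.card S :=
    Nat.card_congr (subgroupOfEquivOfLe hSK).toEquiv
  rw [← h1]
  apply Cfsg.Agent.Helper48.card_map_lt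
  intro hbot
  apply hK1
  rw [eq_bot_iff]
  intro k hk
  have hkN : k ∈ normalizer (K : Set H) := le_normalizer hk
  have h2 : (⟨k, hkN⟩ : ↥(normalizer (K : Set H))) ∈
      S.subgroupOf (normalizer (K : Set H)) ⊓ (QI.proj K).ker := by
    refine mem_inf.mpr ⟨mem_subgroupOf.mpr (hKS hk), ?_⟩
    rw [MonoidHom.mem_ker, QI.proj_eq_one_iff]
    exact hk
  rw [hbot, mem_bot] at h2
  rw [mem_bot]
  exact congrArg Subtype.val h2


theorem isPGroup_of_isEA {V : Subgroup H} {ℓ : ℕ} (hV : IsEA ℓ V) : IsPGroup ℓ V := by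
  intro g
  refine ⟨1, ?_⟩
  apply Subtype.ext
  rw [pow_one, coe_pow, coe_one]
  exact hV.2 g g.2

theorem inf_eq_bot_of_pgroups {p q : ℕ} [Fact p.Prime] [Fact q.Prime] (hpq : p ≠ q)
    {A B : Subgroup H} (hA : IsPGroup p A) (hB : IsPGroup q B) : A ⊓ B = ⊥ :=
  disjoint_iff.mp (IsPGroup.disjoint_of_ne p q hpq A B hA hB)

theorem card_coprime_of_pgroup [Finite H] {w s t : ℕ} [Fact w.Prime] {K : Subgroup H}
    (hK : IsPGroup w K) (hs : s.Prime) (ht : t.Prime) (hws : w ≠ s) (hwt : w ≠ t) :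
    (Nat.card K).Coprime (s * t) := by
  obtain ⟨j, hj⟩ := IsPGroup.iff_card.mp hK
  rw [hj]
  apply Nat.Coprime.pow_left
  apply Nat.Coprime.mul_right
  · exact (Nat.coprime_primes Fact.out hs).mpr hws
  · exact (Nat.coprime_primes Fact.out ht).mpr hwt

theorem card_coprime_of_pgroups [Finite H] {u w : ℕ} [Fact u.Prime] [Fact w.Prime] {R : Subgroup H}
    (hR : IsPGroup u R) (huw : u ≠ w) : (Nat.card R).Coprime w := by
  obtain ⟨j, hj⟩ := IsPGroup.iff_card.mp hR
  rw [hj]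
  apply Nat.Coprime.pow_left
  exact (Nat.coprime_primes Fact.out Fact.out).mpr huw

theorem card_lt_of_le_of_ne [Finite H] {A B : Subgroup H} (h : A ≤ B) (hne : A ≠ B) :
    Nat.card A < Nat.card B := by
  refine lt_of_le_of_ne (Subgroup.card_le_of_le h) fun heq => ?_
  exact hne (Subgroup.eq_of_le_of_card_ge h heq.ge)

theorem commutator_le_left_of_normalizer {S R : Subgroup H} (hRS : R ≤ normalizer (S : Set H)) :
    ⁅S, R⁆ ≤ S := by
  rw [Subgroup.commutator_le]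
  intro x hx y hy
  have h1 : y * x⁻¹ * y⁻¹ ∈ S := (mem_normalizer_iff.mp (hRS hy) x⁻¹).mp (S.inv_mem hx)
  have e : ⁅x, y⁆ = x * (y * x⁻¹ * y⁻¹) := by
    rw [commutatorElement_def]; group
  rw [e]
  exact S.mul_mem hx h1

/-- pull a commutator statement back from `N_H(K) / K` when `V ⊓ K = ⊥`. -/
theorem comm_le_centralizer_of_img {K V S R : Subgroup H}
    (hVK : V ≤ normalizer (K : Set H)) (hSK : S ≤ normalizer (K : Set H))
    (hRK : R ≤ normalizer (K : Set H)) (hSV : S ≤ normalizer (V : Set H))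
    (hRV : R ≤ normalizer (V : Set H)) (hinf : V ⊓ K = ⊥)
    (h : ⁅QI.img K S, QI.img K R⁆ ≤
      centralizer ((QI.img K V : Subgroup (QI.Quo K)) : Set (QI.Quo K))) :
    ⁅S, R⁆ ≤ centralizer (V : Set H) := by
  rw [Subgroup.commutator_le]
  intro x hx y hy
  rw [mem_centralizer_iff]
  intro v hv
  have hxK := hSK hx
  have hyK := hRK hy
  have hvK := hVK hv
  have hcK : ⁅x, y⁆ ∈ normalizer (K : Set H) :=
    (⁅(⟨x, hxK⟩ : ↥(normalizer (K : Set H))), (⟨y, hyK⟩ : ↥(normalizer (K : Set H)))⁆).2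
  have h1 : QI.proj K ⟨⁅x, y⁆, hcK⟩ ∈ ⁅QI.img K S, QI.img K R⁆ := by
    have e : (⟨⁅x, y⁆, hcK⟩ : ↥(normalizer (K : Set H))) =
        ⁅(⟨x, hxK⟩ : ↥(normalizer (K : Set H))), (⟨y, hyK⟩ : ↥(normalizer (K : Set H)))⁆ := rfl
    rw [e, map_commutatorElement]
    exact Subgroup.commutator_mem_commutator (QI.mem_img.mpr ⟨x, hxK, hx, rfl⟩)
      (QI.mem_img.mpr ⟨y, hyK, hy, rfl⟩)
  have h2 := h h1
  rw [mem_centralizer_iff] at h2
  have h3 := h2 (QI.proj K ⟨v, hvK⟩) (QI.mem_img.mpr ⟨v, hvK, hv, rfl⟩)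
  have h4 := conj_mem_of_proj_commute hcK hvK h3.symm
  have hcV : ⁅x, y⁆ ∈ normalizer (V : Set H) := by
    rw [commutatorElement_def]
    exact Subgroup.mul_mem _ (Subgroup.mul_mem _ (Subgroup.mul_mem _ (hSV hx) (hRV hy))
      (Subgroup.inv_mem _ (hSV hx))) (Subgroup.inv_mem _ (hRV hy))
  have h5 : v⁻¹ * (⁅x, y⁆ * v * ⁅x, y⁆⁻¹) ∈ V :=
    V.mul_mem (V.inv_mem hv) ((mem_normalizer_iff.mp hcV v).mp hv)
  have h6 : v⁻¹ * (⁅x, y⁆ * v * ⁅x, y⁆⁻¹) ∈ V ⊓ K := mem_inf.mpr ⟨h5, h4⟩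
  rw [hinf, mem_bot] at h6
  have h7 : ⁅x, y⁆ * v * ⁅x, y⁆⁻¹ = v := (inv_mul_eq_one.mp h6).symm
  calc v * ⁅x, y⁆ = (⁅x, y⁆ * v * ⁅x, y⁆⁻¹) * ⁅x, y⁆ := by rw [h7]
    _ = ⁅x, y⁆ * v := by group

end quot

section main

theorem tower_aux (hC : PQCoreStmt.{v}) : ∀ (n : ℕ) (H : Type v) [Group H] [Finite H]
    (s t ℓ w u : ℕ) [Fact ℓ.Prime] [Fact w.Prime] [Fact u.Prime] (σ τ : H) (V S R : Subgroup H),
    Nat.card V + Nat.card S + Nat.card R = n →
    FrobPair s t σ τ → w ≠ ℓ → w ≠ u → ℓ ≠ s → ℓ ≠ t → w ≠ s → w ≠ t → u ≠ s → u ≠ t →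
    IsEA ℓ V → IsPGroup w S → IsPGroup u R →
    Cfsg.Agent.Helper1.Shult.Inv σ τ V → Cfsg.Agent.Helper1.Shult.Inv σ τ S →
    Cfsg.Agent.Helper1.Shult.Inv σ τ R →
    S ≤ normalizer (V : Set H) → R ≤ normalizer (V : Set H) → R ≤ normalizer (S : Set H) →
    Fix σ τ V = ⊥ → Fix σ τ S = ⊥ → Fix σ τ R = ⊥ →
    ⁅S, R⁆ ≤ centralizer (V : Set H) := by
  intro n
  induction n using Nat.strong_induction_on with
  | _ n ih =>
    intro H _ _ s t ℓ w u _ _ _ σ τ V S R hn hF hwℓ hwu hℓs hℓt hws hwt hus hut hV hS hR hVi hSi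
      hRi hSV hRV hRS hfV hfS hfR
    by_contra hcon
    -- (a) the kernel is trivial
    have hK : S ⊓ centralizer (V : Set H) = ⊥ := by
      by_contra hK1
      have hKS : S ⊓ centralizer (V : Set H) ≤ S := inf_le_left
      have hKw : IsPGroup w ↥(S ⊓ centralizer (V : Set H)) := hS.to_le hKS
      have hKi : Cfsg.Agent.Helper1.Shult.Inv σ τ (S ⊓ centralizer (V : Set H)) :=
        inv_of_inf hSi (inv_of_centralizer hVi)
      have hVK : V ≤ normalizer ((S ⊓ centralizer (V : Set H) : Subgroup H) : Set H) := by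
        intro v hv
        apply Subgroup.centralizer_le_normalizer
        rw [mem_centralizer_iff]
        intro k hk
        have h1 := (mem_inf.mp hk).2
        rw [mem_centralizer_iff] at h1
        exact (h1 v hv).symm
      have hSK : S ≤ normalizer ((S ⊓ centralizer (V : Set H) : Subgroup H) : Set H) :=
        fun x hx => mem_normalizer_inf (le_normalizer hx) (mem_normalizer_centralizer (hSV hx))
      have hRK : R ≤ normalizer ((S ⊓ centralizer (V : Set H) : Subgroup H) : Set H) :=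
        fun y hy => mem_normalizer_inf (hRS hy) (mem_normalizer_centralizer (hRV hy))
      have hVinf : V ⊓ (S ⊓ centralizer (V : Set H)) = ⊥ :=
        inf_eq_bot_of_pgroups hwℓ.symm (isPGroup_of_isEA hV) hKw
      have hRinf : R ⊓ (S ⊓ centralizer (V : Set H)) = ⊥ :=
        inf_eq_bot_of_pgroups hwu.symm hR hKw
      have hcop : (Nat.card ↥(S ⊓ centralizer (V : Set H))).Coprime (s * t) :=
        card_coprime_of_pgroup hKw hF.hs hF.ht hws hwt
      have hlt : Nat.card (QI.img (S ⊓ centralizer (V : Set H)) V) +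
          Nat.card (QI.img (S ⊓ centralizer (V : Set H)) S) +
          Nat.card (QI.img (S ⊓ centralizer (V : Set H)) R) < n := by
        rw [← hn, QI.card_img hVK hVinf, QI.card_img hRK hRinf]
        have := card_img_lt hSK hKS hK1
        omega
      have key := ih _ hlt (QI.Quo (S ⊓ centralizer (V : Set H))) s t ℓ w u
        (QI.proj _ ⟨σ, hKi.1⟩) (QI.proj _ ⟨τ, hKi.2⟩)
        (QI.img _ V) (QI.img _ S) (QI.img _ R) rfl
        (frobPair_img hF hKw hws hwt hKi.1 hKi.2) hwℓ hwu hℓs hℓt hws hwt hus hut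
        (isEA_img hV) (QI.isPGroup_img hS) (QI.isPGroup_img hR)
        (inv_img hKi.1 hKi.2 hVi) (inv_img hKi.1 hKi.2 hSi) (inv_img hKi.1 hKi.2 hRi)
        (QI.img_le_normalizer hSV) (QI.img_le_normalizer hRV) (QI.img_le_normalizer hRS)
        (fix_img_of_inf_eq_bot hKi.1 hKi.2 hVK hVi hVinf hfV)
        (fix_img_of_le hF hKi.1 hKi.2 hKS hcop hfS)
        (fix_img_of_inf_eq_bot hKi.1 hKi.2 hRK hRi hRinf hfR)
      exact hcon (comm_le_centralizer_of_img hVK hSK hRK hSV hRV hVinf key)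
    -- a general consequence of the induction hypothesis with the same `V`
    have hsub : ∀ S2 R2 : Subgroup H, S2 ≤ S → R2 ≤ R → (S2 ≠ S ∨ R2 ≠ R) →
        Cfsg.Agent.Helper1.Shult.Inv σ τ S2 → Cfsg.Agent.Helper1.Shult.Inv σ τ R2 →
        R2 ≤ normalizer (S2 : Set H) → ⁅S2, R2⁆ = ⊥ := by
      intro S2 R2 hS2 hR2 hne hS2i hR2i hR2S2
      have hlt : Nat.card V + Nat.card S2 + Nat.card R2 < n := by
        rw [← hn]
        have h1 := Subgroup.card_le_of_le hS2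
        have h2 := Subgroup.card_le_of_le hR2
        rcases hne with h | h
        · have := card_lt_of_le_of_ne hS2 h
          omega
        · have := card_lt_of_le_of_ne hR2 h
          omega
      have key := ih _ hlt H s t ℓ w u σ τ V S2 R2 rfl hF hwℓ hwu hℓs hℓt hws hwt hus hut hV
        (hS.to_le hS2) (hR.to_le hR2) hVi hS2i hR2i (hS2.trans hSV) (hR2.trans hRV) hR2S2 hfV
        (le_bot_iff.mp ((fix_mono hS2).trans hfS.le)) (le_bot_iff.mp ((fix_mono hR2).trans hfR.le))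
      rw [eq_bot_iff, ← hK]
      exact le_inf ((commutator_le_left_of_normalizer hR2S2).trans hS2) key
    have hSRS : ⁅S, R⁆ ≤ S := commutator_le_left_of_normalizer hRS
    -- (b) `S = [S, R]`
    have hQR : S ≤ ⁅S, R⁆ := by
      by_contra hne
      have hne' : ⁅S, R⁆ ≠ S := fun h => hne h.ge
      have h1 : ⁅⁅S, R⁆, R⁆ = ⊥ :=
        hsub ⁅S, R⁆ R hSRS le_rfl (Or.inl hne') (inv_of_commutator hSi hRi) hRi
          (fun y hy => mem_normalizer_commutator (hRS hy) (le_normalizer hy))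
      have h2 : ⁅S, R⁆ = ⊥ :=
        Cfsg.Agent.Helper75.ShultNil.comm_eq_bot_of_comm_comm_eq_bot hS
          (card_coprime_of_pgroups hR hwu.symm) hRS h1
      apply hcon
      rw [h2]
      exact bot_le
    have hSne : S ≠ ⊥ := by
      intro h
      apply hcon
      have : ⁅S, R⁆ = ⊥ := le_bot_iff.mp (hSRS.trans h.le)
      rw [this]
      exact bot_le
    -- (c) the minimal counterexample is a core configuration
    refine hC H s t ℓ w u σ τ V S R
      { hF := hF, hwℓ := hwℓ, hwu := hwu, hℓs := hℓs, hℓt := hℓt, hws := hws, hwt := hwt, hus := hus,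
        hut := hut, hV := hV, hQ := hS, hR := hR, hVinv := hVi, hQinv := hSi, hRinv := hRi,
        hQV := hSV, hRV := hRV, hRQ := hRS, hfixV := hfV, hfixQ := hfS, hfixR := hfR, hfaith := hK,
        hQne := hSne, hQR := hQR, hminQ := ?_, hminR := ?_, hminV := ?_ }
    · intro Q2 hQ2 hne hQ2i hRQ2
      have := hsub Q2 R hQ2 le_rfl (Or.inl hne) hQ2i hRi hRQ2
      exact (Subgroup.commutator_eq_bot_iff_le_centralizer).mp this
    · intro R2 hR2 hne hR2i
      have := hsub S R2 le_rfl hR2 (Or.inr hne) hSi hR2i (hR2.trans hRS)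
      rw [Subgroup.commutator_comm] at this
      exact (Subgroup.commutator_eq_bot_iff_le_centralizer).mp this
    · intro V2 hV2 hne hV2i hSV2 hRV2
      have hlt : Nat.card V2 + Nat.card S + Nat.card R < n := by
        rw [← hn]
        have := card_lt_of_le_of_ne hV2 hne
        omega
      have key := ih _ hlt H s t ℓ w u σ τ V2 S R rfl hF hwℓ hwu hℓs hℓt hws hwt hus hut
        (isEA_mono hV2 hV) hS hR hV2i hSi hRi hSV2 hRV2 hRS
        (le_bot_iff.mp ((fix_mono hV2).trans hfV.le)) hfS hfR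
      exact hQR.trans key

/-- **(TW)** of #5134: the tower lemma from the core. -/
theorem tower_of_core (hC : PQCoreStmt.{v}) : PQTowerStmt.{v} := by
  intro H _ _ s t ℓ w u _ _ _ σ τ V S R hF hwℓ hwu hℓs hℓt hws hwt hus hut hV hS hR hVi hSi hRi
    hSV hRV hRS hfV hfS hfR
  exact tower_aux hC _ H s t ℓ w u σ τ V S R rfl hF hwℓ hwu hℓs hℓt hws hwt hus hut hV hS hR hVi
    hSi hRi hSV hRV hRS hfV hfS hfR

end main

end Cfsg.Agent.Helper1.PQ
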