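import Mathlib

/-!
# Quadratic action: the ring-theoretic core (helper1)

`map_eq_zero_of_mul_self_eq_zero`: in the image of a commutative semisimple ring, `z * z = 0 → z = 0`.
`quadratic_core`: if `a * a = 0` in an `F`-algebra `E` (`2 ≠ 0` in `F`), `ρ : Q →* E` is a
representation of a finite commutative group with `|Q| ≠ 0` in `F`, and `1 + a` normalizes `ρ Q`,
then `a` commutes with `ρ Q`.
-/

set_option autoImplicit false

namespace Cfsg.Agent.Helper1

theorem map_eq_zero_of_mul_self_eq_zero {A E : Type*} [CommRing A] [IsSemisimpleRing A] [Ring E]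
    (f : A →+* E) (z : A) (h : f z * f z = 0) : f z = 0 := by
  have hss : IsSemisimpleRing (A ⧸ RingHom.ker f) :=
    RingHom.isSemisimpleRing_of_surjective (Ideal.Quotient.mk (RingHom.ker f))
      Ideal.Quotient.mk_surjective
  have hinj := RingHom.kerLift_injective f
  have h1 : RingHom.kerLift f (Ideal.Quotient.mk _ z * Ideal.Quotient.mk _ z) = 0 := by
    rw [map_mul, RingHom.kerLift_mk, h]
  have h2 : Ideal.Quotient.mk (RingHom.ker f) z * Ideal.Quotient.mk _ z = 0 :=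
    hinj (by rw [h1, map_zero])
  have h3 : IsNilpotent (Ideal.Quotient.mk (RingHom.ker f) z) := ⟨2, by rw [pow_two, h2]⟩
  have h4 : Ideal.Quotient.mk (RingHom.ker f) z = 0 := h3.eq_zero
  have h5 := congrArg (RingHom.kerLift f) h4
  rwa [RingHom.kerLift_mk, map_zero] at h5

theorem quadratic_core {F : Type*} [Field F] {Q : Type*} [CommGroup Q] [Finite Q]
    [NeZero (Nat.card Q : F)] (h2 : (2 : F) ≠ 0) {E : Type*} [Ring E] [Algebra F E]
    (ρ : Q →* E) (a : E) (ha : a * a = 0)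
    (hσ : ∀ y : Q, ∃ y' : Q, (1 - a) * ρ y * (1 + a) = ρ y')
    (hτ : ∀ y : Q, ∃ y' : Q, (1 + a) * ρ y * (1 - a) = ρ y') :
    ∀ y : Q, ρ y * a = a * ρ y := by
  classical
  let f : MonoidAlgebra F Q →ₐ[F] E := MonoidAlgebra.lift F E Q ρ
  have hf : ∀ y : Q, f (MonoidAlgebra.of F Q y) = ρ y := fun y => by
    simp [f]
  have h2E : (algebraMap F E (2 : F)) = (2 : E) := map_ofNat (algebraMap F E) 2
  have hinv : algebraMap F E ((2 : F)⁻¹) * 2 = 1 := by
    rw [← h2E, ← map_mul, inv_mul_cancel₀ h2, map_one]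
  -- first: a ρ(y) a = 0
  have hd : ∀ y : Q, a * ρ y * a = 0 := by
    intro y
    obtain ⟨y1, h1⟩ := hσ y
    obtain ⟨y2, h2'⟩ := hτ y
    have hsum : (2 : E) * (a * ρ y * a) = 2 * ρ y - (ρ y1 + ρ y2) := by
      rw [← h1, ← h2']; noncomm_ring
    have hexp : a * ρ y * a = f (MonoidAlgebra.of F Q y -
        (2 : F)⁻¹ • (MonoidAlgebra.of F Q y1 + MonoidAlgebra.of F Q y2)) := by
      rw [map_sub, map_smul, map_add, hf, hf, hf, Algebra.smul_def]
      have : a * ρ y * a = algebraMap F E ((2 : F)⁻¹) * 2 * (a * ρ y * a) := by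
        rw [hinv, one_mul]
      rw [this, mul_assoc, hsum, mul_sub, ← mul_assoc, hinv, one_mul]
    have hsq : (a * ρ y * a) * (a * ρ y * a) = 0 := by
      calc (a * ρ y * a) * (a * ρ y * a) = a * ρ y * (a * a) * ρ y * a := by noncomm_ring
        _ = 0 := by rw [ha]; simp
    rw [hexp] at hsq ⊢
    exact map_eq_zero_of_mul_self_eq_zero f.toRingHom _ hsq
  intro y
  obtain ⟨y1, h1⟩ := hσ y
  obtain ⟨y2, h2'⟩ := hτ y
  have hdiff : (2 : E) * (ρ y * a - a * ρ y) = ρ y1 - ρ y2 := by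
    rw [← h1, ← h2']; noncomm_ring
  have hexp : ρ y * a - a * ρ y = f ((2 : F)⁻¹ • (MonoidAlgebra.of F Q y1 - MonoidAlgebra.of F Q y2)) := by
    rw [map_smul, map_sub, hf, hf, Algebra.smul_def, ← hdiff, ← mul_assoc, hinv, one_mul]
  have hsq : (ρ y * a - a * ρ y) * (ρ y * a - a * ρ y) = 0 := by
    have e1 : (ρ y * a - a * ρ y) * (ρ y * a - a * ρ y) =
        ρ y * (a * ρ y * a) - ρ y * (a * a) * ρ y - a * (ρ y * ρ y) * a + (a * ρ y * a) * ρ y := by
      noncomm_ring
    rw [e1, hd y, ha, ← map_mul, hd (y * y)]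
    simp
  rw [hexp] at hsq
  have := map_eq_zero_of_mul_self_eq_zero f.toRingHom _ hsq
  have h0 : ρ y * a - a * ρ y = 0 := by rw [hexp]; exact this
  exact sub_eq_zero.mp h0

end Cfsg.Agent.Helper1
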