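import Cfsg.Agent.Helper1.QuadCore

/-!
# Quadratic action: representation form (helper1)

`quadratic_rep`: let `θ : G →* End_{F_p}(W)`, `p` odd, `x : G` with `(θ x - 1)^2 = 0`, and `K ≤ G` a finite
subgroup normalized by `x` whose image under `θ` is commutative and of exponent prime to `p`.  Then `θ x`
commutes with `θ k` for every `k ∈ K`.
-/

set_option autoImplicit false

namespace Cfsg.Agent.Helper1

theorem one_add_mul_one_sub {R : Type*} [Ring R] (a : R) (h : a * a = 0) :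
    (1 + a) * (1 - a) = 1 := by
  have : (1 + a) * (1 - a) = 1 - a * a := by noncomm_ring
  rw [this, h, sub_zero]

theorem quadratic_rep {p : ℕ} [hp : Fact p.Prime] (hp2 : p ≠ 2) {G : Type*} [Group G]
    {W : Type*} [AddCommGroup W] [Module (ZMod p) W] (θ : G →* Module.End (ZMod p) W) (x : G)
    (hquad : (θ x - 1) * (θ x - 1) = 0) (K : Subgroup G) [Finite K]
    (hxK : ∀ k ∈ K, x⁻¹ * k * x ∈ K ∧ x * k * x⁻¹ ∈ K)
    (hcomm : ∀ k ∈ K, ∀ k' ∈ K, θ k * θ k' = θ k' * θ k)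
    (m : ℕ) (hm : m.Coprime p) (hpow : ∀ k ∈ K, θ k ^ m = 1) :
    ∀ k ∈ K, θ k * θ x = θ x * θ k := by
  classical
  set E := Module.End (ZMod p) W with hE
  let θu : G →* Eˣ := θ.toHomUnits
  have hθu : ∀ g : G, ((θu g : Eˣ) : E) = θ g := fun g => MonoidHom.coe_toHomUnits θ g
  let φ : ↥K →* Eˣ := θu.comp K.subtype
  let Q : Subgroup Eˣ := φ.range
  have hQfin : Finite ↥Q := Finite.of_surjective φ.rangeRestrict φ.rangeRestrict_surjective
  have hmem : ∀ k : ↥K, φ k ∈ Q := fun k => MonoidHom.mem_range.mpr ⟨k, rfl⟩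
  have hQcomm : ∀ a b : ↥Q, a * b = b * a := by
    rintro ⟨a, k, rfl⟩ ⟨b, k', rfl⟩
    apply Subtype.ext
    apply Units.ext
    show ((φ k * φ k' : Eˣ) : E) = ((φ k' * φ k : Eˣ) : E)
    rw [Units.val_mul, Units.val_mul]
    show ((θu k : Eˣ) : E) * ((θu k' : Eˣ) : E) = ((θu k' : Eˣ) : E) * ((θu k : Eˣ) : E)
    rw [hθu, hθu]
    exact hcomm k k.2 k' k'.2
  let _ : CommGroup ↥Q := { (inferInstance : Group ↥Q) with mul_comm := hQcomm }
  have hQpow : ∀ a : ↥Q, a ^ m = 1 := by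
    rintro ⟨a, k, rfl⟩
    apply Subtype.ext
    apply Units.ext
    show ((φ k ^ m : Eˣ) : E) = 1
    rw [Units.val_pow_eq_pow_val]
    show ((θu k : Eˣ) : E) ^ m = 1
    rw [hθu]
    exact hpow k k.2
  have hndvd : ¬ p ∣ Nat.card ↥Q := by
    intro hdvd
    obtain ⟨a, ha⟩ := exists_prime_orderOf_dvd_card' (G := ↥Q) p hdvd
    have h1 : orderOf a ∣ m := orderOf_dvd_of_pow_eq_one (hQpow a)
    rw [ha] at h1
    have := Nat.Coprime.eq_one_of_dvd hm.symm h1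
    exact hp.out.one_lt.ne' this
  have : NeZero (Nat.card ↥Q : ZMod p) := ⟨by
    intro h0
    exact hndvd ((ZMod.natCast_eq_zero_iff _ _).mp h0)⟩
  have h2 : (2 : ZMod p) ≠ 0 := by
    intro h0
    have h1 : ((2 : ℕ) : ZMod p) = 0 := by exact_mod_cast h0
    have h3 := (ZMod.natCast_eq_zero_iff _ _).mp h1
    exact hp2 ((Nat.prime_dvd_prime_iff_eq hp.out Nat.prime_two).mp h3)
  let ρ : ↥Q →* E := (Units.coeHom E).comp Q.subtype
  have hρ : ∀ (k : G) (hk : k ∈ K), ρ ⟨φ ⟨k, hk⟩, hmem ⟨k, hk⟩⟩ = θ k := by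
    intro k hk
    show ((θu k : Eˣ) : E) = θ k
    exact hθu k
  set a : E := θ x - 1 with ha
  have h1a : 1 + a = θ x := by rw [ha]; exact add_sub_cancel 1 (θ x)
  have h1a' : 1 - a = θ x⁻¹ := by
    have e1 : θ x⁻¹ * θ x = 1 := by rw [← map_mul, inv_mul_cancel, map_one]
    have e2 : (1 + a) * (1 - a) = 1 := one_add_mul_one_sub a hquad
    calc 1 - a = (θ x⁻¹ * θ x) * (1 - a) := by rw [e1, one_mul]
      _ = θ x⁻¹ * ((1 + a) * (1 - a)) := by rw [h1a, mul_assoc]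
      _ = θ x⁻¹ := by rw [e2, mul_one]
  have key := quadratic_core (F := ZMod p) (Q := ↥Q) h2 ρ a hquad
    (by
      rintro ⟨y, ⟨k, hk⟩, rfl⟩
      refine ⟨⟨φ ⟨x⁻¹ * k * x, (hxK k hk).1⟩, hmem _⟩, ?_⟩
      rw [hρ _ (hxK k hk).1]
      show (1 - a) * ρ ⟨φ ⟨k, hk⟩, hmem ⟨k, hk⟩⟩ * (1 + a) = _
      rw [hρ k hk, h1a, h1a', ← map_mul, ← map_mul])
    (by
      rintro ⟨y, ⟨k, hk⟩, rfl⟩
      refine ⟨⟨φ ⟨x * k * x⁻¹, (hxK k hk).2⟩, hmem _⟩, ?_⟩
      rw [hρ _ (hxK k hk).2]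
      show (1 + a) * ρ ⟨φ ⟨k, hk⟩, hmem ⟨k, hk⟩⟩ * (1 - a) = _
      rw [hρ k hk, h1a, h1a', ← map_mul, ← map_mul])
  intro k hk
  have h3 := key ⟨φ ⟨k, hk⟩, hmem _⟩
  rw [hρ k hk] at h3
  have h4 : θ x = 1 + a := h1a.symm
  rw [h4, mul_add, add_mul, mul_one, one_mul, h3]

end Cfsg.Agent.Helper1
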