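import Cfsg.Agent.Helper1.QuadRep

/-!
# Quadratic action: group form (helper1)

`quadratic_mulAut`: a group `G` acting on an elementary abelian `p`-group `U` (`p` odd), `x : G` acting
quadratically, `K ≤ G` finite, normalized by `x`, acting on `U` as a commutative group of exponent prime to `p`:
then `k x` and `x k` act in the same way for `k ∈ K`.

`quadratic_group`: the same for `V ⊴ G` an elementary abelian normal `p`-subgroup, acted on by conjugation.
-/

set_option autoImplicit false

namespace Cfsg.Agent.Helper1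

theorem quadratic_mulAut {p : ℕ} [hp : Fact p.Prime] (hp2 : p ≠ 2) {G : Type*} [Group G]
    {U : Type*} [CommGroup U] [Module (ZMod p) (Additive U)] (act : G →* MulAut U) (x : G)
    (hquad : ∀ u : U, act x (act x u / u) = act x u / u)
    (K : Subgroup G) [Finite K] (hxK : ∀ k ∈ K, x⁻¹ * k * x ∈ K ∧ x * k * x⁻¹ ∈ K)
    (hcomm : ∀ k ∈ K, ∀ k' ∈ K, act (k * k') = act (k' * k))
    (m : ℕ) (hm : m.Coprime p) (hpow : ∀ k ∈ K, act (k ^ m) = 1) :
    ∀ k ∈ K, act (k * x) = act (x * k) := by
  classical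
  let θ : G →* Module.End (ZMod p) (Additive U) :=
    { toFun := fun g => AddMonoidHom.toZModLinearMap p (MonoidHom.toAdditive (act g).toMonoidHom)
      map_one' := by
        apply LinearMap.ext
        intro w
        rw [map_one]
        rfl
      map_mul' := by
        intro g h
        apply LinearMap.ext
        intro w
        rw [map_mul]
        rfl }
  have hθ : ∀ (g : G) (u : U), θ g (Additive.ofMul u) = Additive.ofMul (act g u) := fun _ _ => rfl
  have hθeq : ∀ (g h : G), act g = act h → θ g = θ h := by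
    intro g h hgh
    apply LinearMap.ext
    intro w
    obtain ⟨u, rfl⟩ := Additive.ofMul.surjective w
    rw [hθ, hθ, hgh]
  have hθeq' : ∀ (g h : G), θ g = θ h → act g = act h := by
    intro g h hgh
    ext u
    have h1 := congrArg (fun f => f (Additive.ofMul u)) hgh
    simp only [hθ] at h1
    exact Additive.ofMul.injective h1
  have hq : (θ x - 1) * (θ x - 1) = 0 := by
    apply LinearMap.ext
    intro w
    obtain ⟨v, rfl⟩ := Additive.ofMul.surjective w
    have e1 : ∀ u : U, (θ x - 1) (Additive.ofMul u) = Additive.ofMul (act x u / u) := by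
      intro u
      rw [LinearMap.sub_apply, hθ]
      rfl
    rw [Module.End.mul_apply, e1, e1, hquad, div_self']
    rfl
  have key := quadratic_rep hp2 θ x hq K hxK
    (fun k hk k' hk' => by
      rw [← map_mul, ← map_mul]
      exact hθeq _ _ (hcomm k hk k' hk'))
    m hm
    (fun k hk => by
      rw [← map_pow, ← map_one θ]
      apply hθeq
      rw [hpow k hk, map_one])
  intro k hk
  have h1 := key k hk
  rw [← map_mul, ← map_mul] at h1
  exact hθeq' _ _ h1

theorem quadratic_group {G : Type*} [Group G] {p : ℕ} [hp : Fact p.Prime] (hp2 : p ≠ 2)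
    (V : Subgroup G) [hVn : V.Normal] (hVc : ∀ u ∈ V, ∀ v ∈ V, u * v = v * u)
    (hVp : ∀ v ∈ V, v ^ p = 1) (x : G)
    (hquad : ∀ v ∈ V, x * (x * v * x⁻¹ * v⁻¹) * x⁻¹ = x * v * x⁻¹ * v⁻¹)
    (K : Subgroup G) [Finite K] (hxK : ∀ k ∈ K, x⁻¹ * k * x ∈ K ∧ x * k * x⁻¹ ∈ K)
    (hcomm : ∀ k ∈ K, ∀ k' ∈ K, ∀ v ∈ V, (k * k') * v * (k * k')⁻¹ = (k' * k) * v * (k' * k)⁻¹)
    (m : ℕ) (hm : m.Coprime p) (hpow : ∀ k ∈ K, ∀ v ∈ V, k ^ m * v * (k ^ m)⁻¹ = v) :
    ∀ k ∈ K, ∀ v ∈ V, (k * x) * v * (k * x)⁻¹ = (x * k) * v * (x * k)⁻¹ := by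
  classical
  letI cg : CommGroup ↥V :=
    { (inferInstance : Group ↥V) with mul_comm := fun a b => Subtype.ext (hVc a a.2 b b.2) }
  letI md : Module (ZMod p) (Additive ↥V) := AddCommGroup.zmodModule (n := p) (fun w => by
    have : Additive.toMul w ^ p = 1 := Subtype.ext (by
      rw [Subgroup.coe_pow, Subgroup.coe_one]; exact hVp _ (Additive.toMul w).2)
    calc p • w = Additive.ofMul (Additive.toMul w ^ p) := rfl
      _ = 0 := by rw [this]; rfl)
  have hact : ∀ (g : G) (v : ↥V), ((MulAut.conjNormal g v : ↥V) : G) = g * v * g⁻¹ :=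
    fun g v => MulAut.conjNormal_apply g v
  have hext : ∀ g h : G, (∀ v ∈ V, g * v * g⁻¹ = h * v * h⁻¹) →
      (MulAut.conjNormal g : MulAut ↥V) = MulAut.conjNormal h := by
    intro g h hgh
    ext v
    rw [hact, hact]
    exact hgh v v.2
  have hext' : ∀ g h : G, (MulAut.conjNormal g : MulAut ↥V) = MulAut.conjNormal h →
      ∀ v ∈ V, g * v * g⁻¹ = h * v * h⁻¹ := by
    intro g h hgh v hv
    have := congrArg (fun f : MulAut ↥V => ((f ⟨v, hv⟩ : ↥V) : G)) hgh
    simpa [hact] using this
  have key := quadratic_mulAut (p := p) hp2 (U := ↥V) (MulAut.conjNormal (H := V)) x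
    (by
      intro u
      apply Subtype.ext
      rw [hact, div_eq_mul_inv, Subgroup.coe_mul, Subgroup.coe_inv, hact]
      exact hquad u u.2)
    K hxK
    (fun k hk k' hk' => hext _ _ (hcomm k hk k' hk'))
    m hm
    (fun k hk => by
      rw [← map_one (MulAut.conjNormal (H := V))]
      apply hext
      intro v hv
      rw [hpow k hk v hv]; group)
  intro k hk v hv
  exact hext' _ _ (key k hk) v hv

end Cfsg.Agent.Helper1
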