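import Mathlib
import Cfsg.Agent.Helper46.RSp.Defs
import Cfsg.Agent.Helper13.SympGen2

/-!
# Piece (TVALL) of helper46's S2281 farm (#10462): `Q_{e_1}` and `Q_{f_1}` generate `Sp_{2n}(K)`
-/

set_option autoImplicit false
set_option linter.unusedSectionVars false
set_option linter.unusedVariables false

namespace Cfsg.Agent.Helper1.RSp

open Matrix Cfsg.Agent.Helper13 Cfsg.Agent.Helper46.RSp

variable {K : Type*} [Field K] {j : ℕ}

local notation "Vec" => (Fin (j + 3) ⊕ Fin (j + 3) → K)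
local notation "Mat" => Matrix (Fin (j + 3) ⊕ Fin (j + 3)) (Fin (j + 3) ⊕ Fin (j + 3)) K
local notation "Mk" => Matrix (Fin (j + 3)) (Fin (j + 3)) K
local notation "SpG" => Matrix.symplecticGroup (Fin (j + 3)) K
local notation "B" => Cfsg.sympForm (j + 3) K

/-- rescaling the vector of a transvection -/
theorem tvall_smul_zero (a : K) (v : Vec) (z : K) : eichS (a • v) 0 z = eichS v 0 (a ^ 2 * z) := by
  rw [eichS_smul_left, smul_zero]

/-- the part in `V'` of a vector -/
def tvPr (v : Vec) : Vec := fun x => if x = Sum.inl i1 then 0 else if x = Sum.inr i1 then 0 else v x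

theorem tvall_inV'_tvPr (v : Vec) : InV' (tvPr v) := by
  constructor
  · unfold tvPr
    rw [if_pos rfl]
  · unfold tvPr
    rw [if_neg (by intro h; cases h), if_pos rfl]

theorem tvall_eq_add (v : Vec) :
    v = v (Sum.inr i1) • (bF i1 : Vec) + tvPr v + v (Sum.inl i1) • (bE i1 : Vec) := by
  funext x
  rcases x with i | i
  · simp only [Pi.add_apply, Pi.smul_apply, smul_eq_mul, bF_apply_inl, bE_apply_inl, tvPr]
    by_cases h1 : i = i1
    · subst h1
      simp
    · have : (Sum.inl i : Fin (j + 3) ⊕ Fin (j + 3)) ≠ Sum.inl i1 := by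
        intro h; exact h1 (Sum.inl.inj h)
      simp [h1, this]
  · simp only [Pi.add_apply, Pi.smul_apply, smul_eq_mul, bF_apply_inr, bE_apply_inr, tvPr]
    by_cases h1 : i = i1
    · subst h1
      simp
    · have : (Sum.inr i : Fin (j + 3) ⊕ Fin (j + 3)) ≠ Sum.inr i1 := by
        intro h; exact h1 (Sum.inr.inj h)
      simp [h1, this]

theorem tvall_inV'_smul (a : K) {y : Vec} (hy : InV' y) : InV' (a • y) := by
  constructor
  · rw [Pi.smul_apply, hy.1, smul_zero]
  · rw [Pi.smul_apply, hy.2, smul_zero]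

/-- `E(e_1, y, μ) f_1 = f_1 + y + μ e_1` -/
theorem tvall_eich_e_f (y : Vec) (hy : InV' y) (μ : K) :
    eichS (bE i1) y μ *ᵥ (bF i1 : Vec) = (bF i1 : Vec) + y + μ • (bE i1 : Vec) := by
  rw [eichS_mulVec, form_bE_right, form_bF_left, bF_apply_inr, if_pos rfl, hy.1, one_smul, zero_smul,
    add_zero, mul_one]

/-- `E(f_1, y, μ) e_1 = e_1 - y - μ f_1` -/
theorem tvall_eich_f_e (y : Vec) (hy : InV' y) (μ : K) :
    eichS (bF i1) y μ *ᵥ (bE i1 : Vec) = (bE i1 : Vec) - y - μ • (bF i1 : Vec) := by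
  rw [eichS_mulVec, form_bF_right, form_bE_left, bE_apply_inl, if_pos rfl, hy.2, neg_zero, zero_smul,
    add_zero, mul_neg, mul_one, neg_smul, neg_smul, one_smul]
  abel

/-- transvections with a vector having a non-zero `f_1`-coordinate -/
theorem tvall_tv_f (H : Subgroup SpG)
    (he : ∀ (y : Vec) (z : K), InV' y → HasM H (eichS (bE i1) y z))
    (hf : ∀ (y : Vec) (z : K), InV' y → HasM H (eichS (bF i1) y z))
    (v : Vec) (z : K) (hα : v (Sum.inr i1) ≠ 0) : HasM H (eichS v 0 z) := by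
  set α : K := v (Sum.inr i1) with hαd
  set y : Vec := α⁻¹ • tvPr v with hyd
  set μ : K := α⁻¹ * v (Sum.inl i1) with hμd
  have hy : InV' y := tvall_inV'_smul _ (tvall_inV'_tvPr v)
  have hv' : v = α • ((bF i1 : Vec) + y + μ • (bE i1 : Vec)) := by
    conv_lhs => rw [tvall_eq_add v]
    rw [hyd, hμd, smul_add, smul_add, smul_smul, smul_smul, ← mul_assoc, mul_inv_cancel₀ hα, one_smul,
      one_mul]
  have hg := he y μ hy
  have hc := hf 0 (α ^ 2 * z) ⟨rfl, rfl⟩
  have h3 := hasM_conj_eichS hg hc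
  refine h3.of_eq ?_
  rw [Matrix.mulVec_zero, tvall_eich_e_f y hy μ, ← tvall_smul_zero, ← hv']

/-- transvections with a vector having a non-zero `e_1`-coordinate -/
theorem tvall_tv_e (H : Subgroup SpG)
    (he : ∀ (y : Vec) (z : K), InV' y → HasM H (eichS (bE i1) y z))
    (hf : ∀ (y : Vec) (z : K), InV' y → HasM H (eichS (bF i1) y z))
    (v : Vec) (z : K) (hα : v (Sum.inl i1) ≠ 0) : HasM H (eichS v 0 z) := by
  set α : K := v (Sum.inl i1) with hαd
  set y : Vec := (-α⁻¹) • tvPr v with hyd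
  set μ : K := -(α⁻¹ * v (Sum.inr i1)) with hμd
  have hy : InV' y := tvall_inV'_smul _ (tvall_inV'_tvPr v)
  have hv' : v = α • ((bE i1 : Vec) - y - μ • (bF i1 : Vec)) := by
    conv_lhs => rw [tvall_eq_add v]
    rw [hyd, hμd, smul_sub, smul_sub, smul_smul, smul_smul, mul_neg, mul_neg, ← mul_assoc,
      mul_inv_cancel₀ hα, neg_smul, neg_smul, one_smul, one_mul, sub_neg_eq_add, sub_neg_eq_add]
    abel
  have hg := hf y μ hy
  have hc := he 0 (α ^ 2 * z) ⟨rfl, rfl⟩
  have h3 := hasM_conj_eichS hg hc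
  refine h3.of_eq ?_
  rw [Matrix.mulVec_zero, tvall_eich_f_e y hy μ, ← tvall_smul_zero, ← hv']

/-- all transvections -/
theorem tvall_tv (H : Subgroup SpG)
    (he : ∀ (y : Vec) (z : K), InV' y → HasM H (eichS (bE i1) y z))
    (hf : ∀ (y : Vec) (z : K), InV' y → HasM H (eichS (bF i1) y z))
    (v : Vec) (z : K) : HasM H (eichS v 0 z) := by
  by_cases h1 : v (Sum.inr i1) ≠ 0
  · exact tvall_tv_f H he hf v z h1
  by_cases h2 : v (Sum.inl i1) ≠ 0
  · exact tvall_tv_e H he hf v z h2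
  rw [not_not] at h1 h2
  by_cases h0 : v = 0
  · rw [h0]
    refine (HasM.one H).of_eq ?_
    apply mat_ext_mulVec
    intro x
    rw [eichS_mulVec, Matrix.one_mulVec, sympForm_zero_right]
    simp
  -- `v ∈ V'`, non-zero: move it out of `V'`
  obtain ⟨x₀, hx₀⟩ : ∃ x₀, v x₀ ≠ 0 := by
    by_contra hcon
    apply h0
    funext x
    by_contra hx
    exact hcon ⟨x, hx⟩
  -- a vector `y' ∈ V'` with `B(v,y') ≠ 0`
  obtain ⟨y', hy', hvy'⟩ : ∃ y' : Vec, InV' y' ∧ B v y' ≠ 0 := by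
    rcases x₀ with l | l
    · have hl : l ≠ i1 := by
        intro h
        apply hx₀
        rw [h]
        exact h2
      refine ⟨bF l, ⟨?_, ?_⟩, ?_⟩
      · rw [bF_apply_inl]
      · rw [bF_apply_inr, if_neg (Ne.symm hl)]
      · rw [form_bF_right]
        exact neg_ne_zero.mpr hx₀
    · have hl : l ≠ i1 := by
        intro h
        apply hx₀
        rw [h]
        exact h1
      refine ⟨bE l, ⟨?_, ?_⟩, ?_⟩
      · rw [bE_apply_inl, if_neg (Ne.symm hl)]
      · rw [bE_apply_inr]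
      · rw [form_bE_right]
        exact hx₀
  obtain ⟨a, ha, ham⟩ := he y' 0 hy'
  have hgv : (a : Mat) *ᵥ v = v + B v y' • (bE i1 : Vec) := by
    rw [ham, eichS_mulVec, form_bE_right, h1, zero_smul, mul_zero, zero_smul, add_zero, add_zero]
  have hgv_e : ((a : Mat) *ᵥ v) (Sum.inl i1) ≠ 0 := by
    rw [hgv, Pi.add_apply, Pi.smul_apply, h2, bE_apply_inl, if_pos rfl, smul_eq_mul, mul_one, zero_add]
    exact hvy'
  have h3 := tvall_tv_e H he hf ((a : Mat) *ᵥ v) z hgv_e
  have h4 := hasM_conj_eichS (hasM_coe (inv_mem ha)) h3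
  refine h4.of_eq ?_
  rw [Matrix.mulVec_zero, Matrix.mulVec_mulVec, coe_inv_mul, Matrix.one_mulVec]

/-- (TVALL) `Q_{e_1}` and `Q_{f_1}` generate -/
theorem eq_top_of_Q (H : Subgroup SpG)
    (he : ∀ (y : Vec) (z : K), InV' y → HasM H (eichS (bE i1) y z))
    (hf : ∀ (y : Vec) (z : K), InV' y → HasM H (eichS (bF i1) y z)) : H = ⊤ := by
  rw [eq_top_iff, ← sympTransvectionSubgroup_eq_top]
  unfold sympTransvectionSubgroup
  rw [Subgroup.closure_le]
  rintro A ⟨w, c, hA⟩
  obtain ⟨x, hx, hxm⟩ := tvall_tv H he hf w c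
  have : x = A := by
    apply Subtype.ext
    rw [hxm, hA, eichS_zero_eq]
  rw [← this]
  exact hx

end Cfsg.Agent.Helper1.RSp
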