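import Mathlib
import Cfsg.Agent.Helper46.RSp.Defs

/-!
# Piece (UWP) of helper46's S2281 farm (#10461): the nilpotent part `N = UW' - 1`
-/

set_option autoImplicit false
set_option linter.unusedSectionVars false
set_option linter.unusedVariables false

namespace Cfsg.Agent.Helper1.RSp

open Matrix Cfsg.Agent.Helper13 Cfsg.Agent.Helper46.RSp

variable {K : Type*} [Field K] {j : ℕ}

local notation "Vec" => (Fin (j + 3) ⊕ Fin (j + 3) → K)
local notation "Mat" => Matrix (Fin (j + 3) ⊕ Fin (j + 3)) (Fin (j + 3) ⊕ Fin (j + 3)) K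
local notation "Mk" => Matrix (Fin (j + 3)) (Fin (j + 3)) K
local notation "SpG" => Matrix.symplecticGroup (Fin (j + 3)) K
local notation "B" => Cfsg.sympForm (j + 3) K

theorem uwp_eich_mulVec (c : K) (x : Vec) :
    eichS (bE iN) 0 c *ᵥ x = x + (c * x (Sum.inr iN)) • (bE iN : Vec) := by
  rw [eichS_mulVec, form_bE_right, sympForm_zero_right, smul_zero, zero_smul, add_zero, add_zero]

theorem uwp_MpM_mulVec (v : Fin (j + 3) → K) (i : Fin (j + 3)) :
    ((MpM : Mk) *ᵥ v) i = v i + ∑ l, if (1 ≤ i.val ∧ i.val < l.val) then v l else 0 := by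
  have h : ∀ l, (MpM : Mk) i l * v l =
      (if i = l then v l else 0) + (if (1 ≤ i.val ∧ i.val < l.val) then v l else 0) := by
    intro l
    unfold MpM
    rw [Matrix.of_apply]
    by_cases h1 : i = l
    · subst h1
      simp
    · rw [if_neg h1, if_neg h1, zero_add]
      split_ifs <;> simp
  rw [Matrix.mulVec, dotProduct, Finset.sum_congr rfl (fun l _ => h l), Finset.sum_add_distrib,
    Finset.sum_ite_eq, if_pos (Finset.mem_univ _)]

theorem uwp_MqM_mulVec (v : Fin (j + 3) → K) (i : Fin (j + 3)) :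
    ((MqM : Mk) *ᵥ v) i = v i + ∑ l, if (1 ≤ l.val ∧ l.val + 1 = i.val) then -v l else 0 := by
  have h : ∀ l, (MqM : Mk) i l * v l =
      (if i = l then v l else 0) + (if (1 ≤ l.val ∧ l.val + 1 = i.val) then -v l else 0) := by
    intro l
    unfold MqM
    rw [Matrix.of_apply]
    by_cases h1 : i = l
    · subst h1
      have : ¬ (1 ≤ i.val ∧ i.val + 1 = i.val) := by omega
      simp
    · rw [if_neg h1, if_neg h1, zero_add]
      split_ifs <;> simp
  rw [Matrix.mulVec, dotProduct, Finset.sum_congr rfl (fun l _ => h l), Finset.sum_add_distrib,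
    Finset.sum_ite_eq, if_pos (Finset.mem_univ _)]

theorem uwp_NU_inr (c : K) (x : Vec) (i : Fin (j + 3)) :
    NU c x (Sum.inr i) = ∑ l, if (1 ≤ l.val ∧ l.val + 1 = i.val) then -x (Sum.inr l) else 0 := by
  unfold NU UWM lvS
  rw [← Matrix.mulVec_mulVec, uwp_eich_mulVec, Matrix.fromBlocks_mulVec]
  simp only [Pi.sub_apply, Sum.elim_inr, Matrix.zero_mulVec, zero_add, Pi.add_apply]
  rw [uwp_MqM_mulVec]
  simp only [Function.comp_apply, Pi.add_apply, Pi.smul_apply, bE_apply_inr, smul_eq_mul, mul_zero,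
    add_zero]
  ring

theorem uwp_NU_inl (c : K) (x : Vec) (i : Fin (j + 3)) :
    NU c x (Sum.inl i) = (c * x (Sum.inr iN)) * (if i = iN then 1 else 0) +
      ∑ l, if (1 ≤ i.val ∧ i.val < l.val) then
        (x (Sum.inl l) + (c * x (Sum.inr iN)) * (if l = iN then 1 else 0)) else 0 := by
  unfold NU UWM lvS
  rw [← Matrix.mulVec_mulVec, uwp_eich_mulVec, Matrix.fromBlocks_mulVec]
  simp only [Pi.sub_apply, Sum.elim_inl, Matrix.zero_mulVec, add_zero, Pi.add_apply]
  rw [uwp_MpM_mulVec]
  simp only [Function.comp_apply, Pi.add_apply, Pi.smul_apply, bE_apply_inl, smul_eq_mul]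
  ring

theorem uwp_NU_inV0 (c : K) (x : Vec) : InV' (NU c x) := by
  constructor
  · rw [uwp_NU_inl]
    have h1 : (i1 : Fin (j + 3)) ≠ iN := by
      intro h
      have := congrArg Fin.val h
      simp only [i1, iN] at this
      omega
    rw [if_neg h1, mul_zero, zero_add]
    apply Finset.sum_eq_zero
    intro l _
    rw [if_neg]
    simp only [i1]
    omega
  · rw [uwp_NU_inr]
    apply Finset.sum_eq_zero
    intro l _
    rw [if_neg]
    simp only [i1]
    omega

/-! ### the three phases -/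

theorem uwp_f_step (c : K) (y : Vec) (k : ℕ)
    (hy : ∀ i : Fin (j + 3), i.val ≤ k → y (Sum.inr i) = 0) :
    (∀ i : Fin (j + 3), i.val ≤ k + 1 → NU c y (Sum.inr i) = 0) ∧
    (∀ (h : k + 2 < j + 3), NU c y (Sum.inr ⟨k + 2, h⟩) = - y (Sum.inr ⟨k + 1, by omega⟩)) := by
  constructor
  · intro i hi
    rw [uwp_NU_inr]
    apply Finset.sum_eq_zero
    intro l _
    split_ifs with h
    · rw [hy l (by omega), neg_zero]
    · rfl
  · intro h
    rw [uwp_NU_inr, Finset.sum_eq_single (⟨k + 1, by omega⟩ : Fin (j + 3))]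
    · rw [if_pos ⟨Nat.le_add_left 1 k, rfl⟩]
    · intro l _ hl
      rw [if_neg]
      intro h'
      apply hl
      apply Fin.ext
      simp only at h' ⊢
      omega
    · intro h'
      exact absurd (Finset.mem_univ _) h'

theorem uwp_phase1 (c : K) (x : Vec) (hx : InV' x) (k : ℕ) (hk : k + 1 < j + 3) :
    InV' ((NU c)^[k] x) ∧ (∀ i : Fin (j + 3), i.val ≤ k → ((NU c)^[k] x) (Sum.inr i) = 0) ∧
    ((NU c)^[k] x) (Sum.inr ⟨k + 1, hk⟩) = (-1) ^ k * x (Sum.inr i2) := by
  induction k with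
  | zero =>
    refine ⟨hx, ?_, ?_⟩
    · intro i hi
      have : i = i1 := by
        apply Fin.ext
        simp only [i1]
        omega
      rw [this]
      exact hx.2
    · rw [pow_zero, one_mul]
      rfl
  | succ k ih =>
    obtain ⟨h1, h2, h3⟩ := ih (by omega)
    rw [Function.iterate_succ_apply']
    obtain ⟨s1, s2⟩ := uwp_f_step c ((NU c)^[k] x) k h2
    refine ⟨uwp_NU_inV0 c _, s1, ?_⟩
    rw [s2 hk, h3, pow_succ]
    ring

theorem uwp_e_step (c : K) (y : Vec) (hyf : ∀ i, y (Sum.inr i) = 0) (m : ℕ)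
    (hm : ∀ i : Fin (j + 3), m < i.val → y (Sum.inl i) = 0) :
    (∀ i, NU c y (Sum.inr i) = 0) ∧ (∀ i : Fin (j + 3), m ≤ i.val → NU c y (Sum.inl i) = 0) ∧
    (∀ (h : m < j + 3) (h1 : 2 ≤ m), NU c y (Sum.inl ⟨m - 1, by omega⟩) = y (Sum.inl ⟨m, h⟩)) := by
  refine ⟨?_, ?_, ?_⟩
  · intro i
    rw [uwp_NU_inr]
    apply Finset.sum_eq_zero
    intro l _
    rw [hyf, neg_zero, ite_self]
  · intro i hi
    rw [uwp_NU_inl, hyf, mul_zero, zero_mul, zero_add]
    apply Finset.sum_eq_zero
    intro l _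
    split_ifs with h
    · rw [hm l (by omega), zero_mul, add_zero]
    · rw [hm l (by omega), zero_mul, add_zero]
    · rfl
  · intro h h1
    rw [uwp_NU_inl, hyf, mul_zero, zero_mul, zero_add,
      Finset.sum_eq_single (⟨m, h⟩ : Fin (j + 3))]
    · rw [if_pos (show 1 ≤ m - 1 ∧ m - 1 < m from ⟨by omega, by omega⟩), zero_mul, add_zero]
    · intro l _ hl
      split_ifs with h'
      · have : m < l.val := by
          have : l.val ≠ m := fun h'' => hl (Fin.ext h'')
          simp only at h'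
          omega
        rw [hm l this, zero_mul, add_zero]
      · have : m < l.val := by
          have : l.val ≠ m := fun h'' => hl (Fin.ext h'')
          simp only at h'
          omega
        rw [hm l this, zero_mul, add_zero]
      · rfl
    · intro h'
      exact absurd (Finset.mem_univ _) h'

theorem uwp_phase3 (c : K) (z : Vec) (hzf : ∀ i, z (Sum.inr i) = 0) (k : ℕ) (hk : k ≤ j + 1) :
    (∀ i, ((NU c)^[k] z) (Sum.inr i) = 0) ∧
    (∀ i : Fin (j + 3), j + 2 - k < i.val → ((NU c)^[k] z) (Sum.inl i) = 0) ∧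
    ((NU c)^[k] z) (Sum.inl ⟨j + 2 - k, by omega⟩) = z (Sum.inl iN) := by
  induction k with
  | zero =>
    refine ⟨hzf, ?_, rfl⟩
    intro i hi
    exfalso
    have := i.2
    omega
  | succ k ih =>
    obtain ⟨h1, h2, h3⟩ := ih (by omega)
    rw [Function.iterate_succ_apply']
    obtain ⟨s1, s2, s3⟩ := uwp_e_step c ((NU c)^[k] z) h1 (j + 2 - k) h2
    refine ⟨s1, ?_, ?_⟩
    · intro i hi
      exact s2 i (by omega)
    · have := s3 (by omega) (by omega)
      rw [h3] at this
      rw [← this]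
      congr 2

/-! ### the statements -/

theorem NU_inV' (c : K) (x : Vec) (hx : InV' x) : InV' (NU c x) := by
  constructor
  · rw [uwp_NU_inl]
    have h1 : (i1 : Fin (j + 3)) ≠ iN := by
      intro h
      have := congrArg Fin.val h
      simp only [i1, iN] at this
      omega
    rw [if_neg h1, mul_zero, zero_add]
    apply Finset.sum_eq_zero
    intro l _
    rw [if_neg]
    simp only [i1]
    omega
  · rw [uwp_NU_inr]
    apply Finset.sum_eq_zero
    intro l _
    rw [if_neg]
    simp only [i1]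
    omega

/-- the `f_2`-coefficient of `N x` vanishes -/
theorem NU_apply_f2 (c : K) (x : Vec) : NU c x (Sum.inr i2) = 0 := by
  rw [uwp_NU_inr]
  apply Finset.sum_eq_zero
  intro l _
  rw [if_neg]
  simp only [i2]
  omega

/-- `N^{2n-3} x = (-1)^{n} c x_{f_2} e_2` on `V'` -/
theorem NU_iter_top (c : K) (x : Vec) (hx : InV' x) :
    (NU c)^[2 * j + 3] x = ((-1 : K) ^ (j + 1) * c * x (Sum.inr i2)) • bE i2 := by
  have e : (NU c)^[2 * j + 3] x = (NU c)^[j + 1] (NU c ((NU c)^[j + 1] x)) := by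
    rw [show 2 * j + 3 = (j + 1) + ((j + 1) + 1) by omega, Function.iterate_add_apply,
      Function.iterate_succ_apply' (NU c) (j + 1) x]
  rw [e]
  obtain ⟨p1, p2, p3⟩ := uwp_phase1 c x hx (j + 1) (by omega)
  set y : Vec := (NU c)^[j + 1] x with hy
  obtain ⟨q1, _⟩ := uwp_f_step c y (j + 1) p2
  have hzf : ∀ i, NU c y (Sum.inr i) = 0 := by
    intro i
    apply q1
    have := i.2
    omega
  have hzN : NU c y (Sum.inl iN) = (-1 : K) ^ (j + 1) * c * x (Sum.inr i2) := by
    rw [uwp_NU_inl, if_pos rfl, mul_one]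
    have h0 : (∑ l : Fin (j + 3), if (1 ≤ (iN : Fin (j + 3)).val ∧ (iN : Fin (j + 3)).val < l.val) then
        (y (Sum.inl l) + (c * y (Sum.inr iN)) * (if l = iN then 1 else 0)) else 0) = 0 := by
      apply Finset.sum_eq_zero
      intro l _
      rw [if_neg]
      have := l.2
      simp only [iN]
      omega
    rw [h0, add_zero]
    have : y (Sum.inr iN) = (-1 : K) ^ (j + 1) * x (Sum.inr i2) := p3
    rw [this]
    ring
  set z : Vec := NU c y with hz
  obtain ⟨r1, r2, r3⟩ := uwp_phase3 c z hzf (j + 1) le_rfl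
  have hw0 : ((NU c)^[j + 1] z) (Sum.inl i1) = 0 := by
    rw [Function.iterate_succ_apply']
    exact (uwp_NU_inV0 c _).1
  funext a
  rcases a with i | i
  · rw [Pi.smul_apply, bE_apply_inl, smul_eq_mul]
    by_cases h1 : i = i2
    · rw [if_pos h1, mul_one, ← hzN, ← r3, h1]
      have hidx : (i2 : Fin (j + 3)) = ⟨j + 2 - (j + 1), by omega⟩ := by
        apply Fin.ext
        simp only [i2]
        omega
      rw [← hidx]
    · rw [if_neg h1, mul_zero]
      by_cases h0 : i = i1
      · rw [h0]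
        exact hw0
      · apply r2
        have a1 : i.val ≠ 1 := fun h => h1 (Fin.ext h)
        have a0 : i.val ≠ 0 := fun h => h0 (Fin.ext h)
        omega
  · rw [Pi.smul_apply, bE_apply_inr, smul_zero]
    exact r1 i

end Cfsg.Agent.Helper1.RSp
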