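import Cfsg.Agent.Helper1.ThompsonMain
import Cfsg.Agent.Lib.ZJ4
import Cfsg.Agent.Helper51.Card
import Cfsg.Agent.Helper51.Timmesfeld
import Cfsg.Agent.Helper51.NilAct
import Cfsg.Agent.Helper51.ElemAb

/-!
# The Thompson replacement theorem for abelian subgroups of largest order, and Thompson's normal
`p`-complement theorem for the abelian version of `J(P)`, `p` odd (helper1)

The proof of `replacement_comm` follows helper51's proof of S0607 (elementary abelian version).
-/

set_option autoImplicit false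
set_option linter.unusedSectionVars false
set_option linter.style.haveILetI false

namespace Cfsg.Agent.Helper1

open Subgroup Cfsg.Agent.Lib.ZJ Cfsg.Agent.Helper51
open scoped commutatorElement

universe u

/-- Replacement for abelian subgroups of largest order in a `p`-group: `A₀ = [V, A] C_A([V, A])`. -/
theorem replacement_comm {G : Type*} [Group G] [Finite G] {p : ℕ} [Fact p.Prime] (hG : IsPGroup p G)
    (V : Subgroup G) [V.Normal] (hV : IsMulCommutative V) (A : Subgroup G)
    (hA : A ∈ Cfsg.maxAbelianSubgroups G) :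
    (⁅V, A⁆ ⊔ (A ⊓ Subgroup.centralizer ((⁅V, A⁆ : Subgroup G) : Set G))) ∈ Cfsg.maxAbelianSubgroups G ∧
    ⁅⁅V, ⁅V, A⁆ ⊔ (A ⊓ Subgroup.centralizer ((⁅V, A⁆ : Subgroup G) : Set G))⁆,
      ⁅V, A⁆ ⊔ (A ⊓ Subgroup.centralizer ((⁅V, A⁆ : Subgroup G) : Set G))⁆ = ⊥ ∧
    (⁅V, A⁆ ≠ ⊥ → ⁅V, ⁅V, A⁆ ⊔ (A ⊓ Subgroup.centralizer ((⁅V, A⁆ : Subgroup G) : Set G))⁆ ≠ ⊥) := by
  obtain ⟨hAe, hAmax⟩ := hA
  have hVc : V ≤ centralizer (V : Set G) := le_centralizer_iff_isMulCommutative.mpr hV
  have hAc : A ≤ centralizer (A : Set G) := le_centralizer_iff_isMulCommutative.mpr hAe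
  have hAV : A ≤ normalizer (V : Set G) := by
    rw [normalizer_eq_top]; exact le_top
  have hab : ⁅A, A⁆ ≤ centralizer (V : Set G) := by
    rw [(commutator_eq_bot_iff_le_centralizer).mpr hAc]; exact bot_le
  have hsub : ∀ {X Y : Subgroup G}, IsMulCommutative Y → X ≤ Y → IsMulCommutative X := by
    intro X Y hY hXY
    apply le_centralizer_iff_isMulCommutative.mp
    exact hXY.trans ((le_centralizer_iff_isMulCommutative.mpr hY).trans (centralizer_le hXY))
  -- A ⊓ V ≤ C_V(A)
  have hAVc : A ⊓ V ≤ cD V A := le_inf inf_le_right (inf_le_left.trans hAc)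
  -- A is a best offender
  have hBO : ∀ B : Subgroup G, B ≤ A → mu V B ≤ mu V A := by
    intro B hBA
    have hBe : IsMulCommutative B := hsub hAe hBA
    have hCe : IsMulCommutative (cD V B) := hsub hV inf_le_left
    have hcomm : cD V B ≤ centralizer (B : Set G) := inf_le_right
    have hsup : IsMulCommutative ↥(B ⊔ cD V B) := by
      rw [sup_comm]; exact isMulCommutative_sup' hCe hBe hcomm
    have h1 : Nat.card ↥(B ⊔ cD V B) ≤ Nat.card A := hAmax _ hsup
    have h2 := card_mul_card_le_sup_mul_inf B (cD V B)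
    have h3 : B ⊓ cD V B ≤ cD V A :=
      (le_inf (inf_le_left.trans hBA) (inf_le_right.trans inf_le_left)).trans hAVc
    have h4 : Nat.card ↥(B ⊓ cD V B) ≤ Nat.card ↥(cD V A) := Subgroup.card_le_of_le h3
    calc Nat.card B * Nat.card (cD V B) ≤ Nat.card ↥(B ⊔ cD V B) * Nat.card ↥(B ⊓ cD V B) := h2
      _ ≤ Nat.card A * Nat.card (cD V A) := Nat.mul_le_mul h1 h4
  obtain ⟨hmu, hcD⟩ := timmesfeld_replacement V A hV hAV hab hBO V le_rfl
  set W : Subgroup G := ⁅V, A⁆ with hW
  set As : Subgroup G := A ⊓ centralizer (W : Set G) with hAs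
  have hWV : W ≤ V := by
    rw [hW]; exact commutator_le_left V A
  have hWe : IsMulCommutative W := hsub hV hWV
  have hAse : IsMulCommutative As := hsub hAe inf_le_left
  have hWAs : W ≤ centralizer (As : Set G) := le_centralizer_iff.mp inf_le_right
  have hA0e : IsMulCommutative ↥(W ⊔ As) := isMulCommutative_sup' hWe hAse hWAs
  -- C_V(A) ≤ A
  have hCA : cD V A ≤ A := by
    have hCe : IsMulCommutative (cD V A) := hsub hV inf_le_left
    have hsup : IsMulCommutative ↥(cD V A ⊔ A) :=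
      isMulCommutative_sup' hCe hAe inf_le_right
    have h1 : Nat.card ↥(cD V A ⊔ A) ≤ Nat.card A := hAmax _ hsup
    have h2 : A = cD V A ⊔ A := Subgroup.eq_of_le_of_card_ge le_sup_right h1
    exact le_sup_left.trans h2.symm.le
  have hCAs : cD V A ≤ As := le_inf hCA (inf_le_left.trans (hVc.trans (centralizer_le hWV)))
  have hA0 : W ⊔ As = As ⊔ cD V As := by
    rw [hcD]
    apply le_antisymm
    · exact sup_le (le_sup_left.trans le_sup_right) le_sup_left
    · exact sup_le le_sup_right (sup_le le_sup_left (hCAs.trans le_sup_right))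
  have hcard : Nat.card A ≤ Nat.card ↥(W ⊔ As) := by
    have h2 := card_mul_card_le_sup_mul_inf As (cD V As)
    have h3 : As ⊓ cD V As ≤ cD V A :=
      (le_inf (inf_le_left.trans inf_le_left) (inf_le_right.trans inf_le_left)).trans hAVc
    have h4 : Nat.card ↥(As ⊓ cD V As) ≤ Nat.card ↥(cD V A) := Subgroup.card_le_of_le h3
    have h5 : Nat.card A * Nat.card (cD V A) ≤ Nat.card ↥(W ⊔ As) * Nat.card (cD V A) := by
      calc Nat.card A * Nat.card (cD V A) = Nat.card As * Nat.card (cD V As) := hmu.symm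
        _ ≤ Nat.card ↥(As ⊔ cD V As) * Nat.card ↥(As ⊓ cD V As) := h2
        _ ≤ Nat.card ↥(W ⊔ As) * Nat.card (cD V A) := by
          rw [← hA0]; exact Nat.mul_le_mul le_rfl h4
    exact Nat.le_of_mul_le_mul_right h5 Nat.card_pos
  -- [V, A₀] ≤ W
  have hVA0 : ⁅V, W ⊔ As⁆ ≤ W := by
    rw [sup_comm]
    have hAsN : As ≤ normalizer (W : Set G) := inf_le_right.trans (centralizer_le_normalizer _)
    rw [commutator_sup_centralizer_eq (le_refl V) (hWV.trans hVc) hAsN]
    exact commutator_mono le_rfl inf_le_left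
  refine ⟨⟨hA0e, fun B hB => (hAmax B hB).trans hcard⟩, ?_, ?_⟩
  · apply le_bot_iff.mp
    have h1 : ⁅W, W ⊔ As⁆ = ⊥ := by
      rw [commutator_eq_bot_iff_le_centralizer, centralizer_sup]
      exact le_inf (hWV.trans (hVc.trans (centralizer_le hWV))) hWAs
    rw [← h1]
    exact commutator_mono hVA0 le_rfl
  · intro hne hbot
    apply hne
    have hVcent : V ≤ centralizer ((W ⊔ As : Subgroup G) : Set G) :=
      commutator_eq_bot_iff_le_centralizer.mp hbot
    have hVle : V ≤ cD V As := le_inf le_rfl (hVcent.trans (centralizer_le (by exact_mod_cast le_sup_right)))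
    rw [hcD] at hVle
    exact commutator_eq_bot_of_le_sup' hV hAV
      (exists_iterComm_eq_bot_of_isPGroup (hG.to_subgroup V) (hG.to_subgroup A) hAV) hVle

theorem goodComm_zpowers (K : Type u) [Group K] (x : K) : goodComm K (zpowers x) := by
  unfold goodComm
  infer_instance

theorem thompsonSubgroupAOf_eq_Jg {G : Type u} [Group G] (P : Subgroup G) :
    Cfsg.thompsonSubgroupAOf P = Jg goodComm P := by
  unfold Cfsg.thompsonSubgroupAOf Cfsg.thompsonSubgroupA Jg
  rw [map_sSup', ← maxGoodT_comm, image_map_subtype_maxGoodT intrinsic_comm]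

theorem repl_comm (p : ℕ) [hp : Fact p.Prime] : Repl goodComm.{u} p := by
  intro G _ _ P V hP hVP hPV hVc hVp A hA hAV
  -- pass to the group `↥P`
  rw [← image_map_subtype_maxGoodT intrinsic_comm] at hA
  obtain ⟨A', hA', rfl⟩ := hA
  rw [maxGoodT_comm] at hA'
  set V' := V.subgroupOf P with hV'
  haveI hV'n : V'.Normal := (Subgroup.normal_subgroupOf_iff_le_normalizer hVP).mpr hPV
  have hV'e : IsMulCommutative V' := by
    refine ⟨⟨fun a b => ?_⟩⟩
    apply Subtype.ext
    apply Subtype.ext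
    exact hVc _ (Subgroup.mem_subgroupOf.mp a.2) _ (Subgroup.mem_subgroupOf.mp b.2)
  haveI : Finite ↥P := inferInstance
  obtain ⟨h1, h2, h3⟩ := replacement_comm (G := ↥P) hP V' hV'e A' hA'
  set A₀ := ⁅V', A'⁆ ⊔ (A' ⊓ centralizer ((⁅V', A'⁆ : Subgroup ↥P) : Set ↥P)) with hA₀
  -- commuting of `V'` with a subgroup `B'` of `↥P` versus `B'.map ≤ C_G(V)`
  have hcent : ∀ B' : Subgroup ↥P, ⁅V', B'⁆ = ⊥ ↔ B'.map P.subtype ≤ centralizer (V : Set G) := by
    intro B'
    rw [Subgroup.commutator_eq_bot_iff_le_centralizer]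
    constructor
    · rintro h _ ⟨b, hb, rfl⟩
      rw [Subgroup.mem_centralizer_iff]
      intro v hv
      have h4 := h (show (⟨v, hVP hv⟩ : ↥P) ∈ V' from Subgroup.mem_subgroupOf.mpr hv)
      have h5 := (Subgroup.mem_centralizer_iff.mp h4) b hb
      exact (congrArg Subtype.val h5).symm
    · intro h v hv
      rw [Subgroup.mem_centralizer_iff]
      intro b hb
      have h4 := h (Subgroup.mem_map_of_mem P.subtype hb)
      have h5 := (Subgroup.mem_centralizer_iff.mp h4) (v : G) (Subgroup.mem_subgroupOf.mp hv)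
      exact Subtype.ext h5.symm
  refine ⟨A₀.map P.subtype, ?_, ?_, ?_⟩
  · rw [← image_map_subtype_maxGoodT intrinsic_comm, maxGoodT_comm]
    exact ⟨A₀, h1, rfl⟩
  · intro hle
    apply h3
    · intro hbot
      exact hAV ((hcent A').mp hbot)
    · exact (hcent A₀).mpr hle
  · rintro _ ⟨a, ha, rfl⟩ v hv
    have h4 : ⁅V', A₀⁆ ≤ centralizer (A₀ : Set ↥P) :=
      Subgroup.commutator_eq_bot_iff_le_centralizer.mp h2
    have hv' : (⟨v, hVP hv⟩ : ↥P) ∈ V' := Subgroup.mem_subgroupOf.mpr hv
    have h5 : ⁅a, (⟨v, hVP hv⟩ : ↥P)⁆ ∈ ⁅V', A₀⁆ := by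
      rw [Subgroup.commutator_comm]
      exact Subgroup.commutator_mem_commutator ha hv'
    have h6 := (Subgroup.mem_centralizer_iff.mp (h4 h5)) a ha
    rw [commutatorElement_def] at h6
    have h7 := congrArg Subtype.val h6
    simp only [Subgroup.coe_mul, Subgroup.coe_inv] at h7
    show (a : G) * ((a : G) * v * (a : G)⁻¹ * v⁻¹) * (a : G)⁻¹ = (a : G) * v * (a : G)⁻¹ * v⁻¹
    rw [h7]
    group

/-- **Thompson's normal `p`-complement theorem** (`p` odd), abelian version of `J(P)`. -/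
theorem thompson_npc_comm {G : Type u} [Group G] [Finite G] {p : ℕ} [Fact p.Prime] (hp2 : p ≠ 2)
    (P : Sylow p G)
    (hJ : Cfsg.HasNormalPComplement p
      ↥(normalizer (Cfsg.thompsonSubgroupAOf (P : Subgroup G) : Set G)))
    (hZ : Cfsg.HasNormalPComplement p
      ↥(centralizer (((P : Subgroup G) ⊓ centralizer (P : Set G) : Subgroup G) : Set G))) :
    Cfsg.HasNormalPComplement p G := by
  rw [thompsonSubgroupAOf_eq_Jg] at hJ
  exact thompson_npc hp2 intrinsic_comm (fun K _ x _ => goodComm_zpowers K x) (repl_comm p) P hJ hZ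

end Cfsg.Agent.Helper1
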