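import Mathlib
import Cfsg.Prelude.Def_LocalEven
import Cfsg.Agent.Helper1.Carter

/-!
# A criterion for `S₄` to be involved in a finite group (helper1)

If `W` has order `4`, `M` normalizes `W`, `W ∩ M = 1`, and `M` contains elements `s`, `d` acting
nontrivially on `W` with `s²`, `d³` acting trivially, then `W M / C_M(W) ≅ S₄`.
-/

set_option autoImplicit false
set_option linter.unusedSectionVars false
set_option linter.style.haveILetI false

namespace Cfsg.Agent.Helper1

open Subgroup

universe u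

theorem involves_perm4 {G : Type u} [Group G] [Finite G] (W M : Subgroup G)
    (hW : Nat.card W = 4) (hMW : M ≤ normalizer (W : Set G)) (hdisj : W ⊓ M = ⊥)
    (s d : G) (hs : s ∈ M) (hd : d ∈ M)
    (hs1 : s ∉ centralizer (W : Set G)) (hs2 : s * s ∈ centralizer (W : Set G))
    (hd1 : d ∉ centralizer (W : Set G)) (hd3 : d * d * d ∈ centralizer (W : Set G)) :
    Cfsg.Involves (Equiv.Perm (Fin 4)) G := by
  classical
  set K := W ⊔ M with hK
  set R := M ⊓ centralizer (W : Set G) with hR
  have hWK : W ≤ K := le_sup_left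
  have hMK : M ≤ K := le_sup_right
  have hRM : R ≤ M := inf_le_left
  have hRK : R ≤ K := hRM.trans hMK
  -- `K` normalizes `R`
  have hKR : K ≤ normalizer (R : Set G) := by
    apply sup_le
    · intro w hw
      apply mem_normalizer_of_conj_mem
      intro r hr
      have h1 := (Subgroup.mem_centralizer_iff.mp (Subgroup.mem_inf.mp hr).2) w hw
      have : w * r * w⁻¹ = r := by rw [h1, mul_inv_cancel_right]
      rw [this]; exact hr
    · intro m hm
      apply mem_normalizer_of_conj_mem
      intro r hr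
      obtain ⟨hr1, hr2⟩ := Subgroup.mem_inf.mp hr
      refine Subgroup.mem_inf.mpr ⟨M.mul_mem (M.mul_mem hm hr1) (M.inv_mem hm), ?_⟩
      rw [Subgroup.mem_centralizer_iff]
      intro w hw
      have h1 : m⁻¹ * w * m ∈ W := by
        have := (Subgroup.mem_normalizer_iff.mp (hMW (M.inv_mem hm)) w).mp hw
        simpa using this
      have h2 := (Subgroup.mem_centralizer_iff.mp hr2) _ h1
      calc w * (m * r * m⁻¹) = m * ((m⁻¹ * w * m) * r) * m⁻¹ := by group
        _ = m * (r * (m⁻¹ * w * m)) * m⁻¹ := by rw [h2]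
        _ = m * r * m⁻¹ * w := by group
  have hKW : K ≤ normalizer (W : Set G) := sup_le Subgroup.le_normalizer hMW
  haveI hRn : (R.subgroupOf K).Normal := (Subgroup.normal_subgroupOf_iff_le_normalizer hRK).mpr hKR
  haveI hWn : (W.subgroupOf K).Normal := (Subgroup.normal_subgroupOf_iff_le_normalizer hWK).mpr hKW
  haveI hRnM : (R.subgroupOf M).Normal :=
    (Subgroup.normal_subgroupOf_iff_le_normalizer hRM).mpr (hMK.trans hKR)
  -- complements
  have hcompl : IsComplement' (W.subgroupOf K) (M.subgroupOf K) := by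
    apply isComplement'_of_disjoint_and_mul_eq_univ
    · rw [disjoint_iff, eq_bot_iff]
      intro x hx
      obtain ⟨h1, h2⟩ := Subgroup.mem_inf.mp hx
      have h3 : (x : G) ∈ W ⊓ M :=
        Subgroup.mem_inf.mpr ⟨Subgroup.mem_subgroupOf.mp h1, Subgroup.mem_subgroupOf.mp h2⟩
      rw [hdisj, Subgroup.mem_bot] at h3
      exact Subgroup.mem_bot.mpr (Subtype.ext h3)
    · apply Set.eq_univ_of_forall
      intro x
      have hx : (x : G) ∈ ((W ⊔ M : Subgroup G) : Set G) := x.2
      rw [Subgroup.coe_mul_of_right_le_normalizer_left W M hMW] at hx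
      obtain ⟨w, hw, m, hm, hwm⟩ := hx
      exact ⟨⟨w, hWK hw⟩, Subgroup.mem_subgroupOf.mpr hw, ⟨m, hMK hm⟩,
        Subgroup.mem_subgroupOf.mpr hm, Subtype.ext hwm⟩
  have hidx : (M.subgroupOf K).index = 4 := by
    rw [hcompl.index_eq_card, card_subgroupOf_of_le hWK, hW]
  -- the core of `M` in `K`
  have hcore : (M.subgroupOf K).normalCore = R.subgroupOf K := by
    apply le_antisymm
    · intro c hc
      have hcM : c ∈ M.subgroupOf K := Subgroup.normalCore_le _ hc
      rw [Subgroup.mem_subgroupOf]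
      refine Subgroup.mem_inf.mpr ⟨Subgroup.mem_subgroupOf.mp hcM, ?_⟩
      rw [Subgroup.mem_centralizer_iff]
      intro w hw
      let w' : ↥K := ⟨w, hWK hw⟩
      have hw' : w' ∈ W.subgroupOf K := Subgroup.mem_subgroupOf.mpr hw
      have h1 : c * (w' * c⁻¹ * w'⁻¹) ∈ (M.subgroupOf K).normalCore :=
        Subgroup.mul_mem _ hc ((Subgroup.normalCore_normal _).conj_mem _ (Subgroup.inv_mem _ hc) w')
      have h2 : (c * w' * c⁻¹) * w'⁻¹ ∈ W.subgroupOf K :=
        Subgroup.mul_mem _ (hWn.conj_mem _ hw' c) (Subgroup.inv_mem _ hw')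
      have h3 : c * w' * c⁻¹ * w'⁻¹ ∈ W.subgroupOf K ⊓ M.subgroupOf K := by
        refine Subgroup.mem_inf.mpr ⟨h2, ?_⟩
        have : c * w' * c⁻¹ * w'⁻¹ = c * (w' * c⁻¹ * w'⁻¹) := by group
        rw [this]
        exact Subgroup.normalCore_le _ h1
      rw [hcompl.disjoint.eq_bot, Subgroup.mem_bot] at h3
      have h4 : c * w' = w' * c := by
        have : c * w' = (c * w' * c⁻¹ * w'⁻¹) * (w' * c) := by group
        rw [this, h3, one_mul]
      exact (congrArg Subtype.val h4).symm
    · exact Subgroup.normal_le_normalCore.mpr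
        (fun x hx => Subgroup.mem_subgroupOf.mpr (hRM (Subgroup.mem_subgroupOf.mp hx)))
  -- `6 ∣ |M : R|`
  have h6 : 6 ∣ R.relIndex M := by
    have hcard : R.relIndex M = Nat.card (↥M ⧸ R.subgroupOf M) := rfl
    rw [hcard]
    let π := QuotientGroup.mk' (R.subgroupOf M)
    have hs' : orderOf (π ⟨s, hs⟩) = 2 := by
      apply orderOf_eq_prime
      · rw [pow_two, ← map_mul]
        apply (QuotientGroup.eq_one_iff _).mpr
        rw [Subgroup.mem_subgroupOf]
        exact Subgroup.mem_inf.mpr ⟨M.mul_mem hs hs, hs2⟩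
      · intro h
        have h1 := (QuotientGroup.eq_one_iff _).mp h
        rw [Subgroup.mem_subgroupOf] at h1
        exact hs1 (Subgroup.mem_inf.mp h1).2
    have hd' : orderOf (π ⟨d, hd⟩) = 3 := by
      apply orderOf_eq_prime
      · rw [pow_succ, pow_two, ← map_mul, ← map_mul]
        apply (QuotientGroup.eq_one_iff _).mpr
        rw [Subgroup.mem_subgroupOf]
        exact Subgroup.mem_inf.mpr ⟨M.mul_mem (M.mul_mem hd hd) hd, hd3⟩
      · intro h
        have h1 := (QuotientGroup.eq_one_iff _).mp h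
        rw [Subgroup.mem_subgroupOf] at h1
        exact hd1 (Subgroup.mem_inf.mp h1).2
    have h2 : 2 ∣ Nat.card (↥M ⧸ R.subgroupOf M) := hs' ▸ orderOf_dvd_natCard _
    have h3 : 3 ∣ Nat.card (↥M ⧸ R.subgroupOf M) := hd' ▸ orderOf_dvd_natCard _
    exact Nat.Coprime.mul_dvd_of_dvd_of_dvd (by norm_num) h2 h3
  have h24 : 24 ∣ (R.subgroupOf K).index := by
    have h1 : R.relIndex M * M.relIndex K = R.relIndex K := Subgroup.relIndex_mul_relIndex R M K hRM hMK
    have h2 : M.relIndex K = 4 := hidx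
    have h3 : (R.subgroupOf K).index = R.relIndex K := rfl
    rw [h3, ← h1, h2]
    obtain ⟨k, hk⟩ := h6
    exact ⟨k, by rw [hk]; ring⟩
  -- the permutation representation on the cosets of `M`
  let φ := MulAction.toPermHom ↥K (↥K ⧸ M.subgroupOf K)
  have hker : φ.ker = R.subgroupOf K := by rw [← hcore, Subgroup.normalCore_eq_ker]
  have hcard4 : Nat.card (↥K ⧸ M.subgroupOf K) = 4 := hidx
  have hperm : Nat.card (Equiv.Perm (↥K ⧸ M.subgroupOf K)) = 24 := by
    rw [Nat.card_perm, hcard4]; rfl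
  have hsurj : Function.Surjective φ := by
    rw [← MonoidHom.range_eq_top]
    apply Subgroup.eq_top_of_le_card
    rw [hperm]
    have h1 : Nat.card φ.range = (R.subgroupOf K).index := by
      rw [← hker]
      exact (Nat.card_congr (QuotientGroup.quotientKerEquivRange φ).toEquiv).symm
    rw [h1]
    exact Nat.le_of_dvd (Nat.pos_of_ne_zero Subgroup.index_ne_zero_of_finite) h24
  have e1 : ↥K ⧸ R.subgroupOf K ≃* ↥K ⧸ φ.ker := QuotientGroup.quotientMulEquivOfEq hker.symm
  have e2 : ↥K ⧸ φ.ker ≃* Equiv.Perm (↥K ⧸ M.subgroupOf K) :=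
    QuotientGroup.quotientKerEquivOfSurjective φ hsurj
  have e3 : (↥K ⧸ M.subgroupOf K) ≃ Fin 4 := by
    haveI : Finite (↥K ⧸ M.subgroupOf K) := Nat.finite_of_card_ne_zero (by rw [hcard4]; norm_num)
    exact Finite.equivFinOfCardEq hcard4
  exact ⟨K, R, hRn, ⟨(e1.trans e2).trans e3.permCongrHom⟩⟩

end Cfsg.Agent.Helper1
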