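import Cfsg.Agent.Helper1.OffenderStruct
import Cfsg.Agent.Helper1.S4Section
import Cfsg.Agent.Helper1.CoprimeSylow

/-!
# From an `S₃`-configuration on a normal elementary abelian `2`-subgroup to an `S₄`-section (helper1)
-/

set_option autoImplicit false
set_option linter.unusedSectionVars false
set_option linter.style.haveILetI false

namespace Cfsg.Agent.Helper1

open Subgroup

universe u

variable {G : Type u} [Group G]

/-- the conjugation action of `G` on the normal subgroup `V` -/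
noncomputable abbrev actV (V : Subgroup G) [V.Normal] : G →* MulAut ↥V := MulAut.conjNormal (H := V)

theorem mem_ker_actV (V : Subgroup G) [V.Normal] (g : G) :
    g ∈ (actV V).ker ↔ g ∈ centralizer (V : Set G) := by
  rw [MonoidHom.mem_ker, Subgroup.mem_centralizer_iff]
  constructor
  · intro h v hv
    have h1 := congrArg (fun f : MulAut ↥V => ((f ⟨v, hv⟩ : ↥V) : G)) h
    simp only [MulAut.conjNormal_apply, MulAut.one_apply] at h1
    exact (mul_inv_eq_iff_eq_mul.mp h1).symm
  · intro h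
    ext v
    rw [MulAut.conjNormal_apply, MulAut.one_apply]
    have := h v v.2
    rw [← this, mul_inv_cancel_right]

/-- the induced faithful action of `G / C_G(V)` on `V` -/
noncomputable abbrev actQ (V : Subgroup G) [V.Normal] : G ⧸ (actV V).ker →* MulAut ↥V :=
  QuotientGroup.kerLift (actV V)

theorem actQ_mk (V : Subgroup G) [V.Normal] (g : G) (v : ↥V) :
    ((actQ V (g : G ⧸ (actV V).ker) v : ↥V) : G) = g * v * g⁻¹ := by
  rw [QuotientGroup.kerLift_mk, MulAut.conjNormal_apply]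

theorem actQ_injective (V : Subgroup G) [V.Normal] : Function.Injective (actQ V) :=
  QuotientGroup.kerLift_injective _

/-- normalizing the image of a subgroup of `↥V` -/
theorem mem_normalizer_map_of_actQ [Finite G] (V : Subgroup G) [V.Normal] (X : Subgroup ↥V) (g : G)
    (h : ∀ w ∈ X, actQ V (g : G ⧸ (actV V).ker) w ∈ X) :
    g ∈ normalizer ((X.map V.subtype : Subgroup G) : Set G) := by
  apply mem_normalizer_of_conj_mem
  rintro _ ⟨w, hw, rfl⟩
  refine ⟨actQ V (g : G ⧸ (actV V).ker) w, h w hw, ?_⟩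
  rw [Subgroup.coe_subtype, actQ_mk]

theorem mem_centralizer_map_iff_actQ (V : Subgroup G) [V.Normal] (X : Subgroup ↥V) (g : G) :
    g ∈ centralizer ((X.map V.subtype : Subgroup G) : Set G) ↔
      ∀ w ∈ X, actQ V (g : G ⧸ (actV V).ker) w = w := by
  rw [Subgroup.mem_centralizer_iff]
  constructor
  · intro h w hw
    apply Subtype.ext
    rw [actQ_mk]
    have := h (w : G) ⟨w, hw, rfl⟩
    rw [← this, mul_inv_cancel_right]
  · rintro h _ ⟨w, hw, rfl⟩
    have := congrArg Subtype.val (h w hw)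
    rw [actQ_mk] at this
    rw [Subgroup.coe_subtype]
    exact (mul_inv_eq_iff_eq_mul.mp this).symm

open Pointwise in
open scoped IsMulCommutative in
/-- an `S₃`-configuration on `V` gives an `S₄`-section of `G` -/
theorem involves_perm4_of_config [Finite G] (V : Subgroup G) [V.Normal] [IsMulCommutative ↥V]
    (a₀ y₀ : G)
    (c : S3Config (actQ V) (a₀ : G ⧸ (actV V).ker) (y₀ : G ⧸ (actV V).ker)) :
    Cfsg.Involves (Equiv.Perm (Fin 4)) G := by
  classical
  set N := (actV V).ker with hN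
  set y : G ⧸ N := (y₀ : G ⧸ N) with hy
  set a : G ⧸ N := (a₀ : G ⧸ N) with ha
  have hy3 : y * y * y = 1 := c.cube
  have hy3' : y ^ 3 = 1 := by rw [pow_succ, pow_two]; exact hy3
  have hord : orderOf y = 3 := orderOf_eq_prime hy3' c.y1
  have hyinv : y ^ 2 = y⁻¹ := by
    apply eq_inv_of_mul_eq_one_left
    rw [← pow_succ]; exact hy3'
  set WU := trKer (actQ V) y with hWU
  have hWU4 : Nat.card WU = 4 := c.card_trKer_eq
  set W := WU.map V.subtype with hW
  have hW4 : Nat.card W = 4 := by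
    rw [hW, Subgroup.card_map_of_injective V.subtype_injective]; exact hWU4
  -- conjugation by `a` inverts `⟨y⟩`
  have hainv : ∀ z ∈ zpowers y, MulAut.conj a z = z⁻¹ := by
    intro z hz
    obtain ⟨k, rfl⟩ := mem_zpowers_iff.mp hz
    rw [map_zpow, c.inv, inv_zpow]
  -- `N ⟨y₀⟩`
  set Ny := N ⊔ zpowers y₀ with hNy
  have hmemNy : ∀ x : G, x ∈ Ny ↔ (x : G ⧸ N) ∈ zpowers y := by
    intro x
    have h1 : Ny = ((zpowers y₀).map (QuotientGroup.mk' N)).comap (QuotientGroup.mk' N) := by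
      rw [QuotientGroup.comap_map_mk']
    rw [h1, Subgroup.mem_comap, MonoidHom.map_zpowers]
    rfl
  have haNy : a₀ ∈ normalizer (Ny : Set G) := by
    apply mem_normalizer_of_conj_mem
    intro x hx
    rw [hmemNy] at hx ⊢
    have : ((a₀ * x * a₀⁻¹ : G) : G ⧸ N) = MulAut.conj a (x : G ⧸ N) := by
      rw [MulAut.conj_apply]; rfl
    rw [this, hainv _ hx]
    exact Subgroup.inv_mem _ hx
  -- the `3`-part of `y₀`
  obtain ⟨j, k, hk3, hjk⟩ := Nat.exists_eq_pow_mul_and_not_dvd (orderOf_pos y₀).ne' 3 (by norm_num)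
  set t := y₀ ^ k with ht
  have htpow : t ^ (3 ^ j) = 1 := by rw [ht, ← pow_mul, mul_comm, ← hjk, pow_orderOf_eq_one]
  have hπt : (t : G ⧸ N) = y ^ k := by rw [ht]; rfl
  have hπt' : (t : G ⧸ N) = y ∨ (t : G ⧸ N) = y⁻¹ := by
    rw [hπt, ← pow_mod_orderOf, hord]
    have : k % 3 = 1 ∨ k % 3 = 2 := by omega
    rcases this with h | h
    · left; rw [h, pow_one]
    · right; rw [h]; exact hyinv
  have htNy : t ∈ Ny := (le_sup_right : zpowers y₀ ≤ Ny) (Subgroup.pow_mem _ (mem_zpowers y₀) k)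
  haveI : Fact (3 : ℕ).Prime := ⟨Nat.prime_three⟩
  haveI : Fact (2 : ℕ).Prime := ⟨Nat.prime_two⟩
  have htp : IsPGroup 3 ((zpowers t).subgroupOf Ny) := by
    have h1 : IsPGroup 3 (zpowers t) := by
      have h2 : orderOf t ∣ 3 ^ j := orderOf_dvd_of_pow_eq_one htpow
      obtain ⟨i, -, hi⟩ := (Nat.dvd_prime_pow Nat.prime_three).mp h2
      apply IsPGroup.of_card (n := i)
      rw [Nat.card_zpowers, hi]
    exact h1.comap_subtype
  obtain ⟨D₀, hD₀⟩ := htp.exists_le_sylow
  set D := (D₀ : Subgroup ↥Ny).map Ny.subtype with hD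
  have htD : t ∈ D := ⟨⟨t, htNy⟩, hD₀ (mem_subgroupOf.mpr (mem_zpowers t)), rfl⟩
  have hDNy : D ≤ Ny := map_subtype_le _
  have hD3 : IsPGroup 3 D := D₀.2.map _
  -- an element normalizing `D` and inverting `y`
  obtain ⟨D₁, hD₁⟩ : MulAut.conj a₀ • D ∈ sylowSet 3 Ny := conj_mem_sylowSet haNy ⟨D₀, rfl⟩
  obtain ⟨n, hn⟩ := MulAction.exists_smul_eq ↥Ny D₁ D₀
  set s := (n : G) * a₀ with hs
  have hsD : s ∈ normalizer (D : Set G) := by
    apply mem_normalizer_of_conj_smul_eq
    rw [hs, map_mul, mul_smul, hD₁, ← map_subtype_conj_smul, ← Sylow.coe_subgroup_smul, hn]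
  have hπn : ((n : G) : G ⧸ N) ∈ zpowers y := (hmemNy _).mp n.2
  have hπs : (s : G ⧸ N) = ((n : G) : G ⧸ N) * a := by rw [hs]; rfl
  have hsinv : MulAut.conj (s : G ⧸ N) y = y⁻¹ := by
    rw [hπs, map_mul, MulAut.mul_apply, c.inv, map_inv, MulAut.conj_apply]
    obtain ⟨i, hi⟩ := mem_zpowers_iff.mp hπn
    rw [← hi]
    have : y ^ i * y * (y ^ i)⁻¹ = y := by
      rw [← zpow_add_one, ← zpow_neg, ← zpow_add]
      simp
    rw [this]
  have hss : (s : G ⧸ N) * (s : G ⧸ N) = 1 := by
    rw [hπs]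
    have h1 := hainv _ hπn
    rw [MulAut.conj_apply] at h1
    have ha2 : a * a = 1 := c.a2
    have hainv' : a⁻¹ = a := inv_eq_of_mul_eq_one_right ha2
    rw [hainv'] at h1
    calc ((n : G) : G ⧸ N) * a * (((n : G) : G ⧸ N) * a)
        = ((n : G) : G ⧸ N) * (a * ((n : G) : G ⧸ N) * a) := by group
      _ = 1 := by rw [h1, mul_inv_cancel]
  -- apply the criterion
  have hWD : Disjoint W D := by
    have hW2 : IsPGroup 2 W := by
      intro w
      refine ⟨1, ?_⟩
      obtain ⟨w', hw', hww'⟩ := w.2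
      apply Subtype.ext
      rw [pow_one, pow_two, Subgroup.coe_mul, Subgroup.coe_one, ← hww']
      have := c.exp2 w'
      exact congrArg Subtype.val this
    exact IsPGroup.disjoint_of_ne 2 3 (by norm_num) W D hW2 hD3
  have htW : t ∈ normalizer (W : Set G) := by
    apply mem_normalizer_map_of_actQ
    intro w hw
    rcases hπt' with h | h
    · rw [h]; exact trKer_invariant (actQ V) y y rfl hw
    · rw [h]; exact trKer_invariant (actQ V) y y⁻¹ (by group) hw
  have hsW : s ∈ normalizer (W : Set G) := by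
    apply mem_normalizer_map_of_actQ
    intro w hw
    exact trKer_of_inverts (actQ V) hsinv hw
  have hfix_t : ∀ w ∈ WU, actQ V (t : G ⧸ N) w = w → w = 1 := by
    intro w hw h
    apply c.y_fixed_eq_one hw
    rcases hπt' with h' | h'
    · rw [← h']; exact h
    · rw [h'] at h
      have := congrArg (actQ V y) h
      rw [← MulAut.mul_apply, ← map_mul, mul_inv_cancel, map_one, MulAut.one_apply] at this
      exact this.symm
  refine involves_perm4 W (normalizer (D : Set G) ⊓ normalizer (W : Set G)) hW4 inf_le_right ?_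
    s t ⟨hsD, hsW⟩ ⟨Subgroup.le_normalizer htD, htW⟩ ?_ ?_ ?_ ?_
  · -- `W ∩ N_G(D) = 1`
    rw [eq_bot_iff]
    rintro w ⟨hwW, hwD, -⟩
    rw [Subgroup.mem_bot]
    obtain ⟨w', hw', rfl⟩ := hwW
    have h1 : (w' : G) * t * (w' : G)⁻¹ * t⁻¹ ∈ W ⊓ D := by
      refine Subgroup.mem_inf.mpr ⟨?_, ?_⟩
      · have h2 : t * (w' : G)⁻¹ * t⁻¹ ∈ W :=
          (Subgroup.mem_normalizer_iff.mp htW _).mp (W.inv_mem ⟨w', hw', rfl⟩)
        have : (w' : G) * t * (w' : G)⁻¹ * t⁻¹ = (w' : G) * (t * (w' : G)⁻¹ * t⁻¹) := by group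
        rw [this]
        exact W.mul_mem ⟨w', hw', rfl⟩ h2
      · have h2 : (w' : G) * t * (w' : G)⁻¹ ∈ D := (Subgroup.mem_normalizer_iff.mp hwD _).mp htD
        exact D.mul_mem h2 (D.inv_mem htD)
    rw [hWD.eq_bot, Subgroup.mem_bot] at h1
    have h2 : t * (w' : G) * t⁻¹ = w' := by
      have : (w' : G) * t = t * (w' : G) := by
        have h3 : (w' : G) * t * (w' : G)⁻¹ = t := by
          rw [← mul_inv_eq_one]; exact h1
        exact mul_inv_eq_iff_eq_mul.mp h3
      rw [← this, mul_inv_cancel_right]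
    have h3 : actQ V (t : G ⧸ N) w' = w' := by
      apply Subtype.ext
      rw [actQ_mk]; exact h2
    have := hfix_t w' hw' h3
    rw [this]; rfl
  · -- `s` acts nontrivially on `W`
    rw [mem_centralizer_map_iff_actQ]
    obtain ⟨w, hw, hne⟩ := exists_moved_of_inverts (actQ V) c.inj c.exp2 c.y1 c.yodd hsinv
    intro h
    exact hne (h w hw)
  · rw [mem_centralizer_map_iff_actQ]
    intro w _
    have : ((s * s : G) : G ⧸ N) = 1 := hss
    rw [this, map_one, MulAut.one_apply]
  · -- `t` acts nontrivially on `W`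
    rw [mem_centralizer_map_iff_actQ]
    intro h
    have hbot : WU = ⊥ := by
      rw [eq_bot_iff]
      intro w hw
      exact Subgroup.mem_bot.mpr (hfix_t w hw (h w hw))
    rw [hbot, Subgroup.card_bot] at hWU4
    norm_num at hWU4
  · rw [mem_centralizer_map_iff_actQ]
    intro w _
    have : ((t * t * t : G) : G ⧸ N) = 1 := by
      have h1 : ((t * t * t : G) : G ⧸ N) = (t : G ⧸ N) * (t : G ⧸ N) * (t : G ⧸ N) := rfl
      rw [h1]
      rcases hπt' with h | h
      · rw [h]; exact hy3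
      · rw [h]
        have : y⁻¹ * y⁻¹ * y⁻¹ = (y * y * y)⁻¹ := by group
        rw [this, hy3, inv_one]
    rw [this, map_one, MulAut.one_apply]

end Cfsg.Agent.Helper1
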