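import Mathlib
import Cfsg.Agent.Helper47.SGDefs
import Cfsg.Agent.Lib.Cores
import Cfsg.Agent.Helper97.ChiefFitting
import Cfsg.Agent.Helper63.ChiefCent
import Cfsg.Agent.Helper54.SectionAct
import Cfsg.Agent.S3766

set_option autoImplicit false

/-!
# Shult–Gross (S3793), piece (W11): the ambient form of Claim A from the linear form
(helper1, for helper47)

By S3766 it suffices to see that `c = ⁅x ^ (p ^ n), g⁆` centralizes every chief factor `U / V` of `H`
below `F(G)`; the linear form is applied to the image of `H` in `MulAut (U / V)`.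
-/

namespace Cfsg.Agent.Helper1.SG

open Subgroup Cfsg.Agent.Helper47.SG
open scoped commutatorElement

universe u

/-- the linear form for a group `W` with a commutativity proof instead of a `CommGroup` instance. -/
theorem lin_apply (h : ClaimALinStmt.{u}) (W : Type u) [instG : Group W] [Finite W]
    (hcomm : ∀ a b : W, a * b = b * a) (p r n : ℕ) (H G : Subgroup (MulAut W)) (x : MulAut W)
    (hp : p.Prime) (hr : r.Prime) (hp2 : p ≠ 2) (hpr : p ≠ r) (hexp : ∀ w : W, w ^ r = 1)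
    (hGH : G ≤ H) (hHG : H ≤ Subgroup.normalizer (G : Set (MulAut W)))
    (hsol : Group.IsSolvable ↥G) (hpG : ¬ p ∣ Nat.card G) (hxH : x ∈ H)
    (hxp : x ^ (p ^ (n + 1)) = 1) (hfixG : ∀ a ∈ G, x * a = a * x → a = 1)
    (hfixW : ∀ w : W, x w = w → w = 1)
    (hirr : ∀ W₀ : Subgroup W, (∀ h ∈ H, ∀ w ∈ W₀, h w ∈ W₀) → W₀ = ⊥ ∨ W₀ = ⊤) :
    ∀ a ∈ G, x ^ (p ^ n) * a = a * x ^ (p ^ n) := by
  letI instC : CommGroup W := { instG with mul_comm := hcomm }
  exact h W p r n H G x hp hr hp2 hpr hexp hGH hHG hsol hpG hxH hxp hfixG hfixW hirr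

/-- a coset fixed by a fixed-point-free `x` is trivial. -/
theorem mem_of_fpf_mod {H : Type*} [Group H] [Finite H] (x : H) (X K : Subgroup H) (hKX : K ≤ X)
    (hxK : ∀ k ∈ K, x * k * x⁻¹ ∈ K) (hfix : ∀ g ∈ X, x * g = g * x → g = 1)
    (y : H) (hy : y ∈ X) (hyK : y⁻¹ * (x * y * x⁻¹) ∈ K) : y ∈ K := by
  have key : ∀ a ∈ X, ∀ b ∈ X, a⁻¹ * (x * a * x⁻¹) = b⁻¹ * (x * b * x⁻¹) → a = b := by
    intro a ha b hb hab
    have h1 : x * (b * a⁻¹) = (b * a⁻¹) * x := by
      have e1 : b * a⁻¹ = b * (a⁻¹ * (x * a * x⁻¹)) * (x * a⁻¹ * x⁻¹) := by group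
      have e2 : b * (b⁻¹ * (x * b * x⁻¹)) * (x * a⁻¹ * x⁻¹) = x * (b * a⁻¹) * x⁻¹ := by group
      have e3 : b * a⁻¹ = x * (b * a⁻¹) * x⁻¹ := by
        rw [← e2, ← hab, ← e1]
      calc x * (b * a⁻¹) = (x * (b * a⁻¹) * x⁻¹) * x := by group
        _ = (b * a⁻¹) * x := by rw [← e3]
    have h2 := hfix _ (X.mul_mem hb (X.inv_mem ha)) h1
    exact (mul_inv_eq_one.mp h2).symm
  let ψ : K → K := fun k => ⟨(k : H)⁻¹ * (x * k * x⁻¹), K.mul_mem (K.inv_mem k.2) (hxK k k.2)⟩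
  have hinj : Function.Injective ψ := by
    intro a b hab
    have h' : (a : H)⁻¹ * (x * a * x⁻¹) = (b : H)⁻¹ * (x * b * x⁻¹) := congrArg Subtype.val hab
    exact Subtype.ext (key _ (hKX a.2) _ (hKX b.2) h')
  have hsurj : Function.Surjective ψ := Finite.surjective_of_injective hinj
  obtain ⟨k, hk⟩ := hsurj ⟨y⁻¹ * (x * y * x⁻¹), hyK⟩
  have h' : (k : H)⁻¹ * (x * k * x⁻¹) = y⁻¹ * (x * y * x⁻¹) := congrArg Subtype.val hk
  have := key _ (hKX k.2) _ hy h'
  rw [← this]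
  exact k.2

section chief

variable {H : Type u} [Group H] [Finite H]

/-- invariant subgroups of a chief factor. -/
theorem chief_irr (U V : Subgroup H) [hU : U.Normal] [hV : V.Normal] (hVU : V ≤ U)
    (hmax : ∀ W : Subgroup H, W.Normal → V ≤ W → W ≤ U → W = V ∨ W = U)
    (W₀ : Subgroup (↥U ⧸ V.subgroupOf U))
    (hinv : ∀ h : H, ∀ w ∈ W₀, Cfsg.Agent.Helper54.Quad.secAct U V h w ∈ W₀) :
    W₀ = ⊥ ∨ W₀ = ⊤ := by
  set π : ↥U →* ↥U ⧸ V.subgroupOf U := QuotientGroup.mk' (V.subgroupOf U) with hπ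
  set N : Subgroup H := (W₀.comap π).map U.subtype with hN
  have hNU : N ≤ U := by
    rintro _ ⟨u, _, rfl⟩
    exact u.2
  have hVN : V ≤ N := by
    intro v hv
    refine ⟨⟨v, hVU hv⟩, ?_, rfl⟩
    show π ⟨v, hVU hv⟩ ∈ W₀
    have : π ⟨v, hVU hv⟩ = 1 := by
      rw [hπ, QuotientGroup.mk'_apply, QuotientGroup.eq_one_iff, mem_subgroupOf]
      exact hv
    rw [this]
    exact W₀.one_mem
  have hNn : N.Normal := by
    constructor
    rintro _ ⟨u, hu, rfl⟩ g
    have hu' : π u ∈ W₀ := hu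
    refine ⟨MulAut.conjNormal g u, ?_, ?_⟩
    · show π (MulAut.conjNormal g u) ∈ W₀
      have := hinv g _ hu'
      rw [hπ, QuotientGroup.mk'_apply, Cfsg.Agent.Helper54.Quad.secAct_mk] at this
      exact this
    · show ((MulAut.conjNormal g u : U) : H) = g * u * g⁻¹
      rw [MulAut.conjNormal_apply]
  rcases hmax N hNn hVN hNU with hNV | hNU'
  · left
    rw [eq_bot_iff]
    intro w hw
    obtain ⟨u, rfl⟩ := QuotientGroup.mk'_surjective (V.subgroupOf U) w
    have huN : (u : H) ∈ N := ⟨u, hw, rfl⟩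
    rw [hNV] at huN
    rw [mem_bot, QuotientGroup.mk'_apply, QuotientGroup.eq_one_iff, mem_subgroupOf]
    exact huN
  · right
    rw [eq_top_iff]
    intro w _
    obtain ⟨u, rfl⟩ := QuotientGroup.mk'_surjective (V.subgroupOf U) w
    have huN : (u : H) ∈ N := by rw [hNU']; exact u.2
    obtain ⟨u', hu', hu'u⟩ := huN
    have : u' = u := Subtype.ext hu'u
    rw [← this]
    exact hu'

/-- `c = ⁅x ^ (p ^ n), g⁆` centralizes a chief factor `U / V` of `H` below `G` with `U / V`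
abelian. -/
theorem chief_step (h : ClaimALinStmt.{u}) (G : Subgroup H) [hGn : G.Normal] (x : H) (p n : ℕ)
    (hHsol : Group.IsSolvable H)
    (hp : p.Prime) (hp2 : p ≠ 2) (hpG : ¬ p ∣ Nat.card G) (hxp : x ^ (p ^ (n + 1)) = 1)
    (hfix : ∀ g ∈ G, x * g = g * x → g = 1)
    (U V : Subgroup H) (hU : U.Normal) (hV : V.Normal) (hlt : V < U)
    (hmax : ∀ W : Subgroup H, W.Normal → V ≤ W → W ≤ U → W = V ∨ W = U)
    (hUG : U ≤ G) (hab : ∀ a ∈ U, ∀ b ∈ U, a * b * a⁻¹ * b⁻¹ ∈ V)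
    (g : H) (hg : g ∈ G) (u : H) (hu : u ∈ U) :
    u * ⁅x ^ (p ^ n), g⁆ * u⁻¹ * ⁅x ^ (p ^ n), g⁆⁻¹ ∈ V := by
  classical
  haveI := hU
  haveI := hV
  haveI := hHsol
  set φ : H →* MulAut (↥U ⧸ V.subgroupOf U) := Cfsg.Agent.Helper54.Quad.secAct U V with hφ
  -- `U / V` is abelian
  have hcomm : ∀ a b : ↥U ⧸ V.subgroupOf U, a * b = b * a := by
    intro a b
    induction a using QuotientGroup.induction_on with
    | H a =>
    induction b using QuotientGroup.induction_on with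
    | H b =>
    rw [← QuotientGroup.mk_mul, ← QuotientGroup.mk_mul, QuotientGroup.eq, mem_subgroupOf]
    have h1 := hab _ (U.inv_mem b.2) _ (U.inv_mem a.2)
    have e : (((a * b)⁻¹ * (b * a) : U) : H) = (b : H)⁻¹ * (a : H)⁻¹ * (b : H)⁻¹⁻¹ * (a : H)⁻¹⁻¹ := by
      push_cast
      group
    rw [e]
    exact h1
  -- a prime dividing the order
  have hW1 : Nat.card (↥U ⧸ V.subgroupOf U) ≠ 1 := by
    intro h1
    have h2 : V.subgroupOf U = ⊤ := by
      have := Subgroup.index_eq_one.mp (by rw [Subgroup.index, h1] : (V.subgroupOf U).index = 1)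
      exact this
    rw [Subgroup.subgroupOf_eq_top] at h2
    exact (not_le_of_gt hlt) h2
  obtain ⟨r, hr, hrd⟩ := Nat.exists_prime_and_dvd hW1
  haveI : Fact r.Prime := ⟨hr⟩
  have hirr := chief_irr U V hlt.le hmax
  -- exponent `r`
  have hexp : ∀ w : ↥U ⧸ V.subgroupOf U, w ^ r = 1 := by
    let Ω : Subgroup (↥U ⧸ V.subgroupOf U) :=
      { carrier := {w | w ^ r = 1}
        mul_mem' := by
          intro a b ha hb
          have hc : Commute a b := hcomm a b
          show (a * b) ^ r = 1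
          rw [hc.mul_pow, ha, hb, one_mul]
        one_mem' := one_pow _
        inv_mem' := by
          intro a ha
          show a⁻¹ ^ r = 1
          rw [inv_pow, ha, inv_one] }
    have hΩinv : ∀ h' : H, ∀ w ∈ Ω, φ h' w ∈ Ω := by
      intro h' w hw
      show (φ h' w) ^ r = 1
      rw [← map_pow, hw, map_one]
    obtain ⟨y, hy⟩ := exists_prime_orderOf_dvd_card' r hrd
    have hyΩ : y ∈ Ω := by
      show y ^ r = 1
      rw [← hy]
      exact pow_orderOf_eq_one y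
    rcases hirr Ω hΩinv with hb | ht
    · exfalso
      rw [hb, mem_bot] at hyΩ
      rw [hyΩ, orderOf_one] at hy
      exact hr.one_lt.ne hy
    · intro w
      have : w ∈ Ω := by rw [ht]; exact mem_top w
      exact this
  have hpr : p ≠ r := by
    rintro rfl
    exact hpG (hrd.trans ((Subgroup.card_quotient_dvd_card _).trans (Subgroup.card_dvd_of_le hUG)))
  -- the linear form
  have hxV : ∀ k ∈ V, x * k * x⁻¹ ∈ V := fun k hk => hV.conj_mem k hk x
  have hlin := lin_apply h (↥U ⧸ V.subgroupOf U) hcomm p r n φ.range (G.map φ) (φ x) hp hr hp2 hpr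
    hexp (Subgroup.map_le_range φ G)
    (by
      rintro _ ⟨h', rfl⟩
      rw [mem_normalizer_iff]
      intro a
      constructor
      · rintro ⟨g', hg', rfl⟩
        exact ⟨h' * g' * h'⁻¹, hGn.conj_mem g' hg' h', by rw [map_mul, map_mul, map_inv]⟩
      · rintro ⟨g', hg', e⟩
        refine ⟨h'⁻¹ * g' * h', ?_, ?_⟩
        · have := hGn.conj_mem g' hg' h'⁻¹
          rwa [inv_inv] at this
        · rw [map_mul, map_mul, map_inv, e]
          group)
    (Group.isSolvable_of_surjective (φ.subgroupMap_surjective G))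
    (fun hd => hpG (hd.trans (Subgroup.card_dvd_of_surjective _ (φ.subgroupMap_surjective G))))
    ⟨x, rfl⟩ (by rw [← map_pow, hxp, map_one])
    (by
      rintro _ ⟨g', hg', rfl⟩ hc
      have hK : g' ∈ φ.ker ⊓ G := by
        apply mem_of_fpf_mod x G (φ.ker ⊓ G) inf_le_right _ hfix g' hg'
        · refine mem_inf.mpr ⟨?_, G.mul_mem (G.inv_mem hg') (hGn.conj_mem g' hg' x)⟩
          rw [MonoidHom.mem_ker, map_mul, map_mul, map_mul, map_inv, map_inv, hc]
          group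
        · intro k hk
          obtain ⟨hk1, hk2⟩ := mem_inf.mp hk
          refine mem_inf.mpr ⟨?_, hGn.conj_mem k hk2 x⟩
          rw [MonoidHom.mem_ker] at hk1 ⊢
          rw [map_mul, map_mul, hk1, mul_one, map_inv, mul_inv_cancel]
      exact MonoidHom.mem_ker.mp (mem_inf.mp hK).1)
    (by
      intro w hw
      induction w using QuotientGroup.induction_on with
      | H u' =>
      rw [hφ, Cfsg.Agent.Helper54.Quad.secAct_mk, QuotientGroup.eq, mem_subgroupOf] at hw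
      have hw' : ((u' : H)⁻¹ * (x * u' * x⁻¹)) ∈ V := by
        have e : (((MulAut.conjNormal x u' : U)⁻¹ * u' : U) : H) =
            ((u' : H)⁻¹ * (x * u' * x⁻¹))⁻¹ := by
          push_cast
          rw [MulAut.conjNormal_apply]
          group
        rw [e] at hw
        simpa using V.inv_mem hw
      have huV : (u' : H) ∈ V :=
        mem_of_fpf_mod x U V hlt.le hxV (fun g' hg' => hfix g' (hUG hg')) u' u'.2 hw'
      rw [QuotientGroup.eq_one_iff, mem_subgroupOf]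
      exact huV)
    (fun W₀ hW₀ => hirr W₀ (fun h' w hw => hW₀ (φ h') ⟨h', rfl⟩ w hw))
  have hcomm2 : φ x ^ (p ^ n) * φ g = φ g * φ x ^ (p ^ n) := hlin (φ g) ⟨g, hg, rfl⟩
  have hφc : φ ⁅x ^ (p ^ n), g⁆ = 1 := by
    rw [commutatorElement_def, map_mul, map_mul, map_mul, map_inv, map_inv, map_pow, hcomm2]
    group
  have h1 := congrArg (fun σ : MulAut (↥U ⧸ V.subgroupOf U) => σ (QuotientGroup.mk ⟨u, hu⟩)) hφc
  simp only [MulAut.one_apply] at h1
  rw [hφ, Cfsg.Agent.Helper54.Quad.secAct_mk, QuotientGroup.eq, mem_subgroupOf] at h1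
  have e : (((MulAut.conjNormal ⁅x ^ (p ^ n), g⁆ (⟨u, hu⟩ : U) : U)⁻¹ * ⟨u, hu⟩ : U) : H) =
      ⁅x ^ (p ^ n), g⁆ * u⁻¹ * ⁅x ^ (p ^ n), g⁆⁻¹ * u := by
    push_cast
    rw [MulAut.conjNormal_apply]
    group
  rw [e] at h1
  have h2 := hV.conj_mem _ h1 u
  have e2 : u * (⁅x ^ (p ^ n), g⁆ * u⁻¹ * ⁅x ^ (p ^ n), g⁆⁻¹ * u) * u⁻¹ =
      u * ⁅x ^ (p ^ n), g⁆ * u⁻¹ * ⁅x ^ (p ^ n), g⁆⁻¹ := by group
  rw [e2] at h2
  exact h2

end chief

/-- W11 -/
theorem claimA_amb_of (h : ClaimALinStmt.{u}) : ClaimAAmbStmt.{u} := by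
  intro H _ _ G hGn x p n hHsol hp hp2 hpG hxp hfix g hg
  have hcG : ⁅x ^ (p ^ n), g⁆ ∈ G := by
    rw [commutatorElement_def]
    exact G.mul_mem (hGn.conj_mem g hg _) (G.inv_mem hg)
  rw [(Cfsg.Agent.S3766.result hHsol G ⁅x ^ (p ^ n), g⁆).2]
  refine ⟨hcG, ?_⟩
  rintro U V ⟨hU, hV, hlt, hmax⟩ hUF u hu
  have hFn : ((Cfsg.fittingSubgroup ↥G).map G.subtype).Normal :=
    Cfsg.Agent.Helper97.map_fittingSubgroup_normal G
  have hFnil : Group.IsNilpotent ↥((Cfsg.fittingSubgroup ↥G).map G.subtype) :=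
    Cfsg.Agent.Helper97.isNilpotent_map_fittingSubgroup' G
  have hFG : (Cfsg.fittingSubgroup ↥G).map G.subtype ≤ G := by
    rintro _ ⟨y, _, rfl⟩
    exact y.2
  have hab : ∀ a ∈ U, ∀ b ∈ U, a * b * a⁻¹ * b⁻¹ ∈ V := by
    intro a ha b hb
    exact Cfsg.Agent.Helper63.centralizes_chief_of_nilpotent (hM := hFn) hFnil
      ⟨hU, hV, hlt, hmax⟩ b (hUF hb) a ha
  exact chief_step h G x p n hHsol hp hp2 hpG hxp hfix U V hU hV hlt hmax (hUF.trans hFG) hab g hg
    u hu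

end Cfsg.Agent.Helper1.SG
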