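import Mathlib
import Cfsg.Agent.Helper47.SGDefs
import Cfsg.Agent.Lib.Cores
import Cfsg.Agent.Helper97.ChiefFitting

set_option autoImplicit false

/-!
# Shult–Gross (S3793), piece (W12): Claim A from its ambient form (helper1, for helper47)

`H := G ⋊ ⟨σ⟩`.
-/

namespace Cfsg.Agent.Helper1.SG

open Subgroup Cfsg.Agent.Helper47.SG
open scoped commutatorElement

universe u

/-- W12 -/
theorem claimA_of (h : ClaimAAmbStmt.{u}) : ClaimAStmt.{u} := by
  intro G _ _ p n σ hsol hp hp2 hσ hfpf g
  classical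
  haveI : Fact p.Prime := ⟨hp⟩
  let A : Subgroup (MulAut G) := zpowers σ
  let H := G ⋊[A.subtype] A
  haveI : Finite (MulAut G) := Finite.of_injective (fun e : MulAut G => (e : G → G))
    (fun a b hab => MulEquiv.ext (fun x => congrFun hab x))
  haveI : Finite H := Finite.of_equiv _ (SemidirectProduct.equivProd (φ := A.subtype)).symm
  let iL : G →* H := SemidirectProduct.inl
  let iR : A →* H := SemidirectProduct.inr
  have hiL : Function.Injective iL := SemidirectProduct.inl_injective
  have hconj : ∀ (a : A) (g : G), iR a * iL g * (iR a)⁻¹ = iL ((a : MulAut G) g) := by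
    intro a g
    have := SemidirectProduct.inl_aut (φ := A.subtype) a g
    rw [map_inv] at this
    exact this.symm
  -- `A` is a `p`-group
  have hApg : IsPGroup p A := by
    intro a
    refine ⟨n + 1, ?_⟩
    obtain ⟨a, ha⟩ := a
    obtain ⟨k, rfl⟩ := mem_zpowers_iff.mp ha
    apply Subtype.ext
    show (σ ^ k) ^ (p ^ (n + 1)) = 1
    rw [← zpow_natCast, ← zpow_mul, mul_comm, zpow_mul, zpow_natCast, hσ, one_zpow]
  -- `p ∤ |G|`
  have hpG : ¬ p ∣ Nat.card G := by
    have h1 := hApg.card_modEq_card_fixedPoints (α := G)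
    have h2 : Nat.card (MulAction.fixedPoints A G) = 1 := by
      rw [Nat.card_eq_one_iff_unique]
      refine ⟨⟨?_⟩, ⟨⟨1, fun a => by
        show (a : MulAut G) • (1 : G) = 1
        rw [MulAut.smul_def, map_one]⟩⟩⟩
      rintro ⟨x, hx⟩ ⟨y, hy⟩
      apply Subtype.ext
      show x = y
      have hx1 : x = 1 := hfpf x (by
        have := hx ⟨σ, mem_zpowers σ⟩
        exact this)
      have hy1 : y = 1 := hfpf y (by
        have := hy ⟨σ, mem_zpowers σ⟩
        exact this)
      rw [hx1, hy1]
    rw [h2] at h1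
    intro hdvd
    have h3 : Nat.card G ≡ 0 [MOD p] := (Nat.modEq_zero_iff_dvd).mpr hdvd
    have h4 : 1 ≡ 0 [MOD p] := h1.symm.trans h3
    have h5 : p ∣ 1 := (Nat.modEq_zero_iff_dvd).mp h4
    exact hp.one_lt.ne' (Nat.dvd_one.mp h5)
  -- the data in `H`
  set G' : Subgroup H := iL.range with hG'
  have hGn : G'.Normal := by
    rw [hG', show iL.range = (SemidirectProduct.rightHom (φ := A.subtype)).ker from
      SemidirectProduct.range_inl_eq_ker_rightHom]
    infer_instance
  haveI := hGn
  have hHsol : Group.IsSolvable H := by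
    haveI : Group.IsSolvable A := by
      haveI : IsMulCommutative A := ⟨⟨fun a b => by
        obtain ⟨a, ha⟩ := a
        obtain ⟨b, hb⟩ := b
        obtain ⟨k, rfl⟩ := mem_zpowers_iff.mp ha
        obtain ⟨l, rfl⟩ := mem_zpowers_iff.mp hb
        apply Subtype.ext
        show σ ^ k * σ ^ l = σ ^ l * σ ^ k
        rw [← zpow_add, ← zpow_add, add_comm]⟩⟩
      infer_instance
    exact solvable_of_ker_le_range (iL : G →* H) (SemidirectProduct.rightHom (φ := A.subtype))
      (by rw [SemidirectProduct.range_inl_eq_ker_rightHom])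
  have hcardG' : Nat.card G' = Nat.card G :=
    Nat.card_congr (MonoidHom.ofInjective hiL).toEquiv.symm
  have hpG' : ¬ p ∣ Nat.card G' := by rw [hcardG']; exact hpG
  set x : H := iR ⟨σ, mem_zpowers σ⟩ with hx
  have hxpow : ∀ k : ℕ, x ^ k = iR ⟨σ ^ k, Subgroup.pow_mem _ (mem_zpowers σ) k⟩ := by
    intro k
    rw [hx, ← map_pow]
    rfl
  have hxp : x ^ (p ^ (n + 1)) = 1 := by
    rw [hxpow]
    have : (⟨σ ^ (p ^ (n + 1)), Subgroup.pow_mem _ (mem_zpowers σ) _⟩ : A) = 1 :=
      Subtype.ext hσ
    rw [this, map_one]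
  have hfix : ∀ g' ∈ G', x * g' = g' * x → g' = 1 := by
    rintro _ ⟨g, rfl⟩ hc
    have h2 : x * iL g * x⁻¹ = iL g := by rw [hc, mul_inv_cancel_right]
    rw [hx, hconj] at h2
    have : σ g = g := hiL h2
    rw [hfpf g this, map_one]
  have hmain := h H G' x p n hHsol hp hp2 hpG' hxp hfix (iL g) ⟨g, rfl⟩
  -- translate the commutator
  have hcomm : ⁅x ^ (p ^ n), iL g⁆ = iL ((σ ^ (p ^ n)) g * g⁻¹) := by
    rw [commutatorElement_def, hxpow, hconj, map_mul, map_inv]
  rw [hcomm] at hmain
  -- pull back the Fitting subgroup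
  set N : Subgroup G := ((Cfsg.fittingSubgroup ↥G').map G'.subtype).comap iL with hN
  have hNn : N.Normal := by
    haveI : ((Cfsg.fittingSubgroup ↥G').map G'.subtype).Normal :=
      Cfsg.Agent.Helper97.map_fittingSubgroup_normal G'
    exact Subgroup.Normal.comap inferInstance iL
  have hNnil : Group.IsNilpotent ↥N := by
    haveI : Group.IsNilpotent ↥((Cfsg.fittingSubgroup ↥G').map G'.subtype) :=
      Cfsg.Agent.Helper97.isNilpotent_map_fittingSubgroup' G'
    let f : ↥N →* ↥((Cfsg.fittingSubgroup ↥G').map G'.subtype) :=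
      (iL.comp N.subtype).codRestrict _ (fun y => y.2)
    have hf : Function.Injective f := by
      intro a b hab
      apply Subtype.ext
      apply hiL
      exact congrArg Subtype.val hab
    haveI : Group.IsNilpotent ↥f.range := inferInstance
    exact Group.nilpotent_of_mulEquiv (MonoidHom.ofInjective hf).symm
  have hle : N ≤ Cfsg.fittingSubgroup G := Cfsg.Agent.Lib.le_fittingSubgroup hNn hNnil
  exact hle hmain

end Cfsg.Agent.Helper1.SG
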