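import Mathlib
import Cfsg.Agent.Helper1.ShultDefs
import Cfsg.Agent.Helper1.ShultAmb
import Cfsg.Agent.Helper48.ShultAmA
import Cfsg.Agent.Helper60.ShultO
import Cfsg.Agent.Helper11.ShultL
import Cfsg.Agent.Helper11.ShultI
import Cfsg.Agent.Helper62.ShultC
import Cfsg.Agent.Helper62.ShultS

set_option autoImplicit false

/-!
# Shult's theorem for `S₃` (S4305), piece (Aσ): Lemma A for a `σ`-invariant hyperplane
-/

namespace Cfsg.Agent.Helper1.ShultA

open Subgroup Cfsg.Agent.Helper1.Shult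
open scoped commutatorElement

section tools

variable {H : Type*} [Group H]

theorem le_normalizer_of_conj_mem {Q D : Subgroup H}
    (h : ∀ x ∈ Q, ∀ d ∈ D, x * d * x⁻¹ ∈ D) : Q ≤ normalizer (D : Set H) := by
  intro x hx
  rw [mem_normalizer_iff]
  intro d
  constructor
  · exact h x hx d
  · intro hd
    have := h x⁻¹ (Q.inv_mem hx) _ hd
    have e : x⁻¹ * (x * d * x⁻¹) * x⁻¹⁻¹ = d := by group
    rwa [e] at this

theorem conj_mem_of_mem_normalizer {D : Subgroup H} {x : H} (hx : x ∈ normalizer (D : Set H))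
    {d : H} (hd : d ∈ D) : x * d * x⁻¹ ∈ D := (mem_normalizer_iff.mp hx d).mp hd

theorem card_coprime_six_of_le [Finite H] {q : ℕ} [hq : Fact q.Prime] (hq2 : q ≠ 2) (hq3 : q ≠ 3)
    {Q X : Subgroup H} (hQ : IsPGroup q Q) (hX : X ≤ Q) : (Nat.card X).Coprime 6 := by
  obtain ⟨n, hn⟩ := (hQ.to_le hX).exists_card_eq
  rw [hn]
  apply Nat.Coprime.pow_left
  have e : (6 : ℕ) = 2 * 3 := rfl
  rw [e]
  exact Nat.Coprime.mul_right ((Nat.coprime_primes hq.out Nat.prime_two).2 hq2)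
    ((Nat.coprime_primes hq.out Nat.prime_three).2 hq3)

theorem odd_card_of_coprime_six {n : ℕ} (h : n.Coprime 6) : Odd n := by
  have : n.Coprime 2 := Nat.Coprime.coprime_dvd_right (by norm_num : 2 ∣ 6) h
  exact Nat.Coprime.odd_of_right this

theorem not_three_dvd_of_coprime_six {n : ℕ} (h : n.Coprime 6) : ¬ 3 ∣ n := by
  intro hd
  have := Nat.dvd_gcd hd (by norm_num : 3 ∣ 6)
  rw [h] at this
  omega

/-- in a group of odd order, an element commuting with `z * z` commutes with `z`. -/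
theorem commute_of_sq_commute [Finite H] {Z : Subgroup H} (hodd : Odd (Nat.card Z)) {z u : H}
    (hz : z ∈ Z) (h : (z * z) * u = u * (z * z)) : z * u = u * z := by
  have ho : Odd (orderOf z) := by
    have hd : orderOf z ∣ Nat.card Z := by
      have := orderOf_dvd_natCard (⟨z, hz⟩ : Z)
      rwa [Subgroup.orderOf_mk] at this
    exact Odd.of_dvd_nat hodd hd
  obtain ⟨m, hm⟩ := ho
  have hz' : (z * z) ^ (m + 1) = z := by
    rw [← pow_two, ← pow_mul]
    have : 2 * (m + 1) = orderOf z + 1 := by omega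
    rw [this, pow_succ, pow_orderOf_eq_one, one_mul]
  have hc : Commute (z * z) u := h
  have := hc.pow_left (m + 1)
  rw [hz'] at this
  exact this

end tools

variable {H : Type*} [Group H] [Finite H]

/-- the hyperplane setting of an `ACfg`. -/
theorem hypSet_of_acfg {q r : ℕ} [Fact q.Prime] [Fact r.Prime] {σ τ : H} {Q W Z1 K : Subgroup H}
    (c : ACfg q r σ τ Q W Z1 K) : HypSet q W Z1 K := by
  have hq : q.Prime := Fact.out
  have hr : r.Prime := Fact.out
  refine ⟨c.hW.1, c.hZQ.trans c.hQW, c.hQ.to_le c.hZQ, ?_, c.hKZ, ?_, ?_, c.hZpow, c.hfix⟩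
  · obtain ⟨n, hn⟩ := c.hWr.exists_card_eq
    rw [hn]
    apply Nat.Coprime.pow_left
    exact (Nat.coprime_primes hr hq).2 (Ne.symm c.hqr)
  · rw [c.hK]
    exact inf_le_right
  · intro t ht u hu
    exact c.hZcent t ht u (c.hZQ hu)

theorem inv_K_of_acfg {q r : ℕ} {σ τ : H} {Q W Z1 K : Subgroup H}
    (c : ACfg q r σ τ Q W Z1 K) : Cfsg.Agent.Helper1.Shult.Inv σ τ K := by
  rw [c.hK]
  exact Cfsg.Agent.Helper48.Shult.inv_of_inf c.hQinv
    (Cfsg.Agent.Helper48.Shult.inv_of_centralizer c.hWinv)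

/-- `Q` normalizes every subgroup between `K` and `Z1`. -/
theorem le_normalizer_hyp {q r : ℕ} {σ τ : H} {Q W Z1 K : Subgroup H}
    (c : ACfg q r σ τ Q W Z1 K) (D : Subgroup H) (hKD : K ≤ D) (hDZ : D ≤ Z1) :
    Q ≤ normalizer (D : Set H) := by
  apply le_normalizer_of_conj_mem
  intro x hx d hd
  have h1 : d * x * d⁻¹ * x⁻¹ ∈ K := c.hZcent d (hDZ hd) x hx
  have h2 : x * d * x⁻¹ * d⁻¹ ∈ D := by
    have e : x * d * x⁻¹ * d⁻¹ = (d * x * d⁻¹ * x⁻¹)⁻¹ := by group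
    rw [e]
    exact D.inv_mem (hKD h1)
  have e : x * d * x⁻¹ = (x * d * x⁻¹ * d⁻¹) * d := by group
  rw [e]
  exact D.mul_mem h2 hd

/-- (Aσ) Lemma A, a `σ`-invariant hyperplane. -/
theorem lemmaA_sigma {q r : ℕ} [Fact q.Prime] [Fact r.Prime] {σ τ : H} {Q W Z1 K : Subgroup H}
    (c : ACfg q r σ τ Q W Z1 K) (D : Subgroup H) (hD : IsHyp q Z1 K D)
    (hσD : σ ∈ normalizer (D : Set H)) :
    ⁅Q, Q⁆ ≤ centralizer ((W ⊓ centralizer (D : Set H) : Subgroup H) : Set H) := by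
  classical
  have hq : q.Prime := Fact.out
  have hS := c.hS
  obtain ⟨hKD, hDZ, hidx⟩ := hD
  have hD' : IsHyp q Z1 K D := ⟨hKD, hDZ, hidx⟩
  have hDQ : D ≤ Q := hDZ.trans c.hZQ
  have hQD : Q ≤ normalizer (D : Set H) := le_normalizer_hyp c D hKD hDZ
  set WD : Subgroup H := W ⊓ centralizer (D : Set H) with hWD
  have hQWD : Q ≤ normalizer (WD : Set H) := fun x hx =>
    Cfsg.Agent.Helper48.Shult.mem_normalizer_inf (c.hQW hx)
      (Cfsg.Agent.Helper48.Shult.mem_normalizer_centralizer (hQD hx))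
  have hσWD : σ ∈ normalizer (WD : Set H) :=
    Cfsg.Agent.Helper48.Shult.mem_normalizer_inf c.hWinv.1
      (Cfsg.Agent.Helper48.Shult.mem_normalizer_centralizer hσD)
  set KD : Subgroup H := Q ⊓ centralizer (WD : Set H) with hKDdef
  have hKDQ : KD ≤ Q := inf_le_left
  have hQKD : Q ≤ normalizer (KD : Set H) := fun x hx =>
    Cfsg.Agent.Helper48.Shult.mem_normalizer_inf (le_normalizer hx)
      (Cfsg.Agent.Helper48.Shult.mem_normalizer_centralizer (hQWD hx))
  have hσKD : σ ∈ normalizer (KD : Set H) :=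
    Cfsg.Agent.Helper48.Shult.mem_normalizer_inf c.hQinv.1
      (Cfsg.Agent.Helper48.Shult.mem_normalizer_centralizer hσWD)
  have hKKD : K ≤ KD := by
    rw [c.hK]
    exact inf_le_inf_left Q (Cfsg.Agent.Helper48.Shult.centralizer_anti inf_le_left)
  have hKinv : Cfsg.Agent.Helper1.Shult.Inv σ τ K := inv_K_of_acfg c
  have hQK : Q ≤ normalizer (K : Set H) := by
    intro x hx
    rw [c.hK]
    exact Cfsg.Agent.Helper48.Shult.mem_normalizer_inf (le_normalizer hx)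
      (Cfsg.Agent.Helper48.Shult.mem_normalizer_centralizer (c.hQW hx))
  by_cases hcase : ∀ x ∈ Q, x⁻¹ * (σ * x * σ⁻¹) ∈ centralizer (WD : Set H)
  · -- CASE 1
    have hcase' : ∀ x ∈ Q, x⁻¹ * (σ * x * σ⁻¹) ∈ KD := fun x hx =>
      ⟨Q.mul_mem (Q.inv_mem hx) (conj_mem_of_mem_normalizer c.hQinv.1 hx), hcase x hx⟩
    have h3KD : ¬ 3 ∣ Nat.card KD :=
      not_three_dvd_of_coprime_six (card_coprime_six_of_le c.hq2 c.hq3 c.hQ hKDQ)
    haveI : Fact (Nat.Prime 3) := ⟨Nat.prime_three⟩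
    have hσpg : IsPGroup 3 (zpowers σ) := by
      apply IsPGroup.of_card (n := 1)
      rw [Nat.card_zpowers, hS.oσ, pow_one]
    set C : Subgroup H := Q ⊓ centralizer ({σ} : Set H) with hC
    -- every coset of `KD` in `Q` meets `C`
    have hcover : ∀ x ∈ Q, ∃ y ∈ C, x⁻¹ * y ∈ KD := by
      intro x hx
      have hσS : zpowers σ ≤ cosetStab KD x := by
        rw [zpowers_le]
        exact ⟨hσKD, hcase' x hx⟩
      obtain ⟨y, hyKD, hyfix⟩ :=
        Cfsg.Agent.Helper75.ShultNil.exists_fixed_in_coset hσpg h3KD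
          (fun a ha => (hσS ha).1) x (fun a ha => (hσS ha).2)
      refine ⟨y, mem_inf.mpr ⟨?_, ?_⟩, hyKD⟩
      · have e : y = x * (x⁻¹ * y) := by group
        rw [e]
        exact Q.mul_mem hx (hKDQ hyKD)
      · rw [mem_centralizer_iff]
        intro s hs
        rw [Set.mem_singleton_iff] at hs
        subst hs
        have := hyfix s (mem_zpowers s)
        calc s * y = (s * y * s⁻¹) * s := by group
          _ = y * s := by rw [this]
    -- `C / (C ⊓ K)` is abelian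
    have hCQ : C ≤ Q := inf_le_left
    have hτC : τ ∈ normalizer (C : Set H) :=
      Cfsg.Agent.Helper48.Shult.mem_normalizer_inf c.hQinv.2
        (Cfsg.Agent.Helper11.Shult.tau_mem_normalizer_centralizer hS.rel)
    have hCab : ∀ a ∈ C, ∀ b ∈ C, a * b * a⁻¹ * b⁻¹ ∈ C ⊓ K := by
      apply Cfsg.Agent.Helper11.Shult.comm_mem_of_fpf_invol hS.oτ C (C ⊓ K) inf_le_left
      · intro x hx
        exact Cfsg.Agent.Helper48.Shult.mem_normalizer_inf (le_normalizer hx) (hQK (hCQ hx))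
      · exact hτC
      · exact Cfsg.Agent.Helper48.Shult.mem_normalizer_inf hτC hKinv.2
      · exact odd_card_of_coprime_six (card_coprime_six_of_le c.hq2 c.hq3 c.hQ hCQ)
      · intro x hx
        obtain ⟨hxC, hxτ⟩ := mem_inf.mp hx
        obtain ⟨hxQ, hxσ⟩ := mem_inf.mp hxC
        refine mem_inf.mpr ⟨hxC, ?_⟩
        rw [c.hK]
        refine mem_inf.mpr ⟨hxQ, ?_⟩
        apply c.hfixQ
        refine mem_inf.mpr ⟨hxQ, ?_⟩
        rw [mem_centralizer_iff]
        intro a ha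
        rcases ha with rfl | ha
        · exact (mem_centralizer_iff.mp hxσ) a (Set.mem_singleton a)
        · rw [Set.mem_singleton_iff] at ha
          subst ha
          exact (mem_centralizer_iff.mp hxτ) a (Set.mem_singleton a)
    -- the quotient `Q / KD`
    have hnorm : (KD.subgroupOf Q).Normal := (normal_subgroupOf_iff_le_normalizer hKDQ).2 hQKD
    let π : ↥Q →* ↥Q ⧸ KD.subgroupOf Q := QuotientGroup.mk' (KD.subgroupOf Q)
    have hπeq : ∀ (x y : H) (hx : x ∈ Q) (hy : y ∈ Q), x⁻¹ * y ∈ KD →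
        π ⟨x, hx⟩ = π ⟨y, hy⟩ := by
      intro x y hx hy hxy
      apply (QuotientGroup.eq).mpr
      rw [mem_subgroupOf]
      exact hxy
    rw [commutator_le]
    intro a ha b hb
    obtain ⟨a', ha'C, haa'⟩ := hcover a ha
    obtain ⟨b', hb'C, hbb'⟩ := hcover b hb
    have h1 : π ⟨a, ha⟩ = π ⟨a', hCQ ha'C⟩ := hπeq a a' ha (hCQ ha'C) haa'
    have h2 : π ⟨b, hb⟩ = π ⟨b', hCQ hb'C⟩ := hπeq b b' hb (hCQ hb'C) hbb'
    have h3 : π (⁅(⟨a, ha⟩ : Q), ⟨b, hb⟩⁆) = π (⁅(⟨a', hCQ ha'C⟩ : Q), ⟨b', hCQ hb'C⟩⁆) := by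
      rw [map_commutatorElement, map_commutatorElement, h1, h2]
    have h4 : π (⁅(⟨a', hCQ ha'C⟩ : Q), ⟨b', hCQ hb'C⟩⁆) = 1 := by
      apply (QuotientGroup.eq_one_iff _).mpr
      rw [mem_subgroupOf]
      have := hCab a' ha'C b' hb'C
      have e : ((⁅(⟨a', hCQ ha'C⟩ : Q), ⟨b', hCQ hb'C⟩⁆ : Q) : H) = a' * b' * a'⁻¹ * b'⁻¹ := by
        simp [commutatorElement_def]
      rw [e]
      exact hKKD this.2
    rw [h4] at h3
    have h5 := (QuotientGroup.eq_one_iff _).mp h3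
    rw [mem_subgroupOf] at h5
    have e : ((⁅(⟨a, ha⟩ : Q), ⟨b, hb⟩⁆ : Q) : H) = ⁅a, b⁆ := by
      simp [commutatorElement_def]
    rw [e] at h5
    exact h5.2
  · -- CASE 2
    exfalso
    push Not at hcase
    have hWDea : IsEA r WD := Cfsg.Agent.Helper48.Shult.isEA_mono inf_le_left c.hW
    obtain ⟨u, huWD, hu1, huσ⟩ :=
      Cfsg.Agent.Helper62.Shult.sigma_fixed_point c.hq2 c.hq3 c.hr3 c.hqr σ hS.oσ Q WD c.hQ hWDea
        c.hQinv.1 hσWD hQWD hcase
    have hs : HypSet q W Z1 K := hypSet_of_acfg c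
    by_cases hτD : τ ∈ normalizer (D : Set H)
    · -- `τ` normalizes `D`
      have hDinv : Cfsg.Agent.Helper1.Shult.Inv σ τ D := ⟨hσD, hτD⟩
      have hZD : Z1 ≤ normalizer (D : Set H) := c.hZQ.trans hQD
      have hCσ : ∀ z ∈ Z1, z⁻¹ * (σ * z * σ⁻¹) ∈ D :=
        Cfsg.Agent.Helper62.Shult.sigma_cyclic_quotient hS Z1 D hq hDZ hZD hidx c.hZinv hDinv
      have hτ2 : τ * τ = 1 := by
        have := pow_orderOf_eq_one τ
        rw [hS.oτ, pow_two] at this
        exact this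
      have hτinv : τ⁻¹ = τ := inv_eq_of_mul_eq_one_left hτ2
      -- `τ` inverts `Z1 / D`
      have hτZ : ∀ z ∈ Z1, z * (τ * z * τ⁻¹) ∈ D := by
        intro z hz
        have hτz : τ * z * τ⁻¹ ∈ Z1 := conj_mem_of_mem_normalizer c.hZinv.2 hz
        set y := z * (τ * z * τ⁻¹) with hy
        have hyZ : y ∈ Z1 := Z1.mul_mem hz hτz
        have hyσ : y⁻¹ * (σ * y * σ⁻¹) ∈ D := hCσ y hyZ
        have hyτ : y⁻¹ * (τ * y * τ⁻¹) ∈ D := by
          have e : y⁻¹ * (τ * y * τ⁻¹) =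
              (τ * z * τ⁻¹)⁻¹ * z⁻¹ * (τ * z * τ⁻¹)⁻¹⁻¹ * z⁻¹⁻¹ := by
            rw [hy]
            calc (z * (τ * z * τ⁻¹))⁻¹ * (τ * (z * (τ * z * τ⁻¹)) * τ⁻¹)
                = (τ * z * τ⁻¹)⁻¹ * z⁻¹ * (τ * z * τ⁻¹) * ((τ * τ) * z * (τ * τ)⁻¹) := by group
              _ = (τ * z * τ⁻¹)⁻¹ * z⁻¹ * (τ * z * τ⁻¹)⁻¹⁻¹ * z⁻¹⁻¹ := by
                  rw [hτ2, one_mul, inv_one, mul_one, inv_inv, inv_inv]
          rw [e]
          exact hKD (c.hZcent _ (Z1.inv_mem hτz) _ (Q.inv_mem (c.hZQ hz)))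
        obtain ⟨n, hnD, hnσ, hnτ⟩ := fixed_lift hS D hDinv
          (card_coprime_six_of_le c.hq2 c.hq3 c.hQ hDQ) y hyσ hyτ
        have hynQ : y * n ∈ Q := Q.mul_mem (c.hZQ hyZ) (hDQ hnD)
        have hynfix : y * n ∈ Fix σ τ Q :=
          Cfsg.Agent.Helper60.Shult.mem_fix_of Q (y * n) hynQ hnσ hnτ
        have hynK : y * n ∈ K := by
          rw [c.hK]
          exact ⟨hynQ, c.hfixQ hynfix⟩
        have e : y = (y * n) * n⁻¹ := by group
        rw [e]
        exact D.mul_mem (hKD hynK) (D.inv_mem hnD)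
      -- `τ` inverts the `σ`-fixed points of `W`
      have hτW : ∀ w ∈ W, σ * w * σ⁻¹ = w → τ * w * τ⁻¹ = w⁻¹ := by
        intro w hw hwσ
        have hτw : τ * w * τ⁻¹ ∈ W := conj_mem_of_mem_normalizer c.hWinv.2 hw
        have h1 : τ * (w * (τ * w * τ⁻¹)) * τ⁻¹ = w * (τ * w * τ⁻¹) :=
          Cfsg.Agent.Helper60.Shult.tau_norm_fixed hS W c.hW.1 c.hWinv.2 w hw
        have h2 : σ * (w * (τ * w * τ⁻¹)) * σ⁻¹ = w * (τ * w * τ⁻¹) := by
          have h3 := Cfsg.Agent.Helper60.Shult.tau_conj_sigma_fixed hS w hwσ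
          calc σ * (w * (τ * w * τ⁻¹)) * σ⁻¹ = (σ * w * σ⁻¹) * (σ * (τ * w * τ⁻¹) * σ⁻¹) := by
                group
            _ = w * (τ * w * τ⁻¹) := by rw [hwσ, h3]
        have h4 : w * (τ * w * τ⁻¹) ∈ Fix σ τ W :=
          Cfsg.Agent.Helper60.Shult.mem_fix_of W _ (W.mul_mem hw hτw) h2 h1
        rw [c.hfixW, mem_bot] at h4
        exact (eq_inv_of_mul_eq_one_right h4)
      have huW : u ∈ W := huWD.1
      have huD : ∀ d ∈ D, d * u = u * d := fun d hd => (mem_centralizer_iff.mp huWD.2) d hd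
      have hτu : τ * u * τ⁻¹ = u⁻¹ := hτW u huW huσ
      -- every `z ∈ Z1` has `z * z` commuting with `u`
      have hsq : ∀ z ∈ Z1, (z * z) * u = u * (z * z) := by
        intro z hz
        have hzQ : z ∈ Q := c.hZQ hz
        set w' := z * u * z⁻¹ with hw'
        have hw'W : w' ∈ W := conj_mem_of_mem_normalizer (c.hQW hzQ) huW
        have hw'σ : σ * w' * σ⁻¹ = w' := by
          set d := z⁻¹ * (σ * z * σ⁻¹) with hd
          have hdD : d ∈ D := hCσ z hz
          have e1 : σ * z * σ⁻¹ = z * d := by rw [hd]; group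
          have hdu : d * u * d⁻¹ = u := by
            rw [huD d hdD]; group
          calc σ * w' * σ⁻¹ = (σ * z * σ⁻¹) * (σ * u * σ⁻¹) * (σ * z * σ⁻¹)⁻¹ := by
                rw [hw']; group
            _ = (z * d) * u * (z * d)⁻¹ := by rw [huσ, e1]
            _ = z * (d * u * d⁻¹) * z⁻¹ := by group
            _ = w' := by rw [hdu]
        have h1 : τ * w' * τ⁻¹ = w'⁻¹ := hτW w' hw'W hw'σ
        have h2 : τ * w' * τ⁻¹ = z⁻¹ * u⁻¹ * z := by
          set e := z * (τ * z * τ⁻¹) with he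
          have heD : e ∈ D := hτZ z hz
          have e1 : τ * z * τ⁻¹ = z⁻¹ * e := by rw [he]; group
          have heu : e * u⁻¹ * e⁻¹ = u⁻¹ := by
            have : e * u = u * e := huD e heD
            calc e * u⁻¹ * e⁻¹ = u⁻¹ * (u * e) * u⁻¹ * e⁻¹ := by group
              _ = u⁻¹ * (e * u) * u⁻¹ * e⁻¹ := by rw [this]
              _ = u⁻¹ := by group
          calc τ * w' * τ⁻¹ = (τ * z * τ⁻¹) * (τ * u * τ⁻¹) * (τ * z * τ⁻¹)⁻¹ := by
                rw [hw']; group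
            _ = (z⁻¹ * e) * u⁻¹ * (z⁻¹ * e)⁻¹ := by rw [hτu, e1]
            _ = z⁻¹ * (e * u⁻¹ * e⁻¹) * z := by group
            _ = z⁻¹ * u⁻¹ * z := by rw [heu]
        have h3 : z * u⁻¹ * z⁻¹ = z⁻¹ * u⁻¹ * z := by
          rw [← h2, h1, hw']; group
        have h4 : (z * z) * u⁻¹ = u⁻¹ * (z * z) := by
          calc (z * z) * u⁻¹ = z * (z * u⁻¹ * z⁻¹) * z := by group
            _ = z * (z⁻¹ * u⁻¹ * z) * z := by rw [h3]
            _ = u⁻¹ * (z * z) := by group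
        calc (z * z) * u = u * (u⁻¹ * (z * z)) * u := by group
          _ = u * ((z * z) * u⁻¹) * u := by rw [h4]
          _ = u * (z * z) := by group
      have hZodd : Odd (Nat.card Z1) :=
        odd_card_of_coprime_six (card_coprime_six_of_le c.hq2 c.hq3 c.hQ c.hZQ)
      have huZ : u ∈ W ⊓ centralizer (Z1 : Set H) := by
        refine mem_inf.mpr ⟨huW, ?_⟩
        rw [mem_centralizer_iff]
        intro z hz
        exact commute_of_sq_commute hZodd hz (hsq z hz)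
      rw [c.hfix, mem_bot] at huZ
      exact hu1 huZ
    · -- `τ` does not normalize `D`: (O2)
      exact hu1 (Cfsg.Agent.Helper60.Shult.orbit_sigma hS hs c.hWinv c.hZinv hKinv c.hfixW D hD'
        hσD hτD u huWD huσ)

end Cfsg.Agent.Helper1.ShultA
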