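import Mathlib
import Cfsg.Agent.Helper1.ShultDefs
import Cfsg.Agent.Helper1.ShultAmb
import Cfsg.Agent.Helper1.ShultAsigma
import Cfsg.Agent.Helper48.ShultAm
import Cfsg.Agent.Helper60.ShultO
import Cfsg.Agent.Helper70.ShultACfg

set_option autoImplicit false

/-!
# Shult's theorem for `S₃` (S4305): Lemma A assembled
-/

namespace Cfsg.Agent.Helper1.Shult

open Subgroup

universe u

/-- (Aτ) with the exact skeleton signature, from helper70's `lemmaA_tau_of`. -/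
theorem lemmaA_tau {H : Type*} [Group H] [Finite H] {q r : ℕ} [Fact q.Prime] [Fact r.Prime]
    {σ τ : H} {Q W Z1 K : Subgroup H}
    (c : ACfg q r σ τ Q W Z1 K) (D : Subgroup H) (hD : IsHyp q Z1 K D)
    (hτD : τ ∈ normalizer (D : Set H)) (hσD : σ ∉ normalizer (D : Set H)) :
    ⁅Q, Q⁆ ≤ centralizer ((W ⊓ centralizer (D : Set H) : Subgroup H) : Set H) :=
  Cfsg.Agent.Helper70.ShultA.lemmaA_tau_of
    (fun N hN hcop y h1 h2 => fixed_lift c.hS N hN hcop y h1 h2) c D hD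
    (Cfsg.Agent.Helper60.Shult.orbit_tau c.hS (Cfsg.Agent.Helper1.ShultA.hypSet_of_acfg c)
      c.hWinv c.hZinv (Cfsg.Agent.Helper1.ShultA.inv_K_of_acfg c) c.hfixW D hD hτD hσD)

/-- **Lemma A.** -/
theorem lemmaA : LemmaAStmt.{u} :=
  Cfsg.Agent.Helper48.Shult.lemmaA_of_cases
    (fun H _ _ q r _ _ σ τ Q W Z1 K c D hD hσ => Cfsg.Agent.Helper1.ShultA.lemmaA_sigma c D hD hσ)
    (fun H _ _ q r _ _ σ τ Q W Z1 K c D hD hτ hσ => lemmaA_tau c D hD hτ hσ)

end Cfsg.Agent.Helper1.Shult
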