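import Mathlib
import Cfsg.Agent.Helper1.ShultDefs

set_option autoImplicit false

/-!
# Shult's theorem for `S₃`: from the ambient form to `MulDistribMulAction (Equiv.Perm (Fin 3)) G`

`H := G ⋊ S₃`, `σ := (0 1 2)`, `τ := (0 1)`.
-/

namespace Cfsg.Agent.Helper1.Shult

open Subgroup

universe u

theorem perm3_closure :
    closure ({(c[0, 1, 2] : Equiv.Perm (Fin 3)), Equiv.swap 0 1} : Set (Equiv.Perm (Fin 3))) = ⊤ := by
  rw [eq_top_iff]
  intro x _
  have h1 : (c[0, 1, 2] : Equiv.Perm (Fin 3)) ∈
      closure ({(c[0, 1, 2] : Equiv.Perm (Fin 3)), Equiv.swap 0 1} : Set (Equiv.Perm (Fin 3))) :=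
    subset_closure (by simp)
  have h2 : (Equiv.swap 0 1 : Equiv.Perm (Fin 3)) ∈
      closure ({(c[0, 1, 2] : Equiv.Perm (Fin 3)), Equiv.swap 0 1} : Set (Equiv.Perm (Fin 3))) :=
    subset_closure (by simp)
  have key : ∀ y : Equiv.Perm (Fin 3), y = 1 ∨ y = c[0, 1, 2] ∨ y = c[0, 1, 2] * c[0, 1, 2] ∨
      y = Equiv.swap 0 1 ∨ y = c[0, 1, 2] * Equiv.swap 0 1 ∨
      y = c[0, 1, 2] * c[0, 1, 2] * Equiv.swap 0 1 := by
    decide
  rcases key x with rfl | rfl | rfl | rfl | rfl | rfl
  · exact Subgroup.one_mem _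
  · exact h1
  · exact Subgroup.mul_mem _ h1 h1
  · exact h2
  · exact Subgroup.mul_mem _ h1 h2
  · exact Subgroup.mul_mem _ (Subgroup.mul_mem _ h1 h1) h2

theorem shult_of_ambient (hW : ShultAmbientStmt.{u}) {G : Type u} [Group G] [Finite G]
    [Group.IsSolvable G] [MulDistribMulAction (Equiv.Perm (Fin 3)) G]
    (hcop : (Nat.card G).Coprime 6)
    (hfpf : ∀ g : G, (∀ a : Equiv.Perm (Fin 3), a • g = g) → g = 1) :
    Group.IsNilpotent ↥(commutator G) := by
  classical
  let φ : Equiv.Perm (Fin 3) →* MulAut G := MulDistribMulAction.toMulAut (Equiv.Perm (Fin 3)) G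
  let H := G ⋊[φ] Equiv.Perm (Fin 3)
  haveI : Finite H := Finite.of_equiv _ (SemidirectProduct.equivProd (φ := φ)).symm
  let iL : G →* H := SemidirectProduct.inl
  let iR : Equiv.Perm (Fin 3) →* H := SemidirectProduct.inr
  have hiL : Function.Injective iL := SemidirectProduct.inl_injective
  have hiR : Function.Injective iR := SemidirectProduct.inr_injective
  have hconj : ∀ (a : Equiv.Perm (Fin 3)) (g : G), iR a * iL g * (iR a)⁻¹ = iL (a • g) := by
    intro a g
    have := SemidirectProduct.inl_aut (φ := φ) a g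
    rw [map_inv] at this
    exact this.symm
  set σ : H := iR c[0, 1, 2] with hσ
  set τ : H := iR (Equiv.swap 0 1) with hτ
  have hS : S3Pair σ τ := by
    refine ⟨?_, ?_, ?_⟩
    · rw [hσ, orderOf_injective iR hiR]
      have : Fact (Nat.Prime 3) := ⟨Nat.prime_three⟩
      apply orderOf_eq_prime
      · decide
      · decide
    · rw [hτ, orderOf_injective iR hiR]
      have : Fact (Nat.Prime 2) := ⟨Nat.prime_two⟩
      apply orderOf_eq_prime
      · decide
      · decide
    · rw [hσ, hτ, ← map_inv, ← map_inv, ← map_mul, ← map_mul]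
      congr 1
      decide
  set G' : Subgroup H := iL.range with hG'
  have hGn : G'.Normal := by
    rw [hG', show iL.range = (SemidirectProduct.rightHom (φ := φ)).ker from
      SemidirectProduct.range_inl_eq_ker_rightHom]
    infer_instance
  have hrange : iR.range ≤ closure ({σ, τ} : Set H) := by
    rintro _ ⟨a, rfl⟩
    have e : closure ({σ, τ} : Set H) =
        (closure ({(c[0, 1, 2] : Equiv.Perm (Fin 3)), Equiv.swap 0 1} :
          Set (Equiv.Perm (Fin 3)))).map iR := by
      rw [MonoidHom.map_closure, Set.image_pair]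
    rw [e, perm3_closure]
    exact ⟨a, mem_top a, rfl⟩
  have hGA : G' ⊔ closure ({σ, τ} : Set H) = ⊤ := by
    rw [eq_top_iff]
    intro x _
    have hx : x = iL x.left * iR x.right := (SemidirectProduct.inl_left_mul_inr_right x).symm
    rw [hx]
    exact Subgroup.mul_mem _ (Subgroup.mem_sup_left ⟨_, rfl⟩)
      (Subgroup.mem_sup_right (hrange ⟨_, rfl⟩))
  have hGsol : Group.IsSolvable G' := Group.isSolvable_of_surjective iL.rangeRestrict_surjective
  have hcardG' : Nat.card G' = Nat.card G :=
    Nat.card_congr (MonoidHom.ofInjective hiL).toEquiv.symm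
  have hcop' : (Nat.card G').Coprime 6 := by rw [hcardG']; exact hcop
  have hfix : Fix σ τ G' = ⊥ := by
    rw [eq_bot_iff]
    rintro _ ⟨⟨g, rfl⟩, hc⟩
    rw [mem_bot]
    have hcl : closure ({σ, τ} : Set H) ≤ centralizer ({iL g} : Set H) := by
      rw [closure_le]
      intro a ha
      rw [SetLike.mem_coe, mem_centralizer_iff]
      intro b hb
      rw [Set.mem_singleton_iff] at hb
      subst hb
      exact (hc a ha).symm
    have hg1 : g = 1 := by
      apply hfpf
      intro a
      have h0 : iR a ∈ centralizer ({iL g} : Set H) := hcl (hrange ⟨a, rfl⟩)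
      have h1 : iL g * iR a = iR a * iL g := (mem_centralizer_iff.mp h0) (iL g) (Set.mem_singleton _)
      have h2 : iR a * iL g * (iR a)⁻¹ = iL g := by
        rw [← h1, mul_inv_cancel_right]
      rw [hconj] at h2
      exact hiL h2
    rw [hg1, map_one]
  obtain ⟨k, hk⟩ := hW H σ τ G' hS hGn hGA hGsol hcop' hfix
  rw [Subgroup.isNilpotent_iff_lowerCentralSeries]
  refine ⟨k, ?_⟩
  have hmap : (commutator G).map iL = ⁅G', G'⁆ := by
    rw [_root_.commutator_def, Subgroup.map_commutator, ← MonoidHom.range_eq_map]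
  have : ((commutator G).lowerCentralSeries k).map iL = ⊥ := by
    rw [Subgroup.map_lowerCentralSeries, hmap, hk]
  exact (Subgroup.map_eq_bot_iff_of_injective _ hiL).mp this

end Cfsg.Agent.Helper1.Shult
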