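import Mathlib
import Cfsg.Agent.Helper42.StDefs
import Cfsg.Agent.Helper67.StSCH

set_option autoImplicit false

/-! Piece (HOM) of helper42's plan for S2425: the number of equivariant maps from a semisimple
endomorphism to a simple one. -/

namespace Cfsg.Agent.Helper1.StHom

open Finset Polynomial Cfsg.Agent.Helper42.StVal


variable {F : Type*} [Field F]

/-- Equivariant maps are transported along a conjugating linear equivalence of the source. -/
theorem card_eqHom_conj {M M' N : Type*} [AddCommGroup M] [Module F M] [AddCommGroup M']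
    [Module F M'] [AddCommGroup N] [Module F N] (e : M' ≃ₗ[F] M) (φ : Module.End F M)
    (φ' : Module.End F M') (h : φ ∘ₗ (e : M' →ₗ[F] M) = (e : M' →ₗ[F] M) ∘ₗ φ')
    (ψ : Module.End F N) : Nat.card (eqHom φ ψ) = Nat.card (eqHom φ' ψ) := by
  have h' : φ' ∘ₗ (e.symm : M →ₗ[F] M') = (e.symm : M →ₗ[F] M') ∘ₗ φ := by
    ext x
    apply e.injective
    have := LinearMap.congr_fun h (e.symm x)
    simp only [LinearMap.coe_comp, LinearEquiv.coe_coe, Function.comp_apply,
      LinearEquiv.apply_symm_apply] at this ⊢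
    exact this.symm
  refine Nat.card_congr
    { toFun := fun f => ⟨(f : M →ₗ[F] N) ∘ₗ (e : M' →ₗ[F] M), ?_⟩
      invFun := fun f => ⟨(f : M' →ₗ[F] N) ∘ₗ (e.symm : M →ₗ[F] M'), ?_⟩
      left_inv := ?_
      right_inv := ?_ }
  · have hf := mem_eqHom.mp f.2
    rw [mem_eqHom, LinearMap.comp_assoc, ← h, ← LinearMap.comp_assoc, hf, LinearMap.comp_assoc]
  · have hf := mem_eqHom.mp f.2
    rw [mem_eqHom, LinearMap.comp_assoc, ← h', ← LinearMap.comp_assoc, hf, LinearMap.comp_assoc]
  · intro f
    apply Subtype.ext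
    ext x
    simp
  · intro f
    apply Subtype.ext
    ext x
    simp

/-- Equivariant maps out of a product. -/
theorem card_eqHom_prodMap {M₁ M₂ N : Type*} [AddCommGroup M₁] [Module F M₁] [AddCommGroup M₂]
    [Module F M₂] [AddCommGroup N] [Module F N] (φ₁ : Module.End F M₁) (φ₂ : Module.End F M₂)
    (ψ : Module.End F N) :
    Nat.card (eqHom (φ₁.prodMap φ₂) ψ) = Nat.card (eqHom φ₁ ψ) * Nat.card (eqHom φ₂ ψ) := by
  rw [← Nat.card_prod]
  refine Nat.card_congr
    { toFun := fun f => (⟨(f : M₁ × M₂ →ₗ[F] N) ∘ₗ LinearMap.inl F M₁ M₂, ?_⟩,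
        ⟨(f : M₁ × M₂ →ₗ[F] N) ∘ₗ LinearMap.inr F M₁ M₂, ?_⟩)
      invFun := fun f => ⟨(f.1 : M₁ →ₗ[F] N).coprod (f.2 : M₂ →ₗ[F] N), ?_⟩
      left_inv := ?_
      right_inv := ?_ }
  · have hf := mem_eqHom.mp f.2
    rw [mem_eqHom]
    ext x
    have := LinearMap.congr_fun hf (x, 0)
    simpa using this
  · have hf := mem_eqHom.mp f.2
    rw [mem_eqHom]
    ext x
    have := LinearMap.congr_fun hf (0, x)
    simpa using this
  · have h1 := mem_eqHom.mp f.1.2
    have h2 := mem_eqHom.mp f.2.2
    rw [mem_eqHom]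
    ext x
    · have := LinearMap.congr_fun h1 x
      simpa using this
    · have := LinearMap.congr_fun h2 x
      simpa using this
  · intro f
    apply Subtype.ext
    simp
  · intro f
    apply Prod.ext
    · apply Subtype.ext
      ext x
      simp
    · apply Subtype.ext
      ext x
      simp

/-- A minimal nonzero invariant subspace. -/
theorem exists_minimal_invt {M : Type*} [AddCommGroup M] [Module F M] [FiniteDimensional F M]
    [Nontrivial M] (φ : Module.End F M) :
    ∃ S ∈ φ.invtSubmodule, S ≠ ⊥ ∧ ∀ p ∈ φ.invtSubmodule, p ≤ S → p = ⊥ ∨ p = S := by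
  obtain ⟨S, ⟨hS, hS0⟩, hmin⟩ := (wellFounded_lt : WellFounded
    ((· < ·) : Submodule F M → Submodule F M → Prop)).has_min
    {p | p ∈ φ.invtSubmodule ∧ p ≠ ⊥} ⟨⊤, Module.End.invtSubmodule.top_mem φ, top_ne_bot⟩
  refine ⟨S, hS, hS0, fun p hp hpS => ?_⟩
  by_cases hp0 : p = ⊥
  · exact Or.inl hp0
  · right
    rcases lt_or_eq_of_le hpS with h | h
    · exact absurd h (hmin p ⟨hp, hp0⟩)
    · exact h

/-- The restriction to a minimal invariant subspace is simple. -/
theorem isSimpleEnd_restrict {M : Type*} [AddCommGroup M] [Module F M] (φ : Module.End F M)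
    {S : Submodule F M} (hS : S ∈ φ.invtSubmodule) (hS0 : S ≠ ⊥)
    (hmin : ∀ p ∈ φ.invtSubmodule, p ≤ S → p = ⊥ ∨ p = S) :
    IsSimpleEnd (φ.restrict hS) := by
  refine ⟨(Submodule.nontrivial_iff_ne_bot).mpr hS0, fun p hp => ?_⟩
  have hinv : p.map S.subtype ∈ φ.invtSubmodule := by
    rw [Module.End.mem_invtSubmodule]
    rintro x ⟨y, hy, rfl⟩
    rw [Module.End.mem_invtSubmodule] at hp
    have := hp hy
    rw [Submodule.mem_comap] at this ⊢
    exact ⟨_, this, rfl⟩
  rcases hmin _ hinv (Submodule.map_subtype_le S p) with h | h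
  · left
    apply Submodule.map_injective_of_injective S.injective_subtype
    rw [h, Submodule.map_bot]
  · right
    apply Submodule.map_injective_of_injective S.injective_subtype
    rw [h, Submodule.map_subtype_top]

universe u

theorem card_eqHom_aux [Fintype F] [DecidableEq F] {N : Type*} [AddCommGroup N] [Module F N]
    [FiniteDimensional F N] (ψ : Module.End F N) (hψ : IsSimpleEnd ψ) :
    ∀ (d : ℕ) (M : Type u) [AddCommGroup M] [Module F M] [FiniteDimensional F M]
      (φ : Module.End F M), φ.IsSemisimple → Module.finrank F M = d →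
      Nat.card (eqHom φ ψ) = Fintype.card F ^ (ψ.charpoly.natDegree *
        (UniqueFactorizationMonoid.normalizedFactors φ.charpoly).count ψ.charpoly) := by
  intro d
  induction d using Nat.strong_induction_on with
  | _ d ih =>
  intro M _ _ _ φ hφ hd
  by_cases hM : Subsingleton M
  · have h1 : φ.charpoly = 1 := by
      have hmon := LinearMap.charpoly_monic φ
      have hdeg : φ.charpoly.natDegree = 0 := by
        rw [LinearMap.charpoly_natDegree]
        exact Module.finrank_zero_of_subsingleton
      exact Polynomial.eq_one_of_monic_natDegree_zero hmon hdeg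
    rw [h1, UniqueFactorizationMonoid.normalizedFactors_one, Multiset.count_zero, mul_zero,
      pow_zero]
    haveI : Subsingleton (M →ₗ[F] N) := ⟨fun a b => by ext x; rw [Subsingleton.elim x 0]; simp⟩
    haveI : Subsingleton (eqHom φ ψ) := inferInstance
    exact Nat.card_unique
  · haveI : Nontrivial M := not_subsingleton_iff_nontrivial.mp hM
    obtain ⟨S, hS, hS0, hmin⟩ := exists_minimal_invt φ
    obtain ⟨M2, hM2, hc⟩ := Module.End.isSemisimple_iff.mp hφ S hS
    have hφ1 : IsSimpleEnd (φ.restrict hS) := isSimpleEnd_restrict φ hS hS0 hmin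
    have hφ2 : Module.End.IsSemisimple (φ.restrict hM2) := hφ.restrict hM2
    have he : φ ∘ₗ ((Submodule.prodEquivOfIsCompl S M2 hc : (S × M2) ≃ₗ[F] M) : S × M2 →ₗ[F] M)
        = ((Submodule.prodEquivOfIsCompl S M2 hc : (S × M2) ≃ₗ[F] M) : S × M2 →ₗ[F] M) ∘ₗ
          ((φ.restrict hS).prodMap (φ.restrict hM2)) := by
      ext x
      · simp only [LinearMap.coe_comp, LinearEquiv.coe_coe, LinearMap.coe_inl, Function.comp_apply,
          Submodule.coe_prodEquivOfIsCompl, LinearMap.coprod_apply, Submodule.coe_subtype, map_zero,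
          ZeroMemClass.coe_zero, add_zero, LinearMap.prodMap_apply]
        rfl
      · simp only [LinearMap.coe_comp, LinearEquiv.coe_coe, LinearMap.coe_inr, Function.comp_apply,
          Submodule.coe_prodEquivOfIsCompl, LinearMap.coprod_apply, Submodule.coe_subtype, map_zero,
          ZeroMemClass.coe_zero, zero_add, LinearMap.prodMap_apply]
        rfl
    rw [card_eqHom_conj _ φ _ he ψ, card_eqHom_prodMap]
    have hcp : φ.charpoly = (φ.restrict hS).charpoly * (φ.restrict hM2).charpoly := by
      rw [← LinearMap.charpoly_prodMap,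
        ← (Submodule.prodEquivOfIsCompl S M2 hc).charpoly_conj]
      congr 1
      ext x
      have := LinearMap.congr_fun he ((Submodule.prodEquivOfIsCompl S M2 hc).symm x)
      simp only [LinearMap.coe_comp, LinearEquiv.coe_coe, Function.comp_apply,
        LinearEquiv.apply_symm_apply] at this
      rw [LinearEquiv.conj_apply]
      simp only [LinearMap.coe_comp, LinearEquiv.coe_coe, Function.comp_apply]
      exact this
    have hlt : Module.finrank F M2 < d := by
      have h1 := Submodule.finrank_add_eq_of_isCompl hc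
      have h2 : 0 < Module.finrank F S := by
        rw [Module.finrank_pos_iff]
        exact (Submodule.nontrivial_iff_ne_bot).mpr hS0
      omega
    rw [ih _ hlt M2 (φ.restrict hM2) hφ2 rfl, hcp]
    have hirr := Cfsg.Agent.Helper67.StVal.irreducible_charpoly_of_isSimpleEnd (φ.restrict hS) hφ1
    have hmon : (φ.restrict hS).charpoly.Monic := LinearMap.charpoly_monic _
    rw [UniqueFactorizationMonoid.normalizedFactors_mul hmon.ne_zero
      (LinearMap.charpoly_monic (φ.restrict hM2)).ne_zero,
      UniqueFactorizationMonoid.normalizedFactors_irreducible hirr, hmon.normalize_eq_self,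
      Multiset.count_add, Multiset.count_singleton]
    by_cases heq : (φ.restrict hS).charpoly = ψ.charpoly
    · rw [Cfsg.Agent.Helper67.StVal.card_eqHom_of_charpoly_eq _ ψ hφ1 hψ heq, if_pos heq.symm, ← pow_add]
      congr 1
      ring
    · rw [Cfsg.Agent.Helper67.StVal.eqHom_eq_bot_of_charpoly_ne _ ψ hφ1 hψ heq, if_neg (Ne.symm heq)]
      simp

/-- (HOM) of board post 4228. -/
theorem card_eqHom {F M N : Type*} [Field F] [Fintype F] [DecidableEq F] [AddCommGroup M]
    [Module F M] [AddCommGroup N] [Module F N] [FiniteDimensional F M] [FiniteDimensional F N]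
    (φ : Module.End F M) (ψ : Module.End F N) (hφ : φ.IsSemisimple) (hψ : IsSimpleEnd ψ) :
    Nat.card (eqHom φ ψ) = Fintype.card F ^ (ψ.charpoly.natDegree *
      (UniqueFactorizationMonoid.normalizedFactors φ.charpoly).count ψ.charpoly) :=
  card_eqHom_aux ψ hψ _ M φ hφ rfl

end Cfsg.Agent.Helper1.StHom
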