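import Cfsg.Agent.Helper1.ThompsonJ
import Cfsg.Agent.Helper53.NormalComplement

/-!
# Thompson's normal `p`-complement theorem: structure of a minimal counterexample, part 1 (helper1)

`TSetup p P H K`: `H = O_p(G) ≤ K ⊴ G`, `K/H` a `p'`-group, `G = K P`, `K ∩ P = H`, every proper subgroup
containing the Sylow `p`-subgroup `P` has a normal `p`-complement but `G` has none.
-/

set_option autoImplicit false
set_option linter.unusedSectionVars false
set_option linter.style.haveILetI false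

namespace Cfsg.Agent.Helper1

open Subgroup

universe u

variable {G : Type u} [Group G]

/-- Dedekind's law with a normal subgroup -/
theorem inf_sup_of_le_of_le_normalizer {N K P : Subgroup G} (hNK : N ≤ K)
    (hP : P ≤ normalizer (N : Set G)) : K ⊓ (N ⊔ P) = N ⊔ (K ⊓ P) := by
  apply le_antisymm
  · intro x hx
    obtain ⟨hxK, hxNP⟩ := Subgroup.mem_inf.mp hx
    have h1 : x ∈ ((N ⊔ P : Subgroup G) : Set G) := hxNP
    rw [Subgroup.coe_mul_of_right_le_normalizer_left N P hP] at h1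
    obtain ⟨n, hn, y, hy, rfl⟩ := h1
    have hyK : y ∈ K := by
      have : y = n⁻¹ * (n * y) := by group
      rw [this]
      exact K.mul_mem (K.inv_mem (hNK hn)) hxK
    exact Subgroup.mul_mem_sup hn (Subgroup.mem_inf.mpr ⟨hyK, hy⟩)
  · exact sup_le (le_inf hNK le_sup_left) (inf_le_inf_left K le_sup_right)

theorem mem_of_pow_mem_of_coprime {K : Subgroup G} {x : G} {n : ℕ} (hx : x ^ n ∈ K)
    (hcop : n.Coprime (orderOf x)) : x ∈ K := by
  obtain ⟨m, hm⟩ := exists_pow_eq_self_of_coprime hcop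
  rw [← hm]
  exact K.pow_mem hx m

structure TSetup (p : ℕ) (P : Sylow p G) (H K : Subgroup G) : Prop where
  Hn : H.Normal
  Kn : K.Normal
  HP : H ≤ (P : Subgroup G)
  HK : H ≤ K
  KP : K ⊓ (P : Subgroup G) ≤ H
  top : K ⊔ (P : Subgroup G) = ⊤
  exm : ∃ m : ℕ, m.Coprime p ∧ ∀ k ∈ K, k ^ m ∈ H
  Op : ∀ Y : Subgroup G, Y.Normal → IsPGroup p Y → Y ≤ H
  prop : ∀ M : Subgroup G, (P : Subgroup G) ≤ M → M ≠ ⊤ → Cfsg.HasNormalPComplement p ↥M
  notnpc : ¬ Cfsg.HasNormalPComplement p G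

/-- `C₁ = C_K(H) H` -/
def C1 (H K : Subgroup G) : Subgroup G := (K ⊓ centralizer (H : Set G)) ⊔ H

namespace TSetup

variable [Finite G] {p : ℕ} [hp : Fact p.Prime] {P : Sylow p G} {H K : Subgroup G}

theorem isPGroup_H (s : TSetup p P H K) : IsPGroup p H := P.2.to_le s.HP

theorem pprime_mem_K (s : TSetup p P H K) {g : G} (hg : (orderOf g).Coprime p) : g ∈ K := by
  haveI := s.Kn
  have h1 : K.index ∣ Nat.card (P : Subgroup G) := by
    have h2 : K.relIndex ((P : Subgroup G) ⊔ K) = K.relIndex (P : Subgroup G) :=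
      Subgroup.relIndex_sup_right (P : Subgroup G) K
    rw [sup_comm, s.top, Subgroup.relIndex_top_right] at h2
    rw [h2]
    exact Subgroup.relIndex_dvd_card _ _
  obtain ⟨n, hn⟩ := IsPGroup.iff_card.mp P.2
  rw [hn] at h1
  obtain ⟨j, -, hj⟩ := (Nat.dvd_prime_pow hp.out).mp h1
  have h3 : g ^ K.index ∈ K := Subgroup.pow_index_mem K g
  rw [hj] at h3
  exact mem_of_pow_mem_of_coprime h3 (Nat.Coprime.pow_left j hg.symm)

theorem pelem_K_mem_H (s : TSetup p P H K) {k : G} (hk : k ∈ K) {j : ℕ} (hkp : k ^ (p ^ j) = 1) :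
    k ∈ H := by
  obtain ⟨m, hm, hK⟩ := s.exm
  apply mem_of_pow_mem_of_coprime (hK k hk)
  have h1 : orderOf k ∣ p ^ j := orderOf_dvd_of_pow_eq_one hkp
  exact Nat.Coprime.coprime_dvd_right h1 (Nat.Coprime.pow_right j hm)

theorem C1_normal (s : TSetup p P H K) : (C1 H K).Normal := by
  haveI := s.Hn
  haveI := s.Kn
  unfold C1
  infer_instance

theorem H_le_C1 : H ≤ C1 H K := le_sup_right

theorem C1_le_K (s : TSetup p P H K) : C1 H K ≤ K := sup_le inf_le_left s.HK

theorem le_normalizer_C1 (s : TSetup p P H K) (X : Subgroup G) : X ≤ normalizer (C1 H K : Set G) := by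
  haveI := s.C1_normal
  exact Subgroup.le_normalizer_of_normal

/-- if `K = C_K(H) H`, every `p'`-element centralizes `H` -/
theorem pprime_centralize (s : TSetup p P H K) (h : C1 H K = K) {g : G}
    (hg : (orderOf g).Coprime p) : g ∈ centralizer (H : Set G) := by
  haveI := s.Hn
  have hgK : g ∈ C1 H K := by rw [h]; exact s.pprime_mem_K hg
  have h1 : g ∈ ((K ⊓ centralizer (H : Set G) ⊔ H : Subgroup G) : Set G) := hgK
  rw [Subgroup.mul_normal] at h1
  obtain ⟨c, hc, h', hh', rfl⟩ := h1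
  have hcC : c ∈ centralizer (H : Set G) := (Subgroup.mem_inf.mp hc).2
  -- the automorphism of `H` induced by `c * h'` is the one induced by `h'`
  let ψ : G →* MulAut ↥H := MulAut.conjNormal
  have hψ : ψ (c * h') = ψ h' := by
    ext y
    show c * h' * y * (c * h')⁻¹ = h' * y * h'⁻¹
    have h2 : h' * (y : G) * h'⁻¹ ∈ H := H.mul_mem (H.mul_mem hh' y.2) (H.inv_mem hh')
    have h3 := (Subgroup.mem_centralizer_iff.mp hcC) _ h2
    calc c * h' * y * (c * h')⁻¹ = c * (h' * y * h'⁻¹) * c⁻¹ := by group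
      _ = (h' * y * h'⁻¹) * c * c⁻¹ := by rw [← h3]
      _ = h' * y * h'⁻¹ := by group
  have ho1 : orderOf (ψ (c * h')) ∣ orderOf (c * h') := orderOf_map_dvd ψ _
  have ho2 : ∃ j, orderOf (ψ h') = p ^ j := by
    obtain ⟨j, hj⟩ := (s.isPGroup_H) ⟨h', hh'⟩
    have h4 : h' ^ (p ^ j) = 1 := congrArg Subtype.val hj
    have h5 : (ψ h') ^ (p ^ j) = 1 := by rw [← map_pow, h4, map_one]
    obtain ⟨i, -, hi⟩ := (Nat.dvd_prime_pow hp.out).mp (orderOf_dvd_of_pow_eq_one h5)
    exact ⟨i, hi⟩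
  obtain ⟨j, hj⟩ := ho2
  rw [hψ, hj] at ho1
  have h6 : p ^ j = 1 := Nat.eq_one_of_dvd_coprimes (Nat.Coprime.pow_left j hg.symm) dvd_rfl ho1
  have h7 : ψ (c * h') = 1 := by
    rw [hψ, ← orderOf_eq_one_iff, hj, h6]
  rw [Subgroup.mem_centralizer_iff]
  intro y hy
  have h8 := congrArg (fun f : MulAut ↥H => ((f ⟨y, hy⟩ : ↥H) : G)) h7
  have h9 : c * h' * y * (c * h')⁻¹ = y := h8
  calc y * (c * h') = (c * h' * y * (c * h')⁻¹) * (c * h') := by rw [h9]
    _ = c * h' * y := by group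

end TSetup

end Cfsg.Agent.Helper1
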