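import Cfsg.Agent.Helper1.ThompsonEnd1

/-!
# Thompson's normal `p`-complement theorem: structure of a minimal counterexample, part 2 (helper1)
-/

set_option autoImplicit false
set_option linter.unusedSectionVars false
set_option linter.style.haveILetI false

namespace Cfsg.Agent.Helper1

open Subgroup

universe u

variable {G : Type u} [Group G]

theorem mem_of_pow_mem_of_pow_mem {N : Subgroup G} {x : G} {a b : ℕ} (ha : x ^ a ∈ N)
    (hb : x ^ b ∈ N) (hab : a.Coprime b) : x ∈ N := by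
  have h1 : ((Nat.gcd a b : ℕ) : ℤ) = a * Nat.gcdA a b + b * Nat.gcdB a b := Nat.gcd_eq_gcd_ab a b
  rw [hab] at h1
  have h2 : x = x ^ ((a : ℤ) * Nat.gcdA a b + b * Nat.gcdB a b) := by
    rw [← h1]; simp
  rw [h2, zpow_add, zpow_mul, zpow_mul, zpow_natCast, zpow_natCast]
  exact N.mul_mem (N.zpow_mem ha _) (N.zpow_mem hb _)

/-- the `p'`-part of an element, as a power -/
theorem exists_pow_coprime_orderOf [Finite G] (p : ℕ) [hp : Fact p.Prime] (x : G) :
    ∃ a : ℕ, (orderOf (x ^ (p ^ a))).Coprime p := by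
  have hpos : orderOf x ≠ 0 := (orderOf_pos x).ne'
  refine ⟨(orderOf x).factorization p, ?_⟩
  rw [orderOf_pow_of_dvd (pow_ne_zero _ hp.out.ne_zero) (Nat.ordProj_dvd _ _)]
  exact (Nat.coprime_ordCompl hp.out hpos).symm

namespace TSetup

variable [Finite G] {p : ℕ} [hp : Fact p.Prime] {P : Sylow p G} {H K : Subgroup G}

/-- `K` is generated by `H` and its `p'`-elements -/
theorem K_le_of (s : TSetup p P H K) {N : Subgroup G} (hHN : H ≤ N)
    (hN : ∀ g ∈ K, (orderOf g).Coprime p → g ∈ N) : K ≤ N := by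
  intro k hk
  obtain ⟨m, hm, hK⟩ := s.exm
  obtain ⟨a, ha⟩ := exists_pow_coprime_orderOf p k
  have h1 : k ^ (p ^ a) ∈ N := hN _ (K.pow_mem hk _) ha
  have h2 : k ^ m ∈ N := hHN (hK k hk)
  exact mem_of_pow_mem_of_pow_mem h1 h2 (Nat.Coprime.pow_left a hm.symm)

theorem pprime_mem_of_sup_eq_top (T : Subgroup G) [T.Normal] (hT : T ⊔ (P : Subgroup G) = ⊤)
    {g : G} (hg : (orderOf g).Coprime p) : g ∈ T := by
  have h1 : T.index ∣ Nat.card (P : Subgroup G) := by
    have h2 : T.relIndex ((P : Subgroup G) ⊔ T) = T.relIndex (P : Subgroup G) :=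
      Subgroup.relIndex_sup_right (P : Subgroup G) T
    rw [sup_comm, hT, Subgroup.relIndex_top_right] at h2
    rw [h2]
    exact Subgroup.relIndex_dvd_card _ _
  obtain ⟨n, hn⟩ := IsPGroup.iff_card.mp P.2
  rw [hn] at h1
  obtain ⟨j, -, hj⟩ := (Nat.dvd_prime_pow hp.out).mp h1
  have h3 : g ^ T.index ∈ T := Subgroup.pow_index_mem T g
  rw [hj] at h3
  exact mem_of_pow_mem_of_coprime h3 (Nat.Coprime.pow_left j hg.symm)

/-- `K ≠ C_K(H) H` -/
theorem C1_ne (s : TSetup p P H K) : C1 H K ≠ K := by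
  intro h
  apply s.notnpc
  haveI := s.Kn
  haveI := s.Hn
  rw [Cfsg.Agent.Helper78.hasNormalPComplement_iff_frobHyp]
  intro Q hQ g hg hcop
  rw [Subgroup.mem_centralizer_iff]
  intro x hx
  have hgc := s.pprime_centralize h hcop
  have hgK := s.pprime_mem_K hcop
  set h₀ := g * x * g⁻¹ * x⁻¹ with hh₀
  have h₀K : h₀ ∈ K := by
    have : h₀ = g * (x * g⁻¹ * x⁻¹) := by rw [hh₀]; group
    rw [this]
    exact K.mul_mem hgK (s.Kn.conj_mem _ (K.inv_mem hgK) x)
  have h₀Q : h₀ ∈ Q := by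
    have h1 : g * x * g⁻¹ ∈ Q := (Subgroup.mem_normalizer_iff.mp hg x).mp hx
    exact Q.mul_mem h1 (Q.inv_mem hx)
  obtain ⟨j, hj⟩ := hQ ⟨h₀, h₀Q⟩
  have hj' : h₀ ^ (p ^ j) = 1 := congrArg Subtype.val hj
  have h₀H : h₀ ∈ H := s.pelem_K_mem_H h₀K hj'
  have hcomm : g * h₀ = h₀ * g := ((Subgroup.mem_centralizer_iff.mp hgc) h₀ h₀H).symm
  have hconj : g * x * g⁻¹ = h₀ * x := by rw [hh₀]; group
  have hpow : ∀ n : ℕ, g ^ n * x * (g ^ n)⁻¹ = h₀ ^ n * x := by
    intro n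
    induction n with
    | zero => simp
    | succ n ih =>
      have hc2 : g * h₀ ^ n = h₀ ^ n * g := (Commute.pow_right (show Commute g h₀ from hcomm) n).eq
      calc g ^ (n + 1) * x * (g ^ (n + 1))⁻¹ = g * (g ^ n * x * (g ^ n)⁻¹) * g⁻¹ := by
            rw [pow_succ']; group
        _ = g * (h₀ ^ n * x) * g⁻¹ := by rw [ih]
        _ = (g * h₀ ^ n) * x * g⁻¹ := by group
        _ = h₀ ^ n * (g * x * g⁻¹) := by rw [hc2]; group
        _ = h₀ ^ (n + 1) * x := by rw [hconj, pow_succ]; group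
  have h1 := hpow (orderOf g)
  rw [pow_orderOf_eq_one, inv_one, mul_one, one_mul] at h1
  have h2 : h₀ ^ orderOf g = 1 := by
    have : h₀ ^ orderOf g * x = 1 * x := by rw [one_mul]; exact h1.symm
    exact mul_right_cancel this
  have h3 : orderOf h₀ ∣ orderOf g := orderOf_dvd_of_pow_eq_one h2
  have h4 : orderOf h₀ ∣ p ^ j := orderOf_dvd_of_pow_eq_one hj'
  have h5 : orderOf h₀ = 1 :=
    Nat.eq_one_of_dvd_coprimes (Nat.Coprime.pow_right j hcop) h3 h4
  have h6 : h₀ = 1 := orderOf_eq_one_iff.mp h5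
  rw [h6, one_mul] at hconj
  calc x * g = (g * x * g⁻¹) * g := by rw [hconj]
    _ = g * x := by group

/-- every proper subgroup containing `P` lies in `C₁ P` -/
theorem le_C1_sup (s : TSetup p P H K) {M : Subgroup G} (hPM : (P : Subgroup G) ≤ M) (hM : M ≠ ⊤) :
    M ≤ C1 H K ⊔ (P : Subgroup G) := by
  haveI := s.Hn
  obtain ⟨L, hLM, hML, hLcop, hMeq⟩ := npc_sub_data P hPM (s.prop M hPM hM)
  have hLK : L ≤ K := by
    intro l hl
    apply s.pprime_mem_K
    have h1 : orderOf l ∣ Nat.card L := by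
      have := orderOf_dvd_natCard (⟨l, hl⟩ : ↥L)
      rwa [Subgroup.orderOf_mk] at this
    exact Nat.Coprime.coprime_dvd_left h1 hLcop
  have hdisj : L ⊓ H = ⊥ := by
    have : Disjoint L H := by
      apply Subgroup.disjoint_of_coprime_natCard
      obtain ⟨k, hk⟩ := IsPGroup.iff_card.mp s.isPGroup_H
      rw [hk]
      exact Nat.Coprime.pow_right k hLcop
    exact disjoint_iff.mp this
  have hLC : L ≤ centralizer (H : Set G) := by
    intro l hl
    rw [Subgroup.mem_centralizer_iff]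
    intro y hy
    have hyM : y ∈ M := hPM (s.HP hy)
    have h1 : l * y * l⁻¹ * y⁻¹ ∈ L := by
      have h2 : y * l⁻¹ * y⁻¹ ∈ L := (Subgroup.mem_normalizer_iff.mp (hML hyM) l⁻¹).mp (L.inv_mem hl)
      have : l * y * l⁻¹ * y⁻¹ = l * (y * l⁻¹ * y⁻¹) := by group
      rw [this]
      exact L.mul_mem hl h2
    have h3 : l * y * l⁻¹ * y⁻¹ ∈ H := H.mul_mem (s.Hn.conj_mem y hy l) (H.inv_mem hy)
    have h4 : l * y * l⁻¹ * y⁻¹ ∈ L ⊓ H := Subgroup.mem_inf.mpr ⟨h1, h3⟩
    rw [hdisj, Subgroup.mem_bot] at h4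
    calc y * l = (l * y * l⁻¹ * y⁻¹)⁻¹ * (l * y) := by group
      _ = l * y := by rw [h4]; group
  rw [hMeq]
  exact sup_le_sup_right ((le_inf hLK hLC).trans le_sup_left) _

theorem le_C1_of (s : TSetup p P H K) {T : Subgroup G}
    (hT : (P : Subgroup G) ≤ normalizer (T : Set G)) (hHT : H ≤ T) (hTK : T ≤ K) (hne : T ≠ K) :
    T ≤ C1 H K := by
  have hM : T ⊔ (P : Subgroup G) ≠ ⊤ := by
    intro htop
    apply hne
    apply le_antisymm hTK
    have h1 := inf_sup_of_le_of_le_normalizer hTK hT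
    rw [htop, inf_top_eq] at h1
    rw [h1]
    exact sup_le le_rfl (s.KP.trans hHT)
  have h2 := s.le_C1_sup (le_sup_right : (P : Subgroup G) ≤ T ⊔ (P : Subgroup G)) hM
  have h3 : T ≤ K ⊓ (C1 H K ⊔ (P : Subgroup G)) := le_inf hTK (le_sup_left.trans h2)
  rw [inf_sup_of_le_of_le_normalizer s.C1_le_K (s.le_normalizer_C1 _)] at h3
  exact h3.trans (sup_le le_rfl (s.KP.trans H_le_C1))

/-- a normal subgroup meeting `K` inside `C₁` meets `P` inside `H` -/
theorem inf_P_le_H (s : TSetup p P H K) (X : Subgroup G) [hXn : X.Normal] (hX : X ⊓ K ≤ C1 H K) :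
    X ⊓ (P : Subgroup G) ≤ H := by
  haveI := s.C1_normal
  let S := Cfsg.Agent.Helper53.sylowInfNormal P X
  have hS : (S : Subgroup ↥X).map X.subtype = (P : Subgroup G) ⊓ X := by
    rw [Cfsg.Agent.Helper53.coe_sylowInfNormal, Subgroup.subgroupOf_map_subtype]
  have hfr := Sylow.normalizer_sup_eq_top S
  rw [hS] at hfr
  have hPN : (P : Subgroup G) ≤ normalizer (((P : Subgroup G) ⊓ X : Subgroup G) : Set G) := by
    intro y hy
    rw [Subgroup.mem_normalizer_iff]
    intro z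
    rw [Subgroup.mem_inf, Subgroup.mem_inf]
    constructor
    · rintro ⟨h1, h2⟩
      exact ⟨(P : Subgroup G).mul_mem ((P : Subgroup G).mul_mem hy h1) ((P : Subgroup G).inv_mem hy),
        hXn.conj_mem z h2 y⟩
    · rintro ⟨h1, h2⟩
      refine ⟨?_, ?_⟩
      · have : z = y⁻¹ * (y * z * y⁻¹) * y := by group
        rw [this]
        exact (P : Subgroup G).mul_mem ((P : Subgroup G).mul_mem ((P : Subgroup G).inv_mem hy) h1) hy
      · have : z = y⁻¹ * (y * z * y⁻¹) * y⁻¹⁻¹ := by group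
        rw [this]
        exact hXn.conj_mem _ h2 y⁻¹
  by_cases hN : normalizer (((P : Subgroup G) ⊓ X : Subgroup G) : Set G) = ⊤
  · rw [inf_comm]
    exact s.Op _ (Subgroup.normalizer_eq_top_iff.mp hN) (P.2.to_le inf_le_left)
  · exfalso
    have h1 := s.le_C1_sup hPN hN
    have h2 : (X ⊔ C1 H K) ⊔ (P : Subgroup G) = ⊤ := by
      rw [eq_top_iff, ← hfr]
      apply sup_le
      · exact h1.trans (sup_le (le_sup_right.trans le_sup_left) le_sup_right)
      · exact le_sup_left.trans le_sup_left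
    apply s.C1_ne
    apply le_antisymm s.C1_le_K
    apply s.K_le_of H_le_C1
    intro g hgK hg
    have h3 : g ∈ X ⊔ C1 H K := pprime_mem_of_sup_eq_top (X ⊔ C1 H K) h2 hg
    have h4 : g ∈ K ⊓ (C1 H K ⊔ X) := Subgroup.mem_inf.mpr ⟨hgK, by rwa [sup_comm]⟩
    rw [inf_sup_of_le_of_le_normalizer s.C1_le_K (s.le_normalizer_C1 _)] at h4
    have h5 : C1 H K ⊔ K ⊓ X ≤ C1 H K := sup_le le_rfl (by rw [inf_comm]; exact hX)
    exact h5 h4

end TSetup

end Cfsg.Agent.Helper1
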