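import Cfsg.Agent.Helper1.ThompsonEnd2
import Cfsg.Agent.Helper33.OmegaCentral

/-!
# Thompson's normal `p`-complement theorem: structure of a minimal counterexample, part 3 (helper1)

`V = Ω₁(Z(H))`, `C_K(V) = C₁`, `C_P(V) = H`, and a quadratically acting member of the family.
-/

set_option autoImplicit false
set_option linter.unusedSectionVars false
set_option linter.style.haveILetI false

namespace Cfsg.Agent.Helper1

open Subgroup Cfsg.Agent.Lib.ZJ

universe u

variable {G : Type u} [Group G]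

/-- `Ω₁(Z(H))` inside `G` -/
def OmZ (p : ℕ) (H : Subgroup G) : Subgroup G where
  carrier := {x | x ∈ Zc H ∧ x ^ p = 1}
  mul_mem' := by
    rintro a b ⟨ha, hap⟩ ⟨hb, hbp⟩
    refine ⟨(Zc H).mul_mem ha hb, ?_⟩
    have hc : Commute a b :=
      ((Subgroup.mem_centralizer_iff.mp (Subgroup.mem_inf.mp ha).2) b (Subgroup.mem_inf.mp hb).1).symm
    rw [hc.mul_pow, hap, hbp, one_mul]
  one_mem' := ⟨one_mem _, one_pow _⟩
  inv_mem' := by
    rintro a ⟨ha, hap⟩
    exact ⟨inv_mem ha, by rw [inv_pow, hap, inv_one]⟩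

theorem mem_OmZ {p : ℕ} {H : Subgroup G} {x : G} : x ∈ OmZ p H ↔ x ∈ Zc H ∧ x ^ p = 1 := Iff.rfl

theorem OmZ_le_Zc (p : ℕ) (H : Subgroup G) : OmZ p H ≤ Zc H := fun _ hx => hx.1

theorem OmZ_le (p : ℕ) (H : Subgroup G) : OmZ p H ≤ H := (OmZ_le_Zc p H).trans inf_le_left

theorem OmZ_le_centralizer (p : ℕ) (H : Subgroup G) : OmZ p H ≤ centralizer (H : Set G) :=
  (OmZ_le_Zc p H).trans inf_le_right

theorem le_centralizer_OmZ (p : ℕ) (H : Subgroup G) : H ≤ centralizer (OmZ p H : Set G) :=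
  Subgroup.le_centralizer_iff.mp (OmZ_le_centralizer p H)

theorem OmZ_comm (p : ℕ) (H : Subgroup G) : ∀ u ∈ OmZ p H, ∀ v ∈ OmZ p H, u * v = v * u :=
  fun u hu v hv => ((Subgroup.mem_centralizer_iff.mp (OmZ_le_centralizer p H hu)) v (OmZ_le p H hv)).symm

theorem OmZ_pow (p : ℕ) (H : Subgroup G) : ∀ v ∈ OmZ p H, v ^ p = 1 := fun _ hv => hv.2

theorem Zc_normal (H : Subgroup G) [H.Normal] : (Zc H).Normal := by
  unfold Zc
  infer_instance

theorem OmZ_normal (p : ℕ) (H : Subgroup G) [H.Normal] : (OmZ p H).Normal := by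
  haveI := Zc_normal H
  constructor
  rintro x ⟨hx, hxp⟩ g
  refine ⟨(Zc_normal H).conj_mem x hx g, ?_⟩
  rw [conj_pow, hxp, mul_one, mul_inv_cancel]

/-- the replacement property needed for Thompson's theorem: a member of the family acting nontrivially on a normal
elementary abelian subgroup `V` can be replaced by one acting nontrivially and quadratically -/
def Repl (good : ∀ (K : Type u) [Group K], Subgroup K → Prop) (p : ℕ) : Prop :=
  ∀ {G : Type u} [Group G] [Finite G] (P V : Subgroup G), IsPGroup p P → V ≤ P →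
    P ≤ normalizer (V : Set G) → (∀ u ∈ V, ∀ v ∈ V, u * v = v * u) → (∀ v ∈ V, v ^ p = 1) →
    ∀ A ∈ maxGood (good G) P, ¬ A ≤ centralizer (V : Set G) →
      ∃ A' ∈ maxGood (good G) P, ¬ A' ≤ centralizer (V : Set G) ∧
        ∀ a ∈ A', ∀ v ∈ V, a * (a * v * a⁻¹ * v⁻¹) * a⁻¹ = a * v * a⁻¹ * v⁻¹

namespace TSetup

variable [Finite G] {p : ℕ} [hp : Fact p.Prime] {P : Sylow p G} {H K : Subgroup G}
variable {good : ∀ (K : Type u) [Group K], Subgroup K → Prop}

theorem centralizer_H_inf_P (s : TSetup p P H K) : centralizer (H : Set G) ⊓ (P : Subgroup G) ≤ H := by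
  haveI := s.Hn
  apply s.inf_P_le_H (centralizer (H : Set G))
  rw [inf_comm]
  exact le_sup_left

theorem Zc_P_le (s : TSetup p P H K) : Zc (P : Subgroup G) ≤ Zc H := by
  have h1 : Zc (P : Subgroup G) ≤ centralizer (H : Set G) :=
    inf_le_right.trans (Subgroup.centralizer_le s.HP)
  exact le_inf ((le_inf h1 inf_le_left).trans s.centralizer_H_inf_P) h1

theorem not_K_le_centralizer_OmZ (s : TSetup p P H K) (hp2 : p ≠ 2)
    (hZ : Cfsg.HasNormalPComplement p ↥(centralizer (Zc (P : Subgroup G) : Set G))) :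
    ¬ K ≤ centralizer (OmZ p H : Set G) := by
  intro hK
  haveI := s.Hn
  haveI := Zc_normal H
  apply s.notnpc
  have h1 : K ≤ centralizer (Zc H : Set G) := by
    apply s.K_le_of
    · exact Subgroup.le_centralizer_iff.mp inf_le_right
    · intro g hgK hg
      rw [Subgroup.mem_centralizer_iff]
      intro x hx
      refine (Cfsg.Agent.Helper33.commute_of_commute_omega hg (Zc H) (s.isPGroup_H.to_le inf_le_left)
        (Subgroup.le_normalizer_of_normal (Subgroup.mem_top g)) ?_ x hx).symm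
      intro y hy hy'
      rcases hy' with hy' | ⟨h2, -⟩
      · exact ((Subgroup.mem_centralizer_iff.mp (hK hgK)) y ⟨hy, hy'⟩).symm
      · exact absurd h2 hp2
  have h2 : K ≤ centralizer (Zc (P : Subgroup G) : Set G) :=
    h1.trans (Subgroup.centralizer_le s.Zc_P_le)
  have h3 : (P : Subgroup G) ≤ centralizer (Zc (P : Subgroup G) : Set G) :=
    Subgroup.le_centralizer_iff.mp inf_le_right
  have h4 : centralizer (Zc (P : Subgroup G) : Set G) = ⊤ := by
    rw [eq_top_iff, ← s.top]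
    exact sup_le h2 h3
  rw [h4] at hZ
  exact npc_top_iff.mp hZ

theorem K_inf_centralizer_OmZ (s : TSetup p P H K) (hp2 : p ≠ 2)
    (hZ : Cfsg.HasNormalPComplement p ↥(centralizer (Zc (P : Subgroup G) : Set G))) :
    K ⊓ centralizer (OmZ p H : Set G) = C1 H K := by
  haveI := s.Hn
  haveI := s.Kn
  haveI := OmZ_normal p H
  apply le_antisymm
  · apply s.le_C1_of
    · exact Subgroup.le_normalizer_of_normal
    · exact le_inf s.HK (le_centralizer_OmZ p H)
    · exact inf_le_left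
    · intro h
      exact s.not_K_le_centralizer_OmZ hp2 hZ (h ▸ inf_le_right)
  · apply sup_le
    · exact inf_le_inf_left K (Subgroup.centralizer_le (OmZ_le p H))
    · exact le_inf s.HK (le_centralizer_OmZ p H)

theorem centralizer_OmZ_inf_P (s : TSetup p P H K) (hp2 : p ≠ 2)
    (hZ : Cfsg.HasNormalPComplement p ↥(centralizer (Zc (P : Subgroup G) : Set G))) :
    centralizer (OmZ p H : Set G) ⊓ (P : Subgroup G) ≤ H := by
  haveI := s.Hn
  haveI := OmZ_normal p H
  apply s.inf_P_le_H (centralizer (OmZ p H : Set G))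
  rw [inf_comm, s.K_inf_centralizer_OmZ hp2 hZ]

theorem exists_not_le_centralizer (s : TSetup p P H K) (hp2 : p ≠ 2) (hI : Intrinsic good)
    (hJ : Cfsg.HasNormalPComplement p ↥(normalizer (Jg good (P : Subgroup G) : Set G)))
    (hZ : Cfsg.HasNormalPComplement p ↥(centralizer (Zc (P : Subgroup G) : Set G))) :
    ∃ A ∈ maxGood (good G) (P : Subgroup G), ¬ A ≤ centralizer (OmZ p H : Set G) := by
  by_contra hcon
  push_neg at hcon
  apply s.notnpc
  have h1 : Jg good (P : Subgroup G) ≤ H := by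
    refine le_trans ?_ (s.centralizer_OmZ_inf_P hp2 hZ)
    exact le_inf (sSup_le hcon) (Jg_le _)
  have h2 : Jg good H = Jg good (P : Subgroup G) := Jg_eq_of_le hI h1 s.HP
  have h3 : normalizer (Jg good (P : Subgroup G) : Set G) = ⊤ := by
    rw [eq_top_iff, ← h2]
    refine le_trans ?_ (normalizer_le_normalizer_Jg hI H)
    rw [Subgroup.normalizer_eq_top_iff.mpr s.Hn]
  rw [h3] at hJ
  exact npc_top_iff.mp hJ

theorem exists_quadratic (s : TSetup p P H K) (hp2 : p ≠ 2) (hI : Intrinsic good)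
    (hrepl : Repl good p)
    (hJ : Cfsg.HasNormalPComplement p ↥(normalizer (Jg good (P : Subgroup G) : Set G)))
    (hZ : Cfsg.HasNormalPComplement p ↥(centralizer (Zc (P : Subgroup G) : Set G))) :
    ∃ A ∈ maxGood (good G) (P : Subgroup G), ¬ A ≤ centralizer (OmZ p H : Set G) ∧
      ∀ a ∈ A, ∀ v ∈ OmZ p H, a * (a * v * a⁻¹ * v⁻¹) * a⁻¹ = a * v * a⁻¹ * v⁻¹ := by
  haveI := s.Hn
  haveI := OmZ_normal p H
  obtain ⟨A, hA, hAV⟩ := s.exists_not_le_centralizer hp2 hI hJ hZ
  exact hrepl (P : Subgroup G) (OmZ p H) P.2 ((OmZ_le p H).trans s.HP)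
    Subgroup.le_normalizer_of_normal (OmZ_comm p H) (OmZ_pow p H) A hA hAV

end TSetup

end Cfsg.Agent.Helper1
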