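import Cfsg.Agent.Helper1.ThompsonEnd3
import Cfsg.Agent.Helper1.CoprimeSylow
import Cfsg.Agent.Helper1.Quadratic
import Cfsg.Agent.Helper1.Carter

/-!
# Thompson's normal `p`-complement theorem: structure of a minimal counterexample, part 4 (helper1)

`K / C₁` is abelian; the quadratic lemma then gives the final contradiction `TSetup.false`.
-/

set_option autoImplicit false
set_option linter.unusedSectionVars false
set_option linter.style.haveILetI false

namespace Cfsg.Agent.Helper1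

open Subgroup Cfsg.Agent.Lib.ZJ
open scoped commutatorElement

universe u

variable {G : Type u} [Group G]

namespace TSetup

variable [Finite G] {p : ℕ} [hp : Fact p.Prime] {P : Sylow p G} {H K : Subgroup G}
variable {good : ∀ (K : Type u) [Group K], Subgroup K → Prop}

theorem commutator_K_le_C1 (s : TSetup p P H K) : ⁅K, K⁆ ≤ C1 H K := by
  haveI := s.C1_normal
  haveI := s.Kn
  let π := QuotientGroup.mk' (C1 H K)
  have hπ : Function.Surjective π := QuotientGroup.mk'_surjective _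
  have hker : π.ker = C1 H K := QuotientGroup.ker_mk' _
  set Kb := K.map π with hKb
  set Pb := (P : Subgroup G).map π with hPb
  have hKbn : Kb.Normal := s.Kn.map π hπ
  have hcomapK : Kb.comap π = K := by
    rw [hKb, Subgroup.comap_map_eq, hker]
    exact sup_eq_left.mpr s.C1_le_K
  obtain ⟨m, hm, hK⟩ := s.exm
  have hKbpow : ∀ y ∈ Kb, y ^ m = 1 := by
    rintro _ ⟨k, hk, rfl⟩
    rw [← map_pow]
    exact (QuotientGroup.eq_one_iff _).mpr (H_le_C1 (hK k hk))
  have hKbcop : (Nat.card Kb).Coprime p := by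
    rw [Nat.coprime_comm, Nat.Prime.coprime_iff_not_dvd hp.out]
    intro hdvd
    obtain ⟨y, hy⟩ := exists_prime_orderOf_dvd_card' (G := ↥Kb) p hdvd
    have h1 : (y : G ⧸ C1 H K) ^ m = 1 := hKbpow _ y.2
    have h2 : orderOf (y : G ⧸ C1 H K) ∣ m := orderOf_dvd_of_pow_eq_one h1
    rw [Subgroup.orderOf_coe, hy] at h2
    exact hp.out.one_lt.ne' (Nat.Coprime.eq_one_of_dvd hm.symm h2)
  have hKbne : Kb ≠ ⊥ := by
    intro hbot
    apply s.C1_ne
    apply le_antisymm s.C1_le_K
    intro k hk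
    have h1 : π k ∈ Kb := ⟨k, hk, rfl⟩
    rw [hbot, Subgroup.mem_bot] at h1
    exact (QuotientGroup.eq_one_iff _).mp h1
  have hcardne : Nat.card Kb ≠ 1 := fun h => hKbne (Subgroup.card_eq_one.mp h)
  obtain ⟨q, hq, hqdvd⟩ := Nat.exists_prime_and_dvd hcardne
  haveI : Fact q.Prime := ⟨hq⟩
  have hPbp : IsPGroup p ↥Pb := P.2.map π
  have hcop : (Nat.card Pb).Coprime (Nat.card Kb) := by
    obtain ⟨n, hn⟩ := IsPGroup.iff_card.mp hPbp
    rw [hn]
    exact (Nat.Coprime.pow_right n hKbcop).symm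
  haveI : Group.IsNilpotent ↥Pb := hPbp.isNilpotent
  have hsolv : Group.IsSolvable ↥Pb := inferInstance
  obtain ⟨S, hS⟩ := exists_invariant_sylow Pb Kb Subgroup.le_normalizer_of_normal hcop (Or.inl hsolv) q
  set Sb := (S : Subgroup ↥Kb).map Kb.subtype with hSb
  have hSbK : Sb ≤ Kb := Subgroup.map_subtype_le _
  set T := Sb.comap π with hT
  have hTK : T ≤ K := by
    rw [← hcomapK]
    exact Subgroup.comap_mono hSbK
  have hC1T : C1 H K ≤ T := by
    rw [← hker]
    exact Subgroup.ker_le_comap _ _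
  have hPT : (P : Subgroup G) ≤ normalizer (T : Set G) := by
    intro y hy
    apply Subgroup.le_normalizer_comap π
    rw [Subgroup.mem_comap]
    exact hS ⟨y, hy, rfl⟩
  have hTmap : T.map π = Sb := Subgroup.map_comap_eq_self_of_surjective hπ _
  have hC1map : (C1 H K).map π = ⊥ := (Subgroup.map_eq_bot_iff _).mpr hker.ge
  by_cases hTeq : T = K
  · -- `Kb` is a `q`-group
    have hSeq : Sb = Kb := by rw [← hTmap, hTeq]
    have hStop : (S : Subgroup ↥Kb) = ⊤ := by
      apply Subgroup.map_injective Kb.subtype_injective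
      rw [← hSb, hSeq, ← MonoidHom.range_eq_map, Subgroup.range_subtype]
    have hKbq : IsPGroup q ↥Kb := by
      have h1 : IsPGroup q ↥(S : Subgroup ↥Kb) := S.2
      rw [hStop] at h1
      exact h1.of_equiv Subgroup.topEquiv
    haveI : Group.IsNilpotent ↥Kb := hKbq.isNilpotent
    haveI : Group.IsSolvable ↥Kb := inferInstance
    haveI : Nontrivial ↥Kb := (Subgroup.nontrivial_iff_ne_bot Kb).mpr hKbne
    have hlt := IsSolvable.commutator_lt_top_of_nontrivial ↥Kb
    set Db := ⁅Kb, Kb⁆ with hDb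
    have hDbK : Db ≤ Kb := Subgroup.commutator_le_right Kb Kb
    have hDbne : Db ≠ Kb := by
      intro h
      have h1 := Subgroup.map_subtype_commutator Kb
      rw [← hDb, h] at h1
      have h2 : _root_.commutator ↥Kb = ⊤ := by
        apply Subgroup.map_injective Kb.subtype_injective
        rw [h1, ← MonoidHom.range_eq_map, Subgroup.range_subtype]
      exact (lt_top_iff_ne_top.mp hlt) h2
    haveI hDbn : Db.Normal := by rw [hDb]; infer_instance
    set T₂ := Db.comap π with hT₂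
    haveI : T₂.Normal := hDbn.comap π
    have hT₂K : T₂ ≤ K := by
      rw [← hcomapK]
      exact Subgroup.comap_mono hDbK
    have hC1T₂ : C1 H K ≤ T₂ := by
      rw [← hker]
      exact Subgroup.ker_le_comap _ _
    have hT₂ne : T₂ ≠ K := by
      intro h
      apply hDbne
      rw [← Subgroup.map_comap_eq_self_of_surjective hπ Db, ← hT₂, h]
    have h3 := s.le_C1_of Subgroup.le_normalizer_of_normal (H_le_C1.trans hC1T₂) hT₂K hT₂ne
    refine le_trans ?_ h3
    rw [hT₂, ← Subgroup.map_le_iff_le_comap, Subgroup.map_commutator]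
  · exfalso
    have h1 := s.le_C1_of hPT (H_le_C1.trans hC1T) hTK hTeq
    have h2 : Sb = ⊥ := by
      rw [← hTmap, eq_bot_iff, ← hC1map]
      exact Subgroup.map_mono h1
    have h3 : (S : Subgroup ↥Kb) = ⊥ := by
      apply Subgroup.map_injective Kb.subtype_injective
      rw [← hSb, h2, Subgroup.map_bot]
    exact S.ne_bot_of_dvd_card hqdvd h3

theorem false_of (s : TSetup p P H K) (hp2 : p ≠ 2) (hI : Intrinsic good) (hrepl : Repl good p)
    (hJ : Cfsg.HasNormalPComplement p ↥(normalizer (Jg good (P : Subgroup G) : Set G)))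
    (hZ : Cfsg.HasNormalPComplement p ↥(centralizer (Zc (P : Subgroup G) : Set G))) : False := by
  haveI := s.Hn
  haveI := s.Kn
  haveI := s.C1_normal
  haveI := OmZ_normal p H
  obtain ⟨A, hA, hAV, hquad⟩ := s.exists_quadratic hp2 hI hrepl hJ hZ
  have hK1 := s.K_inf_centralizer_OmZ hp2 hZ
  have hcomm := s.commutator_K_le_C1
  obtain ⟨m, hm, hKm⟩ := s.exm
  -- `[K, a] ≤ C₁` for `a ∈ A`
  have hKa : ∀ a ∈ A, ∀ k ∈ K, (a * k)⁻¹ * (k * a) ∈ C1 H K := by
    intro a ha k hk
    have key := quadratic_group hp2 (OmZ p H) (OmZ_comm p H) (OmZ_pow p H) a (hquad a ha) K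
      (fun k hk => ⟨by simpa using s.Kn.conj_mem k hk a⁻¹, s.Kn.conj_mem k hk a⟩)
      (fun k hk k' hk' v hv => by
        have h1 : ⁅k⁻¹, k'⁻¹⁆ ∈ ⁅K, K⁆ :=
          Subgroup.commutator_mem_commutator (K.inv_mem hk) (K.inv_mem hk')
        have h2 : ⁅k⁻¹, k'⁻¹⁆ ∈ centralizer (OmZ p H : Set G) := by
          have := hcomm h1
          rw [← hK1] at this
          exact (Subgroup.mem_inf.mp this).2
        have h3 := (Subgroup.mem_centralizer_iff.mp h2) v hv
        rw [commutatorElement_def] at h3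
        simp only [inv_inv] at h3
        calc k * k' * v * (k * k')⁻¹ = k' * k * ((k⁻¹ * k'⁻¹ * k * k') * v) * (k * k')⁻¹ := by group
          _ = k' * k * (v * (k⁻¹ * k'⁻¹ * k * k')) * (k * k')⁻¹ := by rw [h3]
          _ = k' * k * v * (k' * k)⁻¹ := by group)
      m hm
      (fun k hk v hv => by
        have h1 : k ^ m ∈ centralizer (OmZ p H : Set G) := le_centralizer_OmZ p H (hKm k hk)
        have h2 := (Subgroup.mem_centralizer_iff.mp h1) v hv
        rw [← h2]; group)
      k hk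
    rw [← hK1]
    refine Subgroup.mem_inf.mpr ⟨?_, ?_⟩
    · have : (a * k)⁻¹ * (k * a) = k⁻¹ * (a⁻¹ * k * a⁻¹⁻¹) := by group
      rw [this]
      exact K.mul_mem (K.inv_mem hk) (s.Kn.conj_mem k hk a⁻¹)
    · rw [Subgroup.mem_centralizer_iff]
      intro v hv
      have h1 := key v hv
      calc v * ((a * k)⁻¹ * (k * a)) = (a * k)⁻¹ * ((a * k) * v * (a * k)⁻¹) * (k * a) := by group
        _ = (a * k)⁻¹ * ((k * a) * v * (k * a)⁻¹) * (k * a) := by rw [h1]
        _ = (a * k)⁻¹ * (k * a) * v := by group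
  -- the centralizer of `K / C₁`
  let π := QuotientGroup.mk' (C1 H K)
  have hπ : Function.Surjective π := QuotientGroup.mk'_surjective _
  haveI hKbn : (K.map π).Normal := s.Kn.map π hπ
  set X₀ := (centralizer ((K.map π : Subgroup (G ⧸ C1 H K)) : Set (G ⧸ C1 H K))).comap π with hX₀
  haveI hX₀n : X₀.Normal := (inferInstance : (centralizer ((K.map π : Subgroup (G ⧸ C1 H K)) :
    Set (G ⧸ C1 H K))).Normal).comap π
  have hmemX₀ : ∀ g : G, g ∈ X₀ ↔ ∀ k ∈ K, (g * k)⁻¹ * (k * g) ∈ C1 H K := by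
    intro g
    rw [hX₀, Subgroup.mem_comap, Subgroup.mem_centralizer_iff]
    constructor
    · intro h k hk
      have h1 := h (π k) ⟨k, hk, rfl⟩
      rw [← map_mul, ← map_mul] at h1
      exact QuotientGroup.eq.mp h1.symm
    · rintro h _ ⟨k, hk, rfl⟩
      rw [← map_mul, ← map_mul]
      exact (QuotientGroup.eq.mpr (h k hk)).symm
  have hAX₀ : A ≤ X₀ := fun a ha => (hmemX₀ a).mpr (hKa a ha)
  set B := (P : Subgroup G) ⊓ X₀ with hB
  set X := B ⊔ C1 H K with hX
  have hAB : A ≤ B := le_inf hA.1 hAX₀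
  have hBC : ∀ x ∈ X, ∃ b ∈ B, ∃ c ∈ C1 H K, x = b * c := by
    intro x hx
    have h1 : x ∈ ((B ⊔ C1 H K : Subgroup G) : Set G) := hx
    rw [Subgroup.mul_normal] at h1
    obtain ⟨b, hb, c, hc, rfl⟩ := h1
    exact ⟨b, hb, c, hc, rfl⟩
  have hPX : (P : Subgroup G) ≤ normalizer (X : Set G) := by
    intro y hy
    apply mem_normalizer_of_conj_mem
    intro x hx
    obtain ⟨b, hb, c, hc, rfl⟩ := hBC x hx
    have h1 : y * b * y⁻¹ ∈ B := by
      obtain ⟨hb1, hb2⟩ := Subgroup.mem_inf.mp hb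
      exact Subgroup.mem_inf.mpr
        ⟨(P : Subgroup G).mul_mem ((P : Subgroup G).mul_mem hy hb1) ((P : Subgroup G).inv_mem hy),
          hX₀n.conj_mem b hb2 y⟩
    have h2 : y * c * y⁻¹ ∈ C1 H K := s.C1_normal.conj_mem c hc y
    have : y * (b * c) * y⁻¹ = (y * b * y⁻¹) * (y * c * y⁻¹) := by group
    rw [this]
    exact Subgroup.mul_mem_sup h1 h2
  have hKX : K ≤ normalizer (X : Set G) := by
    intro k hk
    apply mem_normalizer_of_conj_mem
    intro x hx
    obtain ⟨b, hb, c, hc, rfl⟩ := hBC x hx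
    have hb2 : b ∈ X₀ := (Subgroup.mem_inf.mp hb).2
    have h0 := (hmemX₀ b).mp hb2 k⁻¹ (K.inv_mem hk)
    -- `(b k⁻¹)⁻¹ (k⁻¹ b) = k b⁻¹ k⁻¹ b ∈ C₁`
    have h1 : k * b * k⁻¹ * b⁻¹ ∈ C1 H K := by
      have h3 : k * b * k⁻¹ * b⁻¹ = b * ((b * k⁻¹)⁻¹ * (k⁻¹ * b))⁻¹ * b⁻¹ := by group
      rw [h3]
      exact s.C1_normal.conj_mem _ ((C1 H K).inv_mem h0) b
    have h2 : k * c * k⁻¹ ∈ C1 H K := s.C1_normal.conj_mem c hc k
    have : k * (b * c) * k⁻¹ = (k * b * k⁻¹ * b⁻¹) * b * (k * c * k⁻¹) := by group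
    rw [this]
    exact X.mul_mem (X.mul_mem (le_sup_right (a := B) h1) (le_sup_left (b := C1 H K) hb))
      (le_sup_right (a := B) h2)
  have hXn : X.Normal := by
    rw [← Subgroup.normalizer_eq_top_iff, eq_top_iff, ← s.top]
    exact sup_le hKX hPX
  have hXK : X ⊓ K ≤ C1 H K := by
    rw [inf_comm, hX, sup_comm, inf_sup_of_le_of_le_normalizer s.C1_le_K (s.le_normalizer_C1 _)]
    apply sup_le le_rfl
    refine le_trans ?_ (s.KP.trans H_le_C1)
    exact inf_le_inf_left K inf_le_left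
  have h5 := s.inf_P_le_H X hXK
  apply hAV
  refine le_trans ?_ (le_centralizer_OmZ p H)
  refine le_trans ?_ h5
  exact le_inf (hAB.trans le_sup_left) hA.1

end TSetup

end Cfsg.Agent.Helper1
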