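import Cfsg.Agent.Helper1.ThompsonMain

/-!
# Thompson's normal `p`-complement theorem: the reduction to a minimal configuration, in a form carrying a
hereditary property `Φ` of the ambient group (helper1)

This is the proof of `thompson_npc_aux` with the final step abstracted (`hfinal`), so that it also serves for
`p = 2` and `S₄`-free groups.
-/

set_option autoImplicit false
set_option linter.unusedSectionVars false
set_option linter.style.haveILetI false

namespace Cfsg.Agent.Helper1

open Subgroup Cfsg.Agent.Lib.ZJ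

universe u

variable {good : ∀ (K : Type u) [Group K], Subgroup K → Prop}

theorem thompson_npc_gen_aux {p : ℕ} [hp : Fact p.Prime] (hI : Intrinsic good)
    (hcyc : ∀ (K : Type u) [Group K] (x : K), x ^ p = 1 → good K (zpowers x))
    (Φ : ∀ (G : Type u) [Group G], Prop)
    (hΦsub : ∀ (G : Type u) [Group G] (M : Subgroup G), Φ G → Φ ↥M)
    (hΦquot : ∀ (G : Type u) [Group G] (N : Subgroup G) [N.Normal], Φ G → Φ (G ⧸ N))
    (hfinal : ∀ (G : Type u) [Group G] [Finite G], Φ G → ∀ (P : Sylow p G) (H K : Subgroup G),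
      TSetup p P H K →
      Cfsg.HasNormalPComplement p ↥(normalizer (Jg good (P : Subgroup G) : Set G)) →
      Cfsg.HasNormalPComplement p ↥(centralizer (Zc (P : Subgroup G) : Set G)) → False) :
    ∀ (n : ℕ) (G : Type u) [Group G] [Finite G], Nat.card G = n → Φ G → ∀ P : Sylow p G,
      Cfsg.HasNormalPComplement p ↥(normalizer (Jg good (P : Subgroup G) : Set G)) →
      Cfsg.HasNormalPComplement p ↥(centralizer (Zc (P : Subgroup G) : Set G)) →
      Cfsg.HasNormalPComplement p G := by
  intro n
  induction n using Nat.strong_induction_on with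
  | _ n ih =>
  intro G _ _ hn hΦ P hJ hZ
  by_contra hnot
  classical
  -- the family of bad `p`-subgroups
  have hex : ∃ Q : Subgroup G, IsPGroup p Q ∧ Q ≠ ⊥ ∧
      ¬ Cfsg.HasNormalPComplement p ↥(normalizer (Q : Set G)) := by
    by_contra hcon
    push Not at hcon
    exact hnot (Cfsg.Agent.Helper78.hasNormalPComplement_iff_normalizers.mpr hcon)
  let μ : Subgroup G → ℕ := fun Q =>
    (Nat.card (normalizer (Q : Set G))).factorization p * (Nat.card G + 1) + Nat.card Q
  let 𝓗 := {Q : Subgroup G // IsPGroup p Q ∧ Q ≠ ⊥ ∧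
      ¬ Cfsg.HasNormalPComplement p ↥(normalizer (Q : Set G))}
  haveI : Nonempty 𝓗 := by
    obtain ⟨Q, hQ⟩ := hex
    exact ⟨⟨Q, hQ⟩⟩
  obtain ⟨⟨H, hHp, hHne, hHbad⟩, hmax⟩ := Finite.exists_max (fun Q : 𝓗 => μ Q.1)
  have hcardle : ∀ Q : Subgroup G, Nat.card Q ≤ Nat.card G := fun Q => Subgroup.card_le_card_group Q
  -- (M0)
  have hM0 : ∀ Q : Subgroup G, IsPGroup p Q → Q ≠ ⊥ →
      ((Nat.card (normalizer (H : Set G))).factorization p <
          (Nat.card (normalizer (Q : Set G))).factorization p ∨
        ((Nat.card (normalizer (H : Set G))).factorization p ≤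
          (Nat.card (normalizer (Q : Set G))).factorization p ∧ Nat.card H < Nat.card Q)) →
      Cfsg.HasNormalPComplement p ↥(normalizer (Q : Set G)) := by
    intro Q hQp hQne hcase
    by_contra hbad
    have h1 : μ Q ≤ μ H := hmax ⟨Q, hQp, hQne, hbad⟩
    simp only [μ] at h1
    have h2 := hcardle Q
    have h3 := hcardle H
    rcases hcase with hlt | ⟨hle, hlt⟩
    · have h4 : ((Nat.card (normalizer (H : Set G))).factorization p + 1) * (Nat.card G + 1) ≤
          (Nat.card (normalizer (Q : Set G))).factorization p * (Nat.card G + 1) :=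
        Nat.mul_le_mul_right _ hlt
      nlinarith
    · have h4 : (Nat.card (normalizer (H : Set G))).factorization p * (Nat.card G + 1) ≤
          (Nat.card (normalizer (Q : Set G))).factorization p * (Nat.card G + 1) :=
        Nat.mul_le_mul_right _ hle
      omega
  -- Step 2: `H` is normal
  have hHnorm : normalizer (H : Set G) = ⊤ := by
    by_contra hN
    set N := normalizer (H : Set G) with hNdef
    have hcardN : Nat.card ↥N < n := by
      rw [← hn]
      exact lt_of_le_of_ne (hcardle N) (fun h => hN (Subgroup.eq_top_of_card_eq N h))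
    obtain ⟨R⟩ : Nonempty (Sylow p ↥N) := inferInstance
    set RG := (R : Subgroup ↥N).map N.subtype with hRG
    have hRGp : IsPGroup p RG := R.2.map _
    have hRGcard : Nat.card RG = p ^ (Nat.card ↥N).factorization p := by
      rw [hRG, Subgroup.card_map_of_injective N.subtype_injective, Sylow.card_eq_multiplicity]
    have hHRG : H ≤ RG := by
      haveI : (H.subgroupOf N).Normal := Subgroup.normal_in_normalizer
      have h1 : H.subgroupOf N ≤ R :=
        IsPGroup.le_sylow_of_normal (N := H.subgroupOf N) (hHp.comap_subtype) R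
      have h2 := Subgroup.map_mono (f := N.subtype) h1
      rwa [Subgroup.subgroupOf_map_subtype, inf_eq_left.mpr Subgroup.le_normalizer] at h2
    have hRGne : RG ≠ ⊥ := fun h => hHne (le_bot_iff.mp (h ▸ hHRG))
    have hfac : (Nat.card RG).factorization p = (Nat.card ↥N).factorization p := by
      rw [hRGcard, Nat.Prime.factorization_pow hp.out]; simp
    have hkey : Cfsg.HasNormalPComplement p ↥(normalizer (Jg good RG : Set G)) ∧
        Cfsg.HasNormalPComplement p ↥(centralizer (Zc RG : Set G)) := by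
      by_cases hsyl : Nat.card RG = p ^ (Nat.card G).factorization p
      · let P' : Sylow p G := Sylow.ofCard RG hsyl
        have hP' : (P' : Subgroup G) = RG := Sylow.coe_ofCard RG hsyl
        have h1 := npc_normalizer_Jg_conj hI P P' hJ
        have h2 := npc_centralizer_Zc_conj P P' hZ
        rw [hP'] at h1 h2
        exact ⟨h1, h2⟩
      · obtain ⟨R₁, hR₁p, hlt, hR₁N⟩ := exists_larger_pgroup hRGp hsyl
        have hJne : Jg good RG ≠ ⊥ := Jg_ne_bot hI hcyc hRGp hRGne
        have hZne : Zc RG ≠ ⊥ := Zc_ne_bot hRGp hRGne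
        have h1 : (Nat.card ↥N).factorization p <
            (Nat.card (normalizer (Jg good RG : Set G))).factorization p := by
          rw [← hfac]
          exact factorization_lt_of_lt hRGp hR₁p hlt
            (hR₁N.trans (normalizer_le_normalizer_Jg hI RG))
        have h2 : (Nat.card ↥N).factorization p <
            (Nat.card (normalizer (Zc RG : Set G))).factorization p := by
          rw [← hfac]
          exact factorization_lt_of_lt hRGp hR₁p hlt
            (hR₁N.trans (normalizer_le_normalizer_Zc RG))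
        refine ⟨hM0 _ (hRGp.to_le (Jg_le _)) hJne (Or.inl h1), ?_⟩
        exact npc_of_le (Subgroup.centralizer_le_normalizer _)
          (hM0 _ (hRGp.to_le (Zc_le _)) hZne (Or.inl h2))
    have h3 := ih _ hcardN ↥N rfl (hΦsub G N hΦ) R (npc_normalizer_Jg_sub hI _ hkey.1)
      (npc_centralizer_Zc_sub _ hkey.2)
    exact hHbad h3
  have hHn : H.Normal := Subgroup.normalizer_eq_top_iff.mp hHnorm
  haveI := hHn
  have hHP : H ≤ (P : Subgroup G) := hHp.le_sylow_of_normal P
  have hfacP : (Nat.card (normalizer (H : Set G))).factorization p =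
      (Nat.card (P : Subgroup G)).factorization p := by
    rw [hHnorm, Subgroup.card_top, Sylow.card_eq_multiplicity, Nat.Prime.factorization_pow hp.out]
    simp
  -- (M1)
  have hM1 : ∀ Q : Subgroup G, IsPGroup p Q → (P : Subgroup G) ≤ normalizer (Q : Set G) →
      Nat.card H < Nat.card Q → Cfsg.HasNormalPComplement p ↥(normalizer (Q : Set G)) := by
    intro Q hQp hPQ hlt
    have hQne : Q ≠ ⊥ := by
      rintro rfl
      rw [Subgroup.card_bot] at hlt
      have : 0 < Nat.card H := Nat.card_pos
      omega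
    apply hM0 Q hQp hQne (Or.inr ⟨?_, hlt⟩)
    rw [hfacP]
    have h5 : Nat.card (P : Subgroup G) ∣ Nat.card (normalizer (Q : Set G)) :=
      Subgroup.card_dvd_of_le hPQ
    rw [factorization_card_pgroup P.2] at h5
    exact (hp.out.pow_dvd_iff_le_factorization Nat.card_pos.ne').mp h5
  -- (M2)
  have hM2 : ∀ Y : Subgroup G, Y.Normal → IsPGroup p Y → Y ≤ H := by
    intro Y hYn hYp
    haveI := hYn
    have hQp : IsPGroup p (Y ⊔ H : Subgroup G) := hYp.to_sup_of_normal_right hHp
    have hQn : (Y ⊔ H : Subgroup G).Normal := inferInstance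
    have hQne : (Y ⊔ H : Subgroup G) ≠ ⊥ := fun h => hHne (le_bot_iff.mp (h ▸ le_sup_right))
    have hQtop : normalizer ((Y ⊔ H : Subgroup G) : Set G) = ⊤ :=
      Subgroup.normalizer_eq_top_iff.mpr hQn
    have hbad : ¬ Cfsg.HasNormalPComplement p ↥(normalizer ((Y ⊔ H : Subgroup G) : Set G)) := by
      rw [hQtop]
      exact fun h => hnot (npc_top_iff.mp h)
    have h1 : μ (Y ⊔ H) ≤ μ H := hmax ⟨Y ⊔ H, hQp, hQne, hbad⟩
    simp only [μ] at h1
    rw [hQtop, hHnorm] at h1
    have h2 : Nat.card (Y ⊔ H : Subgroup G) ≤ Nat.card H := by omega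
    have h3 : H = Y ⊔ H := Subgroup.eq_of_le_of_card_ge le_sup_right h2
    rw [h3]
    exact le_sup_left
  -- Step 4: `G ⧸ H` has a normal `p`-complement
  let π := QuotientGroup.mk' H
  have hπ : Function.Surjective π := QuotientGroup.mk'_surjective H
  have hker : π.ker = H := QuotientGroup.ker_mk' H
  let Pb : Sylow p (G ⧸ H) := P.mapSurjective hπ
  have hPb : (Pb : Subgroup (G ⧸ H)) = (P : Subgroup G).map π := Sylow.coe_mapSurjective hπ P
  have hcomapP : ((Pb : Subgroup (G ⧸ H))).comap π = (P : Subgroup G) := by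
    rw [hPb, Subgroup.comap_map_eq, hker]
    exact sup_eq_left.mpr hHP
  have hcardq : Nat.card (G ⧸ H) < n := by
    rw [← hn, ← Subgroup.card_mul_index H, ← Subgroup.index_eq_card]
    have h1 : 1 < Nat.card H := by
      rw [Subgroup.one_lt_card_iff_ne_bot]; exact hHne
    have h2 : 0 < H.index := Nat.pos_of_ne_zero Subgroup.index_ne_zero_of_finite
    nlinarith
  have hpre : ∀ W : Subgroup (G ⧸ H), W ≤ (Pb : Subgroup (G ⧸ H)) → W ≠ ⊥ →
      (Pb : Subgroup (G ⧸ H)) ≤ normalizer (W : Set (G ⧸ H)) →
      Cfsg.HasNormalPComplement p ↥(normalizer (W : Set (G ⧸ H))) := by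
    intro W hWP hWne hPW
    set Q := W.comap π with hQ
    have hQP : Q ≤ (P : Subgroup G) := by
      rw [← hcomapP]
      exact Subgroup.comap_mono hWP
    have hHQ : H ≤ Q := by
      rw [← hker]
      exact Subgroup.ker_le_comap _ _
    have hQmap : Q.map π = W := Subgroup.map_comap_eq_self_of_surjective hπ W
    have hHQlt : H < Q := by
      refine lt_of_le_of_ne hHQ ?_
      intro h
      apply hWne
      rw [← hQmap, ← h]
      exact (Subgroup.map_eq_bot_iff _).mpr hker.ge
    have hPQ : (P : Subgroup G) ≤ normalizer (Q : Set G) := by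
      intro y hy
      apply Subgroup.le_normalizer_comap π
      rw [Subgroup.mem_comap]
      apply hPW
      rw [hPb]
      exact ⟨y, hy, rfl⟩
    have h1 := hM1 Q (P.2.to_le hQP) hPQ (card_lt_of_lt hHQlt)
    have h2 : normalizer (W : Set (G ⧸ H)) = (normalizer (Q : Set G)).map π := by
      rw [hQ, ← Subgroup.comap_normalizer_eq_of_surjective W hπ,
        Subgroup.map_comap_eq_self_of_surjective hπ]
    rw [h2]
    exact npc_map π _ h1
  have hquot : Cfsg.HasNormalPComplement p (G ⧸ H) := by
    by_cases hPbot : (Pb : Subgroup (G ⧸ H)) = ⊥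
    · -- `G ⧸ H` is a `p'`-group
      apply npc_of_normal_coprime Pb ⊤
      · rw [Subgroup.card_top]
        have h1 := Pb.not_dvd_index
        rw [hPbot, Subgroup.index_bot] at h1
        exact (Nat.Prime.coprime_iff_not_dvd hp.out).mpr h1 |>.symm
      · exact top_sup_eq _
    · have hPbp : IsPGroup p ↥(Pb : Subgroup (G ⧸ H)) := Pb.2
      have hJb : Cfsg.HasNormalPComplement p
          ↥(normalizer (Jg good (Pb : Subgroup (G ⧸ H)) : Set (G ⧸ H))) :=
        hpre _ (Jg_le _) (Jg_ne_bot hI hcyc hPbp hPbot)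
          (Subgroup.le_normalizer.trans (normalizer_le_normalizer_Jg hI _))
      have hZb : Cfsg.HasNormalPComplement p
          ↥(centralizer (Zc (Pb : Subgroup (G ⧸ H)) : Set (G ⧸ H))) :=
        npc_of_le (Subgroup.centralizer_le_normalizer _)
          (hpre _ (Zc_le _) (Zc_ne_bot hPbp hPbot)
            (Subgroup.le_normalizer.trans (normalizer_le_normalizer_Zc _)))
      exact ih _ hcardq (G ⧸ H) rfl (hΦquot G H hΦ) Pb hJb hZb
  -- Step 5: the setup
  obtain ⟨Kb, hKbn, hKbc⟩ := (Cfsg.Agent.Helper2.hasNormalPComplement_iff Pb).mp hquot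
  haveI := hKbn
  set K := Kb.comap π with hK
  have hKn : K.Normal := hKbn.comap π
  have hHK : H ≤ K := by
    rw [← hker]
    exact Subgroup.ker_le_comap _ _
  have hsetup : TSetup p P H K := by
    refine ⟨hHn, hKn, hHP, hHK, ?_, ?_, ?_, hM2, ?_, hnot⟩
    · intro x hx
      obtain ⟨hxK, hxP⟩ := Subgroup.mem_inf.mp hx
      have h1 : π x ∈ Kb ⊓ (Pb : Subgroup (G ⧸ H)) :=
        Subgroup.mem_inf.mpr ⟨hxK, by rw [hPb]; exact ⟨x, hxP, rfl⟩⟩
      rw [disjoint_iff.mp hKbc.disjoint, Subgroup.mem_bot] at h1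
      rw [← hker]
      exact h1
    · rw [eq_top_iff]
      intro g _
      have h1 : π g ∈ Kb ⊔ (Pb : Subgroup (G ⧸ H)) := by rw [hKbc.sup_eq_top]; trivial
      rw [Subgroup.mem_sup_of_normal_left] at h1
      obtain ⟨y, hy, z, hz, hyz⟩ := h1
      rw [hPb] at hz
      obtain ⟨z', hz', rfl⟩ := hz
      have h2 : g * z'⁻¹ ∈ K := by
        rw [hK, Subgroup.mem_comap, map_mul, map_inv, ← hyz]
        simpa using hy
      have : g = (g * z'⁻¹) * z' := by group
      rw [this]
      exact Subgroup.mul_mem_sup h2 hz'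
    · refine ⟨Nat.card Kb, ?_, ?_⟩
      · rw [← hKbc.index_eq_card]
        exact (Nat.Prime.coprime_iff_not_dvd hp.out).mpr Pb.not_dvd_index |>.symm
      · intro k hk
        have h1 : (⟨π k, hk⟩ : ↥Kb) ^ Nat.card Kb = 1 := pow_card_eq_one'
        have h2 : π k ^ Nat.card Kb = 1 := congrArg Subtype.val h1
        rw [← map_pow] at h2
        exact (QuotientGroup.eq_one_iff _).mp h2
    · intro M hPM hM
      have hcardM : Nat.card ↥M < n := by
        rw [← hn]
        exact lt_of_le_of_ne (hcardle M) (fun h => hM (Subgroup.eq_top_of_card_eq M h))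
      have hPmap : ((P.subtype hPM : Sylow p ↥M) : Subgroup ↥M).map M.subtype = (P : Subgroup G) := by
        rw [Sylow.coe_subtype, Subgroup.subgroupOf_map_subtype, inf_eq_left.mpr hPM]
      apply ih _ hcardM ↥M rfl (hΦsub G M hΦ) (P.subtype hPM)
      · apply npc_normalizer_Jg_sub hI
        rw [hPmap]
        exact hJ
      · apply npc_centralizer_Zc_sub
        rw [hPmap]
        exact hZ
  exact hfinal G hΦ P H K hsetup hJ hZ

theorem thompson_npc_gen {p : ℕ} [hp : Fact p.Prime] (hI : Intrinsic good)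
    (hcyc : ∀ (K : Type u) [Group K] (x : K), x ^ p = 1 → good K (zpowers x))
    (Φ : ∀ (G : Type u) [Group G], Prop)
    (hΦsub : ∀ (G : Type u) [Group G] (M : Subgroup G), Φ G → Φ ↥M)
    (hΦquot : ∀ (G : Type u) [Group G] (N : Subgroup G) [N.Normal], Φ G → Φ (G ⧸ N))
    (hfinal : ∀ (G : Type u) [Group G] [Finite G], Φ G → ∀ (P : Sylow p G) (H K : Subgroup G),
      TSetup p P H K →
      Cfsg.HasNormalPComplement p ↥(normalizer (Jg good (P : Subgroup G) : Set G)) →
      Cfsg.HasNormalPComplement p ↥(centralizer (Zc (P : Subgroup G) : Set G)) → False)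
    {G : Type u} [Group G] [Finite G] (hΦ : Φ G) (P : Sylow p G)
    (hJ : Cfsg.HasNormalPComplement p ↥(normalizer (Jg good (P : Subgroup G) : Set G)))
    (hZ : Cfsg.HasNormalPComplement p ↥(centralizer (Zc (P : Subgroup G) : Set G))) :
    Cfsg.HasNormalPComplement p G :=
  thompson_npc_gen_aux hI hcyc Φ hΦsub hΦquot hfinal _ G rfl hΦ P hJ hZ

end Cfsg.Agent.Helper1
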