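import Cfsg.Agent.Lib.ZJ6
import Cfsg.Agent.Helper1.NPC

/-!
# The Thompson subgroup of a family `good`, and the centre, as functors (helper1)

`Jg good S = sSup (maxGood (good G) S)` (lead's `Lib.ZJ` framework) and `Zc S = S ⊓ C_G(S)`.
-/

set_option autoImplicit false

namespace Cfsg.Agent.Helper1

open Subgroup Cfsg.Agent.Lib.ZJ

universe u

variable {good : ∀ (K : Type u) [Group K], Subgroup K → Prop}

/-- the Thompson subgroup of `S ≤ G` with respect to the family `good` -/
def Jg (good : ∀ (K : Type u) [Group K], Subgroup K → Prop) {G : Type u} [Group G]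
    (S : Subgroup G) : Subgroup G := sSup (maxGood (good G) S)

/-- the centre of `S ≤ G`, inside `G` -/
def Zc {G : Type*} [Group G] (S : Subgroup G) : Subgroup G := S ⊓ centralizer (S : Set G)

section basic

variable {G : Type u} [Group G]

theorem Jg_le (S : Subgroup G) : Jg good S ≤ S := sSup_le fun _ hA => hA.1

theorem le_Jg {S A : Subgroup G} (hA : A ∈ maxGood (good G) S) : A ≤ Jg good S := le_sSup hA

theorem Zc_le (S : Subgroup G) : Zc S ≤ S := inf_le_left

theorem maxGood_nonempty (hI : Intrinsic good) [Finite G] (S : Subgroup G) :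
    (maxGood (good G) S).Nonempty := by
  rw [← image_map_subtype_maxGoodT hI]
  exact (maxGoodT_nonempty hI).image _

theorem Jg_map (hI : Intrinsic good) {H : Type u} [Group H] (f : G →* H) (S : Subgroup G)
    (hinj : Function.Injective (f.comp S.subtype)) : Jg good (S.map f) = (Jg good S).map f := by
  unfold Jg
  rw [maxGood_map_of_injOn f S hinj hI, map_sSup']

theorem Zc_map {H : Type*} [Group H] (f : G →* H) (hf : Function.Injective f) (S : Subgroup G) :
    Zc (S.map f) = (Zc S).map f := by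
  ext y
  unfold Zc
  rw [Subgroup.mem_inf, Subgroup.mem_map, Subgroup.mem_map]
  constructor
  · rintro ⟨⟨s, hs, rfl⟩, hy⟩
    refine ⟨s, Subgroup.mem_inf.mpr ⟨hs, Subgroup.mem_centralizer_iff.mpr fun t ht => ?_⟩, rfl⟩
    apply hf
    rw [map_mul, map_mul]
    exact (Subgroup.mem_centralizer_iff.mp hy) (f t) ⟨t, ht, rfl⟩
  · rintro ⟨s, hs, rfl⟩
    rw [Subgroup.mem_inf] at hs
    refine ⟨⟨s, hs.1, rfl⟩, Subgroup.mem_centralizer_iff.mpr ?_⟩
    rintro _ ⟨t, ht, rfl⟩
    rw [← map_mul, ← map_mul, (Subgroup.mem_centralizer_iff.mp hs.2) t ht]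

theorem normalizer_le_normalizer_Jg (hI : Intrinsic good) (S : Subgroup G) :
    normalizer (S : Set G) ≤ normalizer (Jg good S : Set G) := by
  intro g hg
  rw [Subgroup.mem_normalizer_iff_map_conj_eq] at hg ⊢
  have h1 := Jg_map (good := good) hI (MulAut.conj g : G →* G) S
    ((MulAut.conj g).injective.comp S.subtype_injective)
  rw [hg] at h1
  exact h1.symm

theorem normalizer_le_normalizer_Zc (S : Subgroup G) :
    normalizer (S : Set G) ≤ normalizer (Zc S : Set G) := by
  intro g hg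
  rw [Subgroup.mem_normalizer_iff_map_conj_eq] at hg ⊢
  have h1 := Zc_map (MulAut.conj g : G →* G) (MulAut.conj g).injective S
  rw [hg] at h1
  exact h1.symm

theorem Jg_eq_of_le (hI : Intrinsic good) [Finite G] {S H : Subgroup G} (h1 : Jg good S ≤ H)
    (h2 : H ≤ S) : Jg good H = Jg good S := by
  have hfam : maxGood (good G) H = maxGood (good G) S := by
    obtain ⟨A₀, hA₀⟩ := maxGood_nonempty hI S
    have hA₀H : A₀ ≤ H := (le_Jg hA₀).trans h1
    ext A
    constructor
    · rintro ⟨hAH, hg, hmax⟩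
      refine ⟨hAH.trans h2, hg, fun B hB hgB => ?_⟩
      exact (hA₀.2.2 B hB hgB).trans (hmax A₀ hA₀H hA₀.2.1)
    · intro hA
      exact ⟨(le_Jg hA).trans h1, hA.2.1, fun B hB hgB => hA.2.2 B (hB.trans h2) hgB⟩
  unfold Jg
  rw [hfam]

theorem Jg_ne_bot (hI : Intrinsic good) [Finite G] {p : ℕ} [hp : Fact p.Prime]
    (hcyc : ∀ (K : Type u) [Group K] (x : K), x ^ p = 1 → good K (zpowers x))
    {S : Subgroup G} (hS : IsPGroup p S) (hne : S ≠ ⊥) : Jg good S ≠ ⊥ := by
  obtain ⟨A, hA⟩ := maxGood_nonempty hI S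
  have hdvd : p ∣ Nat.card S := by
    obtain ⟨k, hk⟩ := IsPGroup.iff_card.mp hS
    have hk0 : k ≠ 0 := by
      rintro rfl
      rw [pow_zero] at hk
      exact hne ((Subgroup.card_eq_one).mp hk)
    rw [hk]
    exact dvd_pow_self p hk0
  obtain ⟨x, hx⟩ := exists_prime_orderOf_dvd_card' (G := ↥S) p hdvd
  have hx' : orderOf (x : G) = p := by rw [Subgroup.orderOf_coe]; exact hx
  have hxp : (x : G) ^ p = 1 := by rw [← hx']; exact pow_orderOf_eq_one _
  have h1 := hA.2.2 (zpowers (x : G)) (by rw [Subgroup.zpowers_le]; exact x.2) (hcyc G _ hxp)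
  rw [Nat.card_zpowers, hx'] at h1
  intro hbot
  have h2 : A = ⊥ := le_bot_iff.mp (hbot ▸ le_Jg hA)
  rw [h2, Subgroup.card_bot] at h1
  exact absurd h1 (not_le.mpr hp.out.one_lt)

theorem Zc_ne_bot [Finite G] {p : ℕ} [hp : Fact p.Prime] {S : Subgroup G} (hS : IsPGroup p S)
    (hne : S ≠ ⊥) : Zc S ≠ ⊥ := by
  have hnt : Nontrivial ↥S := (Subgroup.nontrivial_iff_ne_bot S).mpr hne
  have h1 := hS.bot_lt_center
  obtain ⟨z, hz, hz1⟩ := (Subgroup.ne_bot_iff_exists_ne_one).mp (bot_lt_iff_ne_bot.mp h1) |>.elim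
    (fun z hz => (⟨z.1, z.2, fun h => hz (Subtype.ext h)⟩ :
      ∃ z : ↥S, z ∈ Subgroup.center ↥S ∧ z ≠ 1))
  intro hbot
  have h2 : (z : G) ∈ Zc S := by
    refine Subgroup.mem_inf.mpr ⟨z.2, Subgroup.mem_centralizer_iff.mpr fun t ht => ?_⟩
    have := (Subgroup.mem_center_iff.mp hz) ⟨t, ht⟩
    exact congrArg Subtype.val this
  rw [hbot, Subgroup.mem_bot] at h2
  exact hz1 (Subtype.ext h2)

end basic

section transport

variable {G : Type u} [Group G] [Finite G] {p : ℕ} [Fact p.Prime]

theorem npc_normalizer_Jg_conj (hI : Intrinsic good) (P P' : Sylow p G)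
    (h : Cfsg.HasNormalPComplement p ↥(normalizer (Jg good (P : Subgroup G) : Set G))) :
    Cfsg.HasNormalPComplement p ↥(normalizer (Jg good (P' : Subgroup G) : Set G)) := by
  obtain ⟨g, hg⟩ := MulAction.exists_smul_eq G P P'
  have h2 : ((g • P : Sylow p G) : Subgroup G) =
      (P : Subgroup G).map (MulAut.conj g).toMonoidHom := rfl
  rw [← hg, h2, Jg_map hI _ _ ((MulAut.conj g).injective.comp (P : Subgroup G).subtype_injective),
    ← Subgroup.map_equiv_normalizer_eq]
  exact npc_map _ _ h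

theorem npc_centralizer_Zc_conj (P P' : Sylow p G)
    (h : Cfsg.HasNormalPComplement p ↥(centralizer (Zc (P : Subgroup G) : Set G))) :
    Cfsg.HasNormalPComplement p ↥(centralizer (Zc (P' : Subgroup G) : Set G)) := by
  obtain ⟨g, hg⟩ := MulAction.exists_smul_eq G P P'
  have h2 : ((g • P : Sylow p G) : Subgroup G) =
      (P : Subgroup G).map (MulAut.conj g).toMonoidHom := rfl
  rw [← hg, h2, Zc_map _ (MulAut.conj g).injective]
  have h3 := npc_map (MulAut.conj g).toMonoidHom _ h
  refine npc_of_le ?_ h3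
  intro y hy
  refine ⟨g⁻¹ * y * g, Subgroup.mem_centralizer_iff.mpr fun z hz => ?_, by simp [mul_assoc]⟩
  have h4 := (Subgroup.mem_centralizer_iff.mp hy) (g * z * g⁻¹) ⟨z, hz, by simp⟩
  calc z * (g⁻¹ * y * g) = g⁻¹ * ((g * z * g⁻¹) * y) * g := by group
    _ = g⁻¹ * (y * (g * z * g⁻¹)) * g := by rw [h4]
    _ = g⁻¹ * y * g * z := by group

theorem npc_normalizer_Jg_sub (hI : Intrinsic good) {N : Subgroup G} (R : Subgroup ↥N)
    (h : Cfsg.HasNormalPComplement p ↥(normalizer (Jg good (R.map N.subtype) : Set G))) :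
    Cfsg.HasNormalPComplement p ↥(normalizer (Jg good R : Set ↥N)) := by
  apply npc_of_map_injective N.subtype N.subtype_injective
  refine npc_of_le ?_ h
  rw [Jg_map hI N.subtype R (N.subtype_injective.comp R.subtype_injective)]
  exact Subgroup.le_normalizer_map _

theorem npc_centralizer_Zc_sub {N : Subgroup G} (R : Subgroup ↥N)
    (h : Cfsg.HasNormalPComplement p ↥(centralizer (Zc (R.map N.subtype) : Set G))) :
    Cfsg.HasNormalPComplement p ↥(centralizer (Zc R : Set ↥N)) := by
  apply npc_of_map_injective N.subtype N.subtype_injective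
  refine npc_of_le ?_ h
  rw [Zc_map N.subtype N.subtype_injective R]
  refine (Subgroup.map_centralizer_le_centralizer_image _ _).trans ?_
  exact le_of_eq rfl

end transport

end Cfsg.Agent.Helper1
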