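import Cfsg.Agent.Helper1.ThompsonGen
import Cfsg.Agent.Helper1.ReplComm
import Cfsg.Agent.Helper1.S4FromConfig
import Cfsg.Agent.Helper37.InvolvesQuotient
import Cfsg.Agent.S0055

/-!
# Thompson's normal `p`-complement theorem for `p = 2` and `S₄`-free groups (abelian version of `J`) (helper1)
-/

set_option autoImplicit false
set_option linter.unusedSectionVars false
set_option linter.style.haveILetI false

namespace Cfsg.Agent.Helper1

open Subgroup Cfsg.Agent.Lib.ZJ
open scoped commutatorElement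

universe u

variable {G : Type u} [Group G]

/-- a `p'`-element centralizing `Ω₁(Z)` of a normal abelian `p`-subgroup `Z` centralizes `Z` (any `p`) -/
theorem centralizes_of_centralizes_omega [Finite G] {p : ℕ} [hp : Fact p.Prime] (Z : Subgroup G)
    [Z.Normal] (hZc : ∀ a ∈ Z, ∀ b ∈ Z, a * b = b * a) (hZp : IsPGroup p Z) (g : G)
    (hg : (orderOf g).Coprime p) (hΩ : ∀ z ∈ Z, z ^ p = 1 → g * z = z * g) :
    ∀ z ∈ Z, g * z = z * g := by
  haveI : IsMulCommutative ↥Z := ⟨⟨fun a b => Subtype.ext (hZc a a.2 b b.2)⟩⟩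
  have hcop : (Nat.card (zpowers g)).Coprime (Nat.card Z) := by
    obtain ⟨n, hn⟩ := IsPGroup.iff_card.mp hZp
    rw [Nat.card_zpowers, hn]
    exact Nat.Coprime.pow_right n hg
  obtain ⟨h1, h2⟩ := Cfsg.Agent.S0055.result (zpowers g) Z Subgroup.le_normalizer_of_normal hcop
  have hbot : ⁅Z, zpowers g⁆ = ⊥ := by
    by_contra hne
    have hle : ⁅Z, zpowers g⁆ ≤ Z := Subgroup.commutator_le_left Z (zpowers g)
    have hpg : IsPGroup p ↥⁅Z, zpowers g⁆ := hZp.to_le hle
    have hdvd : p ∣ Nat.card ↥⁅Z, zpowers g⁆ := by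
      obtain ⟨k, hk⟩ := IsPGroup.iff_card.mp hpg
      have hk0 : k ≠ 0 := by
        rintro rfl
        rw [pow_zero] at hk
        exact hne (Subgroup.card_eq_one.mp hk)
      rw [hk]
      exact dvd_pow_self p hk0
    obtain ⟨x, hx⟩ := exists_prime_orderOf_dvd_card' (G := ↥⁅Z, zpowers g⁆) p hdvd
    have hx' : orderOf (x : G) = p := by rw [Subgroup.orderOf_coe]; exact hx
    have hxp : (x : G) ^ p = 1 := by rw [← hx']; exact pow_orderOf_eq_one _
    have hxZ : (x : G) ∈ Z := hle x.2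
    have hcomm := hΩ _ hxZ hxp
    have hxC : (x : G) ∈ centralizer ((zpowers g : Subgroup G) : Set G) := by
      rw [Subgroup.mem_centralizer_iff]
      intro b hb
      obtain ⟨k, rfl⟩ := Subgroup.mem_zpowers_iff.mp hb
      exact ((Commute.zpow_left (show Commute g (x : G) from hcomm) k)).eq
    have hmem : (x : G) ∈ (Z ⊓ centralizer ((zpowers g : Subgroup G) : Set G)) ⊓ ⁅Z, zpowers g⁆ :=
      Subgroup.mem_inf.mpr ⟨Subgroup.mem_inf.mpr ⟨hxZ, hxC⟩, x.2⟩
    rw [h1, Subgroup.mem_bot] at hmem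
    rw [hmem, orderOf_one] at hx'
    exact hp.out.one_lt.ne hx'
  have h3 : Z ≤ centralizer ((zpowers g : Subgroup G) : Set G) :=
    Subgroup.commutator_eq_bot_iff_le_centralizer.mp hbot
  intro z hz
  exact (Subgroup.mem_centralizer_iff.mp (h3 hz)) g (Subgroup.mem_zpowers g)

namespace TSetup

variable [Finite G] {p : ℕ} [hp : Fact p.Prime] {P : Sylow p G} {H K : Subgroup G}
variable {good : ∀ (K : Type u) [Group K], Subgroup K → Prop}

theorem not_K_le_centralizer_OmZ' (s : TSetup p P H K)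
    (hZ : Cfsg.HasNormalPComplement p ↥(centralizer (Zc (P : Subgroup G) : Set G))) :
    ¬ K ≤ centralizer (OmZ p H : Set G) := by
  intro hK
  haveI := s.Hn
  haveI := Zc_normal H
  apply s.notnpc
  have h1 : K ≤ centralizer (Zc H : Set G) := by
    apply s.K_le_of
    · exact Subgroup.le_centralizer_iff.mp inf_le_right
    · intro g hgK hg
      rw [Subgroup.mem_centralizer_iff]
      intro x hx
      refine (centralizes_of_centralizes_omega (Zc H) ?_ (s.isPGroup_H.to_le inf_le_left) g hg ?_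
        x hx).symm
      · intro a ha b hb
        exact ((Subgroup.mem_centralizer_iff.mp (Subgroup.mem_inf.mp ha).2) b
          (Subgroup.mem_inf.mp hb).1).symm
      · intro y hy hy'
        exact ((Subgroup.mem_centralizer_iff.mp (hK hgK)) y ⟨hy, hy'⟩).symm
  have h2 : K ≤ centralizer (Zc (P : Subgroup G) : Set G) :=
    h1.trans (Subgroup.centralizer_le s.Zc_P_le)
  have h3 : (P : Subgroup G) ≤ centralizer (Zc (P : Subgroup G) : Set G) :=
    Subgroup.le_centralizer_iff.mp inf_le_right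
  have h4 : centralizer (Zc (P : Subgroup G) : Set G) = ⊤ := by
    rw [eq_top_iff, ← s.top]
    exact sup_le h2 h3
  rw [h4] at hZ
  exact npc_top_iff.mp hZ

theorem K_inf_centralizer_OmZ' (s : TSetup p P H K)
    (hZ : Cfsg.HasNormalPComplement p ↥(centralizer (Zc (P : Subgroup G) : Set G))) :
    K ⊓ centralizer (OmZ p H : Set G) = C1 H K := by
  haveI := s.Hn
  haveI := s.Kn
  haveI := OmZ_normal p H
  apply le_antisymm
  · apply s.le_C1_of
    · exact Subgroup.le_normalizer_of_normal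
    · exact le_inf s.HK (le_centralizer_OmZ p H)
    · exact inf_le_left
    · intro h
      exact s.not_K_le_centralizer_OmZ' hZ (h ▸ inf_le_right)
  · apply sup_le
    · exact inf_le_inf_left K (Subgroup.centralizer_le (OmZ_le p H))
    · exact le_inf s.HK (le_centralizer_OmZ p H)

theorem centralizer_OmZ_inf_P' (s : TSetup p P H K)
    (hZ : Cfsg.HasNormalPComplement p ↥(centralizer (Zc (P : Subgroup G) : Set G))) :
    centralizer (OmZ p H : Set G) ⊓ (P : Subgroup G) ≤ H := by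
  haveI := s.Hn
  haveI := OmZ_normal p H
  apply s.inf_P_le_H (centralizer (OmZ p H : Set G))
  rw [inf_comm, s.K_inf_centralizer_OmZ' hZ]

theorem exists_not_le_centralizer' (s : TSetup p P H K) (hI : Intrinsic good)
    (hJ : Cfsg.HasNormalPComplement p ↥(normalizer (Jg good (P : Subgroup G) : Set G)))
    (hZ : Cfsg.HasNormalPComplement p ↥(centralizer (Zc (P : Subgroup G) : Set G))) :
    ∃ A ∈ maxGood (good G) (P : Subgroup G), ¬ A ≤ centralizer (OmZ p H : Set G) := by
  by_contra hcon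
  push Not at hcon
  apply s.notnpc
  have h1 : Jg good (P : Subgroup G) ≤ H := by
    refine le_trans ?_ (s.centralizer_OmZ_inf_P' hZ)
    exact le_inf (sSup_le hcon) (Jg_le _)
  have h2 : Jg good H = Jg good (P : Subgroup G) := Jg_eq_of_le hI h1 s.HP
  have h3 : normalizer (Jg good (P : Subgroup G) : Set G) = ⊤ := by
    rw [eq_top_iff, ← h2]
    refine le_trans ?_ (normalizer_le_normalizer_Jg hI H)
    rw [Subgroup.normalizer_eq_top_iff.mpr s.Hn]
  rw [h3] at hJ
  exact npc_top_iff.mp hJ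

/-- elements of `P` centralizing `K / C₁` lie in `H` -/
theorem mem_H_of_centralizes (s : TSetup p P H K) {a : G} (haP : a ∈ (P : Subgroup G))
    (hKa : ∀ k ∈ K, (a * k)⁻¹ * (k * a) ∈ C1 H K) : a ∈ H := by
  haveI := s.Hn
  haveI := s.Kn
  haveI := s.C1_normal
  let π := QuotientGroup.mk' (C1 H K)
  have hπ : Function.Surjective π := QuotientGroup.mk'_surjective _
  haveI hKbn : (K.map π).Normal := s.Kn.map π hπ
  set X₀ := (centralizer ((K.map π : Subgroup (G ⧸ C1 H K)) : Set (G ⧸ C1 H K))).comap π with hX₀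
  haveI hX₀n : X₀.Normal := (inferInstance : (centralizer ((K.map π : Subgroup (G ⧸ C1 H K)) :
    Set (G ⧸ C1 H K))).Normal).comap π
  have hmemX₀ : ∀ g : G, g ∈ X₀ ↔ ∀ k ∈ K, (g * k)⁻¹ * (k * g) ∈ C1 H K := by
    intro g
    rw [hX₀, Subgroup.mem_comap, Subgroup.mem_centralizer_iff]
    constructor
    · intro h k hk
      have h1 := h (π k) ⟨k, hk, rfl⟩
      rw [← map_mul, ← map_mul] at h1
      exact QuotientGroup.eq.mp h1.symm
    · rintro h _ ⟨k, hk, rfl⟩
      rw [← map_mul, ← map_mul]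
      exact (QuotientGroup.eq.mpr (h k hk)).symm
  have haX₀ : a ∈ X₀ := (hmemX₀ a).mpr hKa
  set B := (P : Subgroup G) ⊓ X₀ with hB
  set X := B ⊔ C1 H K with hX
  have haB : a ∈ B := Subgroup.mem_inf.mpr ⟨haP, haX₀⟩
  have hBC : ∀ x ∈ X, ∃ b ∈ B, ∃ c ∈ C1 H K, x = b * c := by
    intro x hx
    have h1 : x ∈ ((B ⊔ C1 H K : Subgroup G) : Set G) := hx
    rw [Subgroup.mul_normal] at h1
    obtain ⟨b, hb, c, hc, rfl⟩ := h1
    exact ⟨b, hb, c, hc, rfl⟩
  have hPX : (P : Subgroup G) ≤ normalizer (X : Set G) := by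
    intro y hy
    apply mem_normalizer_of_conj_mem
    intro x hx
    obtain ⟨b, hb, c, hc, rfl⟩ := hBC x hx
    have h1 : y * b * y⁻¹ ∈ B := by
      obtain ⟨hb1, hb2⟩ := Subgroup.mem_inf.mp hb
      exact Subgroup.mem_inf.mpr
        ⟨(P : Subgroup G).mul_mem ((P : Subgroup G).mul_mem hy hb1) ((P : Subgroup G).inv_mem hy),
          hX₀n.conj_mem b hb2 y⟩
    have h2 : y * c * y⁻¹ ∈ C1 H K := s.C1_normal.conj_mem c hc y
    have : y * (b * c) * y⁻¹ = (y * b * y⁻¹) * (y * c * y⁻¹) := by group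
    rw [this]
    exact Subgroup.mul_mem_sup h1 h2
  have hKX : K ≤ normalizer (X : Set G) := by
    intro k hk
    apply mem_normalizer_of_conj_mem
    intro x hx
    obtain ⟨b, hb, c, hc, rfl⟩ := hBC x hx
    have hb2 : b ∈ X₀ := (Subgroup.mem_inf.mp hb).2
    have h0 := (hmemX₀ b).mp hb2 k⁻¹ (K.inv_mem hk)
    have h1 : k * b * k⁻¹ * b⁻¹ ∈ C1 H K := by
      have h3 : k * b * k⁻¹ * b⁻¹ = b * ((b * k⁻¹)⁻¹ * (k⁻¹ * b))⁻¹ * b⁻¹ := by group
      rw [h3]
      exact s.C1_normal.conj_mem _ ((C1 H K).inv_mem h0) b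
    have h2 : k * c * k⁻¹ ∈ C1 H K := s.C1_normal.conj_mem c hc k
    have : k * (b * c) * k⁻¹ = (k * b * k⁻¹ * b⁻¹) * b * (k * c * k⁻¹) := by group
    rw [this]
    exact X.mul_mem (X.mul_mem (le_sup_right (a := B) h1) (le_sup_left (b := C1 H K) hb))
      (le_sup_right (a := B) h2)
  have hXn : X.Normal := by
    rw [← Subgroup.normalizer_eq_top_iff, eq_top_iff, ← s.top]
    exact sup_le hKX hPX
  have hXK : X ⊓ K ≤ C1 H K := by
    rw [inf_comm, hX, sup_comm, inf_sup_of_le_of_le_normalizer s.C1_le_K (s.le_normalizer_C1 _)]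
    apply sup_le le_rfl
    refine le_trans ?_ (s.KP.trans H_le_C1)
    exact inf_le_inf_left K inf_le_left
  have h5 := s.inf_P_le_H X hXK
  exact h5 (Subgroup.mem_inf.mpr ⟨le_sup_left (b := C1 H K) haB, haP⟩)

open scoped IsMulCommutative in
/-- the final contradiction for `p = 2` in an `S₄`-free group -/
theorem false_of_two {P : Sylow 2 G} (s : TSetup 2 P H K)
    (hS4 : ¬ Cfsg.Involves (Equiv.Perm (Fin 4)) G)
    (hJ : Cfsg.HasNormalPComplement 2 ↥(normalizer (Jg goodComm (P : Subgroup G) : Set G)))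
    (hZ : Cfsg.HasNormalPComplement 2 ↥(centralizer (Zc (P : Subgroup G) : Set G))) : False := by
  haveI : Fact (2 : ℕ).Prime := ⟨Nat.prime_two⟩
  haveI := s.Hn
  haveI := s.Kn
  haveI := s.C1_normal
  haveI hVn := OmZ_normal 2 H
  haveI hVc : IsMulCommutative ↥(OmZ 2 H) := ⟨⟨fun a b => Subtype.ext (OmZ_comm 2 H a a.2 b b.2)⟩⟩
  obtain ⟨A₁, hA₁, hA₁V⟩ := s.exists_not_le_centralizer' intrinsic_comm hJ hZ
  obtain ⟨A, hA, hAV, hquad⟩ := repl_comm 2 (P : Subgroup G) (OmZ 2 H) P.2 ((OmZ_le 2 H).trans s.HP)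
    Subgroup.le_normalizer_of_normal (OmZ_comm 2 H) (OmZ_pow 2 H) A₁ hA₁ hA₁V
  have hK1 := s.K_inf_centralizer_OmZ' hZ
  have hcomm := s.commutator_K_le_C1
  obtain ⟨m, hm, hKm⟩ := s.exm
  set V := OmZ 2 H with hV
  set N := (actV V).ker with hN
  have hNmem : ∀ g, g ∈ N ↔ g ∈ centralizer (V : Set G) := mem_ker_actV V
  have hAcomm : ∀ x ∈ A, ∀ x' ∈ A, x * x' = x' * x := intrinsic_comm.comm A hA.2.1
  have hU2 : ∀ u : ↥V, u * u = 1 := by
    intro u
    apply Subtype.ext
    rw [Subgroup.coe_mul, Subgroup.coe_one, ← pow_two]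
    exact OmZ_pow 2 H u u.2
  have hmk : ∀ g : G, (QuotientGroup.mk' N g) = (g : G ⧸ N) := fun _ => rfl
  -- hypotheses of `offender_core`
  have hYc : ∀ y ∈ K.map (QuotientGroup.mk' N), ∀ y' ∈ K.map (QuotientGroup.mk' N),
      y * y' = y' * y := by
    rintro _ ⟨k, hk, rfl⟩ _ ⟨k', hk', rfl⟩
    rw [← map_mul, ← map_mul, hmk, hmk]
    apply QuotientGroup.eq.mpr
    rw [hNmem]
    have h1 : ⁅k⁻¹, k'⁻¹⁆ ∈ ⁅K, K⁆ :=
      Subgroup.commutator_mem_commutator (K.inv_mem hk) (K.inv_mem hk')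
    have h2 := hcomm h1
    rw [← hK1] at h2
    have h3 : (k * k')⁻¹ * (k' * k) = (⁅k'⁻¹, k⁻¹⁆) := by
      rw [commutatorElement_def]; group
    rw [h3]
    have h4 : ⁅k'⁻¹, k⁻¹⁆ ∈ ⁅K, K⁆ :=
      Subgroup.commutator_mem_commutator (K.inv_mem hk') (K.inv_mem hk)
    have h5 := hcomm h4
    rw [← hK1] at h5
    exact (Subgroup.mem_inf.mp h5).2
  have hYodd : ∀ y ∈ K.map (QuotientGroup.mk' N), Odd (orderOf y) := by
    rintro _ ⟨k, hk, rfl⟩
    have h1 : (QuotientGroup.mk' N k) ^ m = 1 := by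
      rw [← map_pow, hmk]
      apply (QuotientGroup.eq_one_iff _).mpr
      rw [hNmem]
      exact le_centralizer_OmZ 2 H (hKm k hk)
    have h2 : orderOf (QuotientGroup.mk' N k) ∣ m := orderOf_dvd_of_pow_eq_one h1
    have hmodd : Odd m := by
      rcases Nat.even_or_odd m with he | ho
      · exfalso
        have : 2 ∣ m := he.two_dvd
        have h3 := Nat.Coprime.eq_one_of_dvd hm.symm this
        norm_num at h3
      · exact ho
    exact Odd.of_dvd_nat hmodd h2
  have hEY : ∀ x ∈ A.map (QuotientGroup.mk' N), ∀ y ∈ K.map (QuotientGroup.mk' N),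
      MulAut.conj x y ∈ K.map (QuotientGroup.mk' N) := by
    rintro _ ⟨a', -, rfl⟩ _ ⟨k, hk, rfl⟩
    rw [MulAut.conj_apply, ← map_inv, ← map_mul, ← map_mul]
    exact ⟨a' * k * a'⁻¹, s.Kn.conj_mem k hk a', rfl⟩
  have hE2 : ∀ x ∈ A.map (QuotientGroup.mk' N), x * x = 1 := by
    rintro _ ⟨a', ha', rfl⟩
    rw [← map_mul, hmk]
    apply (QuotientGroup.eq_one_iff _).mpr
    rw [hNmem, Subgroup.mem_centralizer_iff]
    intro v hv
    have hq := hquad a' ha' v hv
    have hcV : a' * v * a'⁻¹ * v⁻¹ ∈ V := V.mul_mem (hVn.conj_mem v hv a') (V.inv_mem hv)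
    have hc2 : (a' * v * a'⁻¹ * v⁻¹) * (a' * v * a'⁻¹ * v⁻¹) = 1 := by
      rw [← pow_two]; exact OmZ_pow 2 H _ hcV
    have hvc : (a' * v * a'⁻¹ * v⁻¹) * v = v * (a' * v * a'⁻¹ * v⁻¹) := OmZ_comm 2 H _ hcV v hv
    -- `a'² v a'⁻² = v`
    have h1 : a' * a' * v * (a' * a')⁻¹ = v := by
      calc a' * a' * v * (a' * a')⁻¹
          = (a' * (a' * v * a'⁻¹ * v⁻¹) * a'⁻¹) * (a' * v * a'⁻¹ * v⁻¹) * v := by group
        _ = (a' * v * a'⁻¹ * v⁻¹) * (a' * v * a'⁻¹ * v⁻¹) * v := by rw [hq]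
        _ = v := by rw [hc2, one_mul]
    calc v * (a' * a') = (a' * a' * v * (a' * a')⁻¹) * (a' * a') := by rw [h1]
      _ = a' * a' * v := by group
  have hEne : A.map (QuotientGroup.mk' N) ≠ ⊥ := by
    intro hbot
    apply hAV
    intro x hx
    rw [← hNmem]
    have := (Subgroup.map_eq_bot_iff _).mp hbot
    rw [QuotientGroup.ker_mk'] at this
    exact this hx
  have hfaith : ∀ x ∈ A.map (QuotientGroup.mk' N),
      (∀ y ∈ K.map (QuotientGroup.mk' N), MulAut.conj x y = y) → x = 1 := by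
    rintro _ ⟨a', ha', rfl⟩ h
    rw [hmk]
    apply (QuotientGroup.eq_one_iff _).mpr
    rw [hNmem]
    apply le_centralizer_OmZ 2 H
    apply s.mem_H_of_centralizes (hA.1 ha')
    intro k hk
    rw [← hK1]
    refine Subgroup.mem_inf.mpr ⟨?_, ?_⟩
    · have : (a' * k)⁻¹ * (k * a') = k⁻¹ * (a'⁻¹ * k * a'⁻¹⁻¹) := by group
      rw [this]
      exact K.mul_mem (K.inv_mem hk) (s.Kn.conj_mem k hk a'⁻¹)
    · rw [← hNmem]
      apply (QuotientGroup.eq_one_iff _).mp
      have h1 := h _ ⟨k, hk, rfl⟩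
      rw [MulAut.conj_apply] at h1
      have h2 : QuotientGroup.mk' N a' * QuotientGroup.mk' N k =
          QuotientGroup.mk' N k * QuotientGroup.mk' N a' := mul_inv_eq_iff_eq_mul.mp h1
      have h3 : (((a' * k)⁻¹ * (k * a') : G) : G ⧸ N) =
          (QuotientGroup.mk' N a' * QuotientGroup.mk' N k)⁻¹ *
            (QuotientGroup.mk' N k * QuotientGroup.mk' N a') := rfl
      rw [h3, h2, inv_mul_cancel]
  have hoffE : Nat.card ↥V ≤ Nat.card (A.map (QuotientGroup.mk' N)) *
      Nat.card (fixSub (actQ V) (A.map (QuotientGroup.mk' N))) := by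
    set A₀ := A ⊓ N with hA₀
    have hA₀V : A₀ ≤ centralizer (V : Set G) := fun x hx => (hNmem x).mp (Subgroup.mem_inf.mp hx).2
    have hgoodB : goodComm G (A₀ ⊔ V) := by
      unfold goodComm
      have hA₀c : IsMulCommutative ↥A₀ :=
        ⟨⟨fun a b => Subtype.ext (hAcomm a (inf_le_left (a := A) a.2) b (inf_le_left (a := A) b.2))⟩⟩
      exact Cfsg.Agent.Helper51.isMulCommutative_sup' hA₀c hVc hA₀V
    have hBP : A₀ ⊔ V ≤ (P : Subgroup G) :=
      sup_le (inf_le_left.trans hA.1) ((OmZ_le 2 H).trans s.HP)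
    have h1 : Nat.card ↥(A₀ ⊔ V) ≤ Nat.card A := hA.2.2 _ hBP hgoodB
    have h2 := Cfsg.Agent.Helper51.card_mul_card_le_sup_mul_inf A₀ V
    have h3 : Nat.card A = Nat.card A₀ * Nat.card (A.map (QuotientGroup.mk' N)) := by
      have h4 := Subgroup.relIndex_ker (QuotientGroup.mk' N) (K := A)
      rw [QuotientGroup.ker_mk'] at h4
      rw [← h4]
      have h5 := Subgroup.card_mul_index (N.subgroupOf A)
      have h6 : Nat.card (N.subgroupOf A) = Nat.card A₀ := by
        rw [hA₀, ← Subgroup.inf_subgroupOf_left N A, card_subgroupOf_of_le inf_le_left]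
      rw [h6] at h5
      exact h5.symm
    have h7 : Nat.card ↥(A₀ ⊓ V) ≤ Nat.card (fixSub (actQ V) (A.map (QuotientGroup.mk' N))) := by
      rw [← card_subgroupOf_of_le (inf_le_right : A₀ ⊓ V ≤ V)]
      apply Subgroup.card_le_of_le
      intro v hv
      rw [Subgroup.mem_subgroupOf] at hv
      rintro _ ⟨a', ha', rfl⟩
      apply Subtype.ext
      rw [hmk, actQ_mk]
      have hvA : (v : G) ∈ A := (inf_le_left (a := A) (Subgroup.mem_inf.mp hv).1)
      rw [hAcomm a' ha' v hvA, mul_inv_cancel_right]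
    have hpos : 0 < Nat.card A₀ := Nat.card_pos
    have h8 : Nat.card A₀ * Nat.card ↥V ≤ Nat.card A₀ * (Nat.card (A.map (QuotientGroup.mk' N)) *
        Nat.card (fixSub (actQ V) (A.map (QuotientGroup.mk' N)))) := by
      calc Nat.card A₀ * Nat.card ↥V ≤ Nat.card ↥(A₀ ⊔ V) * Nat.card ↥(A₀ ⊓ V) := h2
        _ ≤ Nat.card A * Nat.card (fixSub (actQ V) (A.map (QuotientGroup.mk' N))) :=
          Nat.mul_le_mul h1 h7
        _ = Nat.card A₀ * (Nat.card (A.map (QuotientGroup.mk' N)) *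
            Nat.card (fixSub (actQ V) (A.map (QuotientGroup.mk' N)))) := by rw [h3, mul_assoc]
    exact Nat.le_of_mul_le_mul_left h8 hpos
  obtain ⟨a, haE, y, hyY, hy1, hay, hoff⟩ := offender_core (actQ V) (actQ_injective V) hU2
    (K.map (QuotientGroup.mk' N)) (A.map (QuotientGroup.mk' N)) hYc hYodd hEY hE2 hEne hfaith hoffE
  obtain ⟨a₀, ha₀, rfl⟩ := haE
  obtain ⟨y₀, hy₀, rfl⟩ := hyY
  apply hS4
  exact involves_perm4_of_config V a₀ y₀
    ⟨actQ_injective V, hU2, hy1, hYodd _ ⟨y₀, hy₀, rfl⟩, hE2 _ ⟨a₀, ha₀, rfl⟩, hay, hoff⟩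

end TSetup

/-- a group admitting an injective homomorphism into `G` and a surjective one onto `Q` gives a section of `G`
isomorphic to `Q` (as in helper87's S5299) -/
theorem involves_of_inj_surj' {A : Type*} [Group A] {G : Type*} [Group G] {Q : Type*} [Group Q]
    (j : A →* G) (hj : Function.Injective j) (π : A →* Q) (hπ : Function.Surjective π) :
    Cfsg.Involves Q G := by
  let e : A ≃* j.range := MonoidHom.ofInjective hj
  let f : j.range →* Q := π.comp e.symm.toMonoidHom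
  have hf : Function.Surjective f := by
    intro q
    obtain ⟨a, rfl⟩ := hπ q
    exact ⟨e a, by simp [f]⟩
  have hker : ((f.ker).map j.range.subtype).subgroupOf j.range = f.ker := by
    rw [Subgroup.subgroupOf]
    exact Subgroup.comap_map_eq_self_of_injective (Subgroup.subtype_injective _) _
  have hn : (((f.ker).map j.range.subtype).subgroupOf j.range).Normal := by
    rw [hker]; infer_instance
  refine ⟨j.range, (f.ker).map j.range.subtype, hn, ⟨?_⟩⟩
  exact (QuotientGroup.quotientMulEquivOfEq hker).trans (QuotientGroup.quotientKerEquivOfSurjective f hf)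

theorem involves_of_involves_subgroup {G : Type*} [Group G] (M : Subgroup G) {Q : Type*} [Group Q]
    (h : Cfsg.Involves Q ↥M) : Cfsg.Involves Q G := by
  obtain ⟨K', R', hn, ⟨e⟩⟩ := h
  haveI := hn
  refine involves_of_inj_surj' (M.subtype.comp K'.subtype)
    (M.subtype_injective.comp K'.subtype_injective)
    (e.toMonoidHom.comp (QuotientGroup.mk' (R'.subgroupOf K'))) ?_
  exact e.surjective.comp (QuotientGroup.mk'_surjective _)

/-- **Thompson's normal `2`-complement theorem** for `S₄`-free groups (abelian version of `J`). -/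
theorem thompson_npc_two {G : Type u} [Group G] [Finite G]
    (hS4 : ¬ Cfsg.Involves (Equiv.Perm (Fin 4)) G) (P : Sylow 2 G)
    (hJ : Cfsg.HasNormalPComplement 2
      ↥(normalizer (Cfsg.thompsonSubgroupAOf (P : Subgroup G) : Set G)))
    (hZ : Cfsg.HasNormalPComplement 2
      ↥(centralizer (((P : Subgroup G) ⊓ centralizer (P : Set G) : Subgroup G) : Set G))) :
    Cfsg.HasNormalPComplement 2 G := by
  haveI : Fact (2 : ℕ).Prime := ⟨Nat.prime_two⟩
  rw [thompsonSubgroupAOf_eq_Jg] at hJ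
  exact thompson_npc_gen intrinsic_comm (fun K _ x _ => goodComm_zpowers K x)
    (fun G _ => ¬ Cfsg.Involves (Equiv.Perm (Fin 4)) G)
    (fun G _ M h h' => h (involves_of_involves_subgroup M h'))
    (fun G _ N _ h h' => h (Cfsg.Agent.Helper37.involves_of_involves_quotient N h'))
    (fun G _ _ hΦ P H K s hJ hZ => s.false_of_two hΦ hJ hZ) hS4 P hJ hZ

end Cfsg.Agent.Helper1
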