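import Mathlib
import Cfsg.Agent.Helper44.U4Defs
import Cfsg.Agent.S2677
import Cfsg.Agent.Helper42.P4E0
import Cfsg.Agent.Helper42.P4E2

/-!
# S6001 farm (helper44), piece (Y2): two involutions `mZ1`, `CZm` of `N0` inside `GU_4`
-/

set_option autoImplicit false
open scoped MatrixGroups

namespace Cfsg.Agent.Helper1.U4

open Matrix Polynomial Cfsg.Agent.Helper99.P4 Cfsg.Geo Cfsg.Agent.Helper44.U4

variable {F : Type*} [Field F]

theorem CZm_mul_self : (CZm : Matrix (Fin 4) (Fin 4) F) * CZm = 1 := by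
  ext i j; fin_cases i <;> fin_cases j <;> simp [CZm, Matrix.mul_apply, Fin.sum_univ_four]

/-- `CZm` as an element of `GL₄(F)` -/
def CZG : GL (Fin 4) F := ⟨CZm, CZm, CZm_mul_self, CZm_mul_self⟩

/-- `mZ1` as an element of `GL₄(F)` -/
def Z1G : GL (Fin 4) F := ⟨mZ1, mZ1, mZ1_sq, mZ1_sq⟩

theorem mZ1_unitary (bar : F →+* F) :
    (mZ1 : Matrix (Fin 4) (Fin 4) F)ᵀ * (mZ1 : Matrix (Fin 4) (Fin 4) F).map bar = 1 := by
  ext i j; fin_cases i <;> fin_cases j <;>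
    simp [mZ1, Matrix.mul_apply, Fin.sum_univ_four, Matrix.transpose_apply]

theorem CZm_unitary (bar : F →+* F) :
    (CZm : Matrix (Fin 4) (Fin 4) F)ᵀ * (CZm : Matrix (Fin 4) (Fin 4) F).map bar = 1 := by
  ext i j; fin_cases i <;> fin_cases j <;>
    simp [CZm, Matrix.mul_apply, Fin.sum_univ_four, Matrix.transpose_apply]

/-- the explicit witnesses -/
theorem exists_invols_aux {p : ℕ} (bar : F →+* F) (hbar : ∀ x, bar x = x ^ p) {i : F}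
    (hi : i ^ 2 = -1) :
    (Z1G : GL (Fin 4) F) ∈ Cfsg.GU 4 F p ∧ (Z1G : GL (Fin 4) F) ∈ N0 i hi ∧
      (Z1G : GL (Fin 4) F) ^ 2 = 1 ∧
      Matrix.trace ((Z1G : GL (Fin 4) F) : Matrix (Fin 4) (Fin 4) F) = 0 ∧
      (CZG : GL (Fin 4) F) ∈ Cfsg.GU 4 F p ∧ (CZG : GL (Fin 4) F) ∈ N0 i hi ∧
      (CZG : GL (Fin 4) F) ^ 2 = 1 ∧
      Matrix.trace ((CZG : GL (Fin 4) F) : Matrix (Fin 4) (Fin 4) F) = 2 := by
  refine ⟨?_, ?_, ?_, ?_, ?_, ?_, ?_, ?_⟩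
  · rw [Cfsg.Agent.S2677.mem_GU_iff_matrix 4 bar hbar]
    exact mZ1_unitary bar
  · -- `mZ1 ∈ R0 ≤ N0`
    have h0 : (Z1G : GL (Fin 4) F) ∈ R0 i hi := by
      refine ⟨0, (0, 1, 0, 0), ?_⟩
      show (mZ1 : Matrix (Fin 4) (Fin 4) F) = _
      simp only [pw, z2_v0, z2_v1, pow_zero, pow_one, mul_one, one_mul, one_smul]
    unfold N0 Cfsg.Geo.subgroupNormalizer
    exact Subgroup.le_normalizer h0
  · apply Units.ext
    show ((Z1G : GL (Fin 4) F) ^ 2 : GL (Fin 4) F).val = 1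
    rw [pow_two, Units.val_mul]
    exact mZ1_sq
  · show Matrix.trace (mZ1 : Matrix (Fin 4) (Fin 4) F) = 0
    simp [mZ1, Matrix.trace, Fin.sum_univ_four]
  · rw [Cfsg.Agent.S2677.mem_GU_iff_matrix 4 bar hbar]
    exact CZm_unitary bar
  · obtain ⟨_, h1, h2, h3, h4, _⟩ := (Cfsg.Agent.Helper42.P4.CZ_rel (F := F))
    apply Cfsg.Agent.Helper42.P4.mem_N0_of_gens hi
    · exact ⟨0, (1, 0, 0, 1), by rw [pow_zero, one_smul]; exact h1⟩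
    · exact ⟨0, (0, 1, 0, 0), by rw [pow_zero, one_smul]; exact h2⟩
    · exact ⟨0, (0, 1, 1, 0), by rw [pow_zero, one_smul]; exact h3⟩
    · exact ⟨0, (0, 0, 0, 1), by rw [pow_zero, one_smul]; exact h4⟩
  · apply Units.ext
    show ((CZG : GL (Fin 4) F) ^ 2 : GL (Fin 4) F).val = 1
    rw [pow_two, Units.val_mul]
    exact CZm_mul_self
  · exact (Cfsg.Agent.Helper42.P4.CZ_rel (F := F)).2.2.2.2.2

/-- (Y2) `mZ1` and `CZm` -/
theorem exists_invols {p : ℕ} (bar : F →+* F) (hbar : ∀ x, bar x = x ^ p) {i : F} (hi : i ^ 2 = -1) :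
    ∃ y0 y2 : GL (Fin 4) F, y0 ∈ Cfsg.GU 4 F p ∧ y0 ∈ N0 i hi ∧ y0 ^ 2 = 1 ∧
      Matrix.trace (y0 : Matrix (Fin 4) (Fin 4) F) = 0 ∧
      y2 ∈ Cfsg.GU 4 F p ∧ y2 ∈ N0 i hi ∧ y2 ^ 2 = 1 ∧
      Matrix.trace (y2 : Matrix (Fin 4) (Fin 4) F) = 2 :=
  ⟨Z1G, CZG, exists_invols_aux bar hbar hi⟩

theorem neg_one_ne_one_of_two_ne (h2 : (2 : F) ≠ 0) : (-1 : F) ≠ 1 := by
  intro h
  apply h2
  have : (2 : F) = 1 - (-1) := by ring
  rw [this, h]; ring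

/-- (Y2') amended version: the two involutions are not `±1` -/
theorem exists_invols' {p : ℕ} (bar : F →+* F) (hbar : ∀ x, bar x = x ^ p) (h2 : (2 : F) ≠ 0)
    {i : F} (hi : i ^ 2 = -1) :
    ∃ y0 y2 : GL (Fin 4) F, y0 ∈ Cfsg.GU 4 F p ∧ y0 ∈ N0 i hi ∧ y0 ^ 2 = 1 ∧
      Matrix.trace (y0 : Matrix (Fin 4) (Fin 4) F) = 0 ∧
      (y0 : Matrix (Fin 4) (Fin 4) F) ≠ 1 ∧ (y0 : Matrix (Fin 4) (Fin 4) F) ≠ -1 ∧
      y2 ∈ Cfsg.GU 4 F p ∧ y2 ∈ N0 i hi ∧ y2 ^ 2 = 1 ∧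
      Matrix.trace (y2 : Matrix (Fin 4) (Fin 4) F) = 2 ∧
      (y2 : Matrix (Fin 4) (Fin 4) F) ≠ 1 ∧ (y2 : Matrix (Fin 4) (Fin 4) F) ≠ -1 := by
  have hne : (-1 : F) ≠ 1 := neg_one_ne_one_of_two_ne h2
  have hA := exists_invols_aux (p := p) bar hbar hi
  obtain ⟨a1, a2, a3, a4, b1, b2, b3, b4⟩ := hA
  refine ⟨Z1G, CZG, a1, a2, a3, a4, ?_, ?_, b1, b2, b3, b4, ?_, ?_⟩
  · intro h
    have := congrFun (congrFun h 3) 3
    change (mZ1 : Matrix (Fin 4) (Fin 4) F) 3 3 = (1 : Matrix (Fin 4) (Fin 4) F) 3 3 at this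
    simp [mZ1] at this
    exact hne this
  · intro h
    have := congrFun (congrFun h 0) 0
    change (mZ1 : Matrix (Fin 4) (Fin 4) F) 0 0 = (-1 : Matrix (Fin 4) (Fin 4) F) 0 0 at this
    simp [mZ1] at this
    exact hne this.symm
  · intro h
    have := congrFun (congrFun h 3) 3
    change (CZm : Matrix (Fin 4) (Fin 4) F) 3 3 = (1 : Matrix (Fin 4) (Fin 4) F) 3 3 at this
    simp [CZm] at this
    exact hne this
  · intro h
    have := congrFun (congrFun h 0) 0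
    change (CZm : Matrix (Fin 4) (Fin 4) F) 0 0 = (-1 : Matrix (Fin 4) (Fin 4) F) 0 0 at this
    simp [CZm] at this
    exact hne this.symm

end Cfsg.Agent.Helper1.U4
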