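import Mathlib
import Cfsg.Prelude.Def_Transfer
import Cfsg.Agent.Helper21.WardDefs

set_option autoImplicit false

/-!
# Ward's theorem, piece (W11): from the ambient form to automorphism groups

`H := G ⋊ A`; `p ∤ |G|` comes from the fixed point congruence for the `p`-group `A`.
-/

namespace Cfsg.Agent.Helper1.Ward

open Subgroup Cfsg.Agent.Helper21.Ward

universe u

theorem ward_of_ambient (hW : WardAmbientStmt.{u}) {G : Type u} [Group G] [Finite G]
    (hG : Group.IsSolvable G) {p : ℕ} (hp : p.Prime) (A : Subgroup (MulAut G))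
    (hA : Cfsg.IsElementaryAbelian p A) (hcard : Nat.card A = p ^ 2)
    (hfpf : ∀ g : G, (∀ a ∈ A, a g = g) → g = 1) :
    ∃ N : Subgroup G, N.Normal ∧ (∃ k : ℕ, N.lowerCentralSeries k = ⊥) ∧
      ∃ k : ℕ, (⊤ : Subgroup G).lowerCentralSeries k ≤ N := by
  classical
  haveI : Fact p.Prime := ⟨hp⟩
  let H := G ⋊[A.subtype] A
  haveI : Finite A := Nat.finite_of_card_ne_zero (by rw [hcard]; exact pow_ne_zero _ hp.ne_zero)
  haveI : Finite H := Finite.of_equiv _ (SemidirectProduct.equivProd (φ := A.subtype)).symm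
  let iL : G →* H := SemidirectProduct.inl
  let iR : A →* H := SemidirectProduct.inr
  have hiL : Function.Injective iL := SemidirectProduct.inl_injective
  have hiR : Function.Injective iR := SemidirectProduct.inr_injective
  have hconj : ∀ (a : A) (g : G), iR a * iL g * (iR a)⁻¹ = iL ((a : MulAut G) g) := by
    intro a g
    have := SemidirectProduct.inl_aut (φ := A.subtype) a g
    rw [map_inv] at this
    exact this.symm
  -- `p ∤ |G|`
  have hApg : IsPGroup p A := IsPGroup.of_card hcard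
  have hpG : ¬ p ∣ Nat.card G := by
    have h1 := hApg.card_modEq_card_fixedPoints (α := G)
    have h2 : Nat.card (MulAction.fixedPoints A G) = 1 := by
      rw [Nat.card_eq_one_iff_unique]
      refine ⟨⟨?_⟩, ⟨⟨1, fun a => by
        show (a : MulAut G) • (1 : G) = 1
        rw [MulAut.smul_def, map_one]⟩⟩⟩
      rintro ⟨x, hx⟩ ⟨y, hy⟩
      apply Subtype.ext
      show x = y
      have hx1 : x = 1 := hfpf x (fun a ha => by
        have := hx ⟨a, ha⟩
        exact this)
      have hy1 : y = 1 := hfpf y (fun a ha => by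
        have := hy ⟨a, ha⟩
        exact this)
      rw [hx1, hy1]
    rw [h2] at h1
    intro hdvd
    have h3 : Nat.card G ≡ 0 [MOD p] := (Nat.modEq_zero_iff_dvd).mpr hdvd
    have h4 : 1 ≡ 0 [MOD p] := h1.symm.trans h3
    have h5 : p ∣ 1 := (Nat.modEq_zero_iff_dvd).mp h4
    exact hp.one_lt.ne' (Nat.dvd_one.mp h5)
  -- the data in `H`
  set G' : Subgroup H := iL.range with hG'
  set A' : Subgroup H := iR.range with hA'
  have hEA : Helper48.IsEA2 p A' := by
    refine ⟨?_, ?_, ?_⟩
    · rintro _ ⟨a, rfl⟩ _ ⟨b, rfl⟩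
      rw [← map_mul, ← map_mul]
      congr 1
      exact hA.1.is_comm.comm a b
    · rintro _ ⟨a, rfl⟩
      rw [← map_pow]
      have : a ^ p = 1 := Subtype.ext (by simpa using hA.2 a a.2)
      rw [this, map_one]
    · rw [hA', Nat.card_congr (MonoidHom.ofInjective hiR).toEquiv.symm, hcard]
  have hGn : G'.Normal := by
    rw [hG', show iL.range = (SemidirectProduct.rightHom (φ := A.subtype)).ker from
      SemidirectProduct.range_inl_eq_ker_rightHom]
    infer_instance
  have hGA : G' ⊔ A' = ⊤ := by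
    rw [eq_top_iff]
    intro x _
    have hx : x = iL x.left * iR x.right := (SemidirectProduct.inl_left_mul_inr_right x).symm
    rw [hx]
    exact Subgroup.mul_mem _ (Subgroup.mem_sup_left ⟨_, rfl⟩) (Subgroup.mem_sup_right ⟨_, rfl⟩)
  have hGsol : Group.IsSolvable G' := solvable_of_surjective iL.rangeRestrict_surjective
  have hcardG' : Nat.card G' = Nat.card G :=
    Nat.card_congr (MonoidHom.ofInjective hiL).toEquiv.symm
  have hpG' : ¬ p ∣ Nat.card G' := by rw [hcardG']; exact hpG
  have hfix : G' ⊓ centralizer (A' : Set H) = ⊥ := by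
    rw [eq_bot_iff]
    rintro _ ⟨⟨g, rfl⟩, hc⟩
    rw [mem_bot]
    have hg1 : g = 1 := by
      apply hfpf
      intro a ha
      have h1 : iR ⟨a, ha⟩ * iL g = iL g * iR ⟨a, ha⟩ := hc (iR ⟨a, ha⟩) ⟨_, rfl⟩
      have h2 : iR ⟨a, ha⟩ * iL g * (iR ⟨a, ha⟩)⁻¹ = iL g := by
        rw [h1, mul_inv_cancel_right]
      rw [hconj] at h2
      exact hiL h2
    rw [hg1, map_one]
  obtain ⟨N, hNn, hNG, ⟨k₁, hk₁⟩, ⟨k₂, hk₂⟩⟩ := hW H p G' A' hEA hGn hGA hGsol hpG' hfix
  refine ⟨N.comap iL, hNn.comap iL, ⟨k₁, ?_⟩, ⟨k₂, ?_⟩⟩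
  · have hmap : (N.comap iL).map iL = N := by
      rw [Subgroup.map_comap_eq, inf_eq_right]
      exact hNG
    have : ((N.comap iL).lowerCentralSeries k₁).map iL = ⊥ := by
      rw [Subgroup.map_lowerCentralSeries, hmap, hk₁]
    exact (Subgroup.map_eq_bot_iff_of_injective _ hiL).mp this
  · rw [← Subgroup.map_le_iff_le_comap, Subgroup.map_lowerCentralSeries, ← MonoidHom.range_eq_map]
    exact hk₂

end Cfsg.Agent.Helper1.Ward
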